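import Groth.Agent.ProEtS.Site
import Groth.Agent.ProEtW.Contractible
import Mathlib.AlgebraicGeometry.Cover.Sigma
import Mathlib.AlgebraicGeometry.Morphisms.Flat
import Mathlib.AlgebraicGeometry.Pullbacks

/-!
Affine objects of the small pro-etale site, clopen decompositions, weakly contractible objects.
-/

universe u

open CategoryTheory CategoryTheory.Limits AlgebraicGeometry Opposite

namespace Groth.Agent.ProEtS.Affine

open Groth.Agent.ProEtS

set_option backward.isDefEq.respectTransparency.types false in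
theorem weaklyEtale_SpecMap_iff (R S : Type u) [CommRing R] [CommRing S] [Algebra R S] :
    WeaklyEtale (Spec.map (CommRingCat.ofHom (algebraMap R S))) ↔ Algebra.WeaklyEtale R S := by
  have h1 : Flat (Spec.map (CommRingCat.ofHom (algebraMap R S))) ↔ Module.Flat R S :=
    (HasRingHomProperty.Spec_iff (P := @Flat)).trans RingHom.flat_algebraMap_iff
  have h2 : Flat (pullback.diagonal (Spec.map (CommRingCat.ofHom (algebraMap R S)))) ↔
      (Algebra.TensorProduct.lmul' R (S := S)).Flat := by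
    rw [diagonal_SpecMap, MorphismProperty.cancel_right_of_respectsIso (P := @Flat)]
    exact HasRingHomProperty.Spec_iff (P := @Flat)
  exact ⟨fun h => ⟨h1.1 h.flat, h2.1 h.flat_diagonal⟩, fun h => ⟨h1.2 h.flat, h2.2 h.flat_lmul'⟩⟩

set_option backward.isDefEq.respectTransparency.types false in
/-- Weakly etale surjections of affine schemes onto the spectrum of a w-contractible ring split. -/
theorem exists_section {U W : Scheme.{u}} [IsAffine U] [IsAffine W] (p : W ⟶ U) [WeaklyEtale p]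
    [Surjective p] (h : EtPBC.IsWContractible ↥Γ(U, ⊤)) : ∃ s : U ⟶ W, s ≫ p = 𝟙 U := by
  let : Algebra ↥Γ(U, ⊤) ↥Γ(W, ⊤) := p.appTop.hom.toAlgebra
  have e : Spec.map p.appTop = W.isoSpec.inv ≫ p ≫ U.isoSpec.hom := by
    rw [← Scheme.isoSpec_hom_naturality, Iso.inv_hom_id_assoc]
  have hwe : WeaklyEtale (Spec.map (CommRingCat.ofHom (algebraMap ↥Γ(U, ⊤) ↥Γ(W, ⊤)))) := by
    show WeaklyEtale (Spec.map p.appTop)
    rw [e]
    infer_instance
  have hw := (weaklyEtale_SpecMap_iff _ _).1 hwe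
  have hsurj : Surjective (Spec.map p.appTop) := by
    rw [e]
    infer_instance
  have : Module.Flat ↥Γ(U, ⊤) ↥Γ(W, ⊤) := hw.flat
  have hff : Module.FaithfullyFlat ↥Γ(U, ⊤) ↥Γ(W, ⊤) :=
    Module.FaithfullyFlat.of_comap_surjective fun x => hsurj.surj x
  obtain ⟨r⟩ := h _ hff hw
  refine ⟨U.isoSpec.hom ≫ Spec.map (CommRingCat.ofHom r.toRingHom) ≫ W.isoSpec.inv, ?_⟩
  have h2 : Spec.map (CommRingCat.ofHom r.toRingHom) ≫ Spec.map p.appTop = 𝟙 _ := by
    rw [← Spec.map_comp, ← Spec.map_id]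
    congr 1
    ext a
    exact r.commutes a
  rw [Category.assoc, Category.assoc, ← Scheme.isoSpec_inv_naturality, reassoc_of% h2,
    Iso.hom_inv_id]

variable {X : Scheme.{u}}

set_option backward.isDefEq.respectTransparency.types false in
/-- A covering sieve of an affine object contains a finite affine jointly surjective family. -/
theorem exists_affine_cover {U : X.ProEt} [IsAffine U.left] {S : Sieve U}
    (hS : S ∈ Scheme.ProEt.topology X U) :
    ∃ (n : ℕ) (V : Fin n → X.ProEt) (g : ∀ i, V i ⟶ U),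
      (∀ i, IsAffine (V i).left) ∧ (∀ i, S (g i)) ∧ (∀ i, WeaklyEtale (g i).left) ∧
      ∀ x, ∃ i, x ∈ Set.range (g i).left := by
  rw [Site.mem_topology_iff, Scheme.proetaleTopology,
    Precoverage.mem_toGrothendieck_iff_of_isStableUnderComposition] at hS
  obtain ⟨R, hR, hle⟩ := hS
  obtain ⟨𝒰, _, rfl⟩ := Scheme.mem_propQCPrecoverage_iff_exists_quasiCompactCover.1 hR
  obtain ⟨𝒱, f, hfin, -⟩ := QuasiCompactCover.exists_hom 𝒰
  have hmem : ∀ j, Site.under S (𝒱.f j) := fun j => by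
    have h0 : Site.under S (f.h₀ j ≫ 𝒰.f (f.s₀ j)) :=
      (Site.under S).downward_closed (hle _ _ (Presieve.ofArrows.mk (f.s₀ j))) _
    rwa [f.w₀ j] at h0
  choose V g k hg hk using hmem
  have hw : ∀ j, WeaklyEtale (𝒱.f j) := 𝒱.map_prop
  let W : 𝒱.I₀ → X.ProEt := fun j => Scheme.ProEt.mk (𝒱.f j ≫ U.hom)
  let a : ∀ j, W j ⟶ U := fun j => MorphismProperty.Over.homMk (𝒱.f j) rfl trivial
  obtain ⟨n, ⟨e⟩⟩ := @Finite.exists_equiv_fin 𝒱.I₀ hfin
  refine ⟨n, fun i => W (e.symm i), fun i => a (e.symm i),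
    fun i => inferInstanceAs (IsAffine (Spec _)), fun i => ?_, fun i => hw _, fun x => ?_⟩
  swap
  · refine ⟨e (𝒱.idx x), ?_⟩
    exact (fun j hj => hj ▸ 𝒱.covers x : ∀ j, j = 𝒱.idx x → x ∈ Set.range (𝒱.f j)) _
      (e.symm_apply_apply _)
  show S (a (e.symm i))
  generalize e.symm i = j
  let b : W j ⟶ V j := MorphismProperty.Over.homMk (k j)
    ((congrArg (k j ≫ ·) (Over.w (g j).hom)).symm.trans
      ((Category.assoc _ _ _).symm.trans (congrArg (· ≫ U.hom) (hk j))) :) trivial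
  have : a j = b ≫ g j := by
    apply (Scheme.ProEt.forget X).map_injective
    exact Over.OverMorphism.ext (hk j).symm
  rw [this]
  exact S.downward_closed (hg j) b

set_option backward.isDefEq.respectTransparency.types false in
theorem exists_clopen_refinement (U : X.ProEt) [IsAffine U.left]
    (h : EtPBC.IsWContractible ↥Γ(U.left, ⊤)) {R : Sieve U} (hR : R ∈ Scheme.ProEt.topology X U) :
    ∃ (n : ℕ) (W : Fin n → U.left.Opens),
      (∀ k, IsClopen ((W k : Set ↥U.left))) ∧
      Pairwise (fun k l => Disjoint (W k : Set ↥U.left) (W l)) ∧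
      (⋃ k, (W k : Set ↥U.left)) = Set.univ ∧
      ∀ k, R.arrows (MorphismProperty.Over.homMk (W k).ι :
        Scheme.ProEt.mk ((W k).ι ≫ U.hom) ⟶ U) := by
  obtain ⟨n, V, g, hV, hg, hw, hcov⟩ := exists_affine_cover hR
  let Y : Fin n → Scheme.{u} := fun i => (V i).left
  let d : ∀ i, Y i ⟶ U.left := fun i => (g i).left
  have : ∀ i, IsAffine (Y i) := hV
  have : WeaklyEtale (Sigma.desc d) := IsZariskiLocalAtSource.sigmaDesc hw
  have : Surjective (Sigma.desc d) := ⟨fun x => by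
    obtain ⟨i, y, hy⟩ := hcov x
    exact ⟨Sigma.ι Y i y, by rw [← Scheme.Hom.comp_apply, Sigma.ι_desc]; exact hy⟩⟩
  obtain ⟨s, hs⟩ := exists_section (Sigma.desc d) h
  let O : Fin n → U.left.Opens := fun i => s ⁻¹ᵁ (Sigma.ι Y i).opensRange
  have hOd : ∀ i j, i ≠ j → Disjoint (O i : Set ↥U.left) (O j) := fun i j hij => by
    refine Set.disjoint_left.2 fun x hxi hxj => ?_
    obtain ⟨y, hy⟩ := hxi
    obtain ⟨z, hz⟩ := hxj
    obtain ⟨h1, -⟩ := Sigma.mk.inj_iff.1 ((sigmaι_eq_iff Y i j y z).1 (hy.trans hz.symm))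
    exact hij h1
  have hOu : ∀ x, ∃ i, x ∈ O i := fun x =>
    ⟨(sigmaOpenCover Y).idx (s x), (sigmaOpenCover Y).covers (s x)⟩
  let e : Fin n ≃ Fin n := Equiv.refl _
  refine ⟨n, fun k => O (e.symm k), fun k => ⟨?_, (O _).isOpen⟩,
    fun k l hkl => hOd _ _ (e.symm.injective.ne hkl), Set.eq_univ_of_forall fun x => ?_, fun k => ?_⟩
  · have : ((O (e.symm k) : Set ↥U.left))ᶜ = ⋃ j ∈ {j | j ≠ e.symm k}, (O j : Set ↥U.left) := by
      ext x
      simp only [Set.mem_compl_iff, Set.mem_iUnion, exists_prop, Set.mem_ofPred_eq]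
      refine ⟨fun hx => ?_, fun ⟨j, hj, hx⟩ hx' => Set.disjoint_left.1 (hOd _ _ hj) hx hx'⟩
      obtain ⟨j, hj⟩ := hOu x
      exact ⟨j, fun h => hx (h ▸ hj), hj⟩
    rw [← isOpen_compl_iff, this]
    exact isOpen_biUnion fun j _ => (O j).isOpen
  · obtain ⟨i, hi⟩ := hOu x
    exact Set.mem_iUnion.2 ⟨e i, by simpa using hi⟩
  · let i := e.symm k
    have hr : Set.range ((O i).ι ≫ s) ⊆ Set.range (Sigma.ι Y i) := by
      rintro _ ⟨x, rfl⟩
      exact x.2
    let m := IsOpenImmersion.lift (Sigma.ι Y i) ((O i).ι ≫ s) hr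
    have hm : m ≫ d i = (O i).ι := by
      rw [← Sigma.ι_desc d i, ← Category.assoc, IsOpenImmersion.lift_fac, Category.assoc, hs,
        Category.comp_id]
    let a : Scheme.ProEt.mk ((O i).ι ≫ U.hom) ⟶ U := MorphismProperty.Over.homMk (O i).ι
    show R a
    let b : Scheme.ProEt.mk ((O i).ι ≫ U.hom) ⟶ V i := MorphismProperty.Over.homMk m
      ((congrArg (m ≫ ·) (Over.w (g i).hom)).symm.trans
        ((Category.assoc _ _ _).symm.trans (congrArg (· ≫ U.hom) hm)) :) trivial
    have : a = b ≫ g i := by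
      apply (Scheme.ProEt.forget X).map_injective
      exact Over.OverMorphism.ext hm.symm
    rw [this]
    exact R.downward_closed (hg i) b

end Groth.Agent.ProEtS.Affine
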