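import Groth.Agent.ProEtS.EpsElem

/-!
The unit `F ⟶ ε_* ε⁻¹ F` is bijective on sections.
-/

universe u

open CategoryTheory CategoryTheory.Limits AlgebraicGeometry Opposite

namespace Groth.Agent.ProEtS.EpsUnit

open Groth.Agent.ProEtS EpsElem

local notation "ε" => _root_.ProEtS.eps

variable {X : Scheme.{u}} (F : EtCoh.Ab X)

set_option backward.isDefEq.respectTransparency.types false in
theorem eq_zero_of_scls_id {U : X.Etale} (s : F.obj.obj (op U)) (h : scls F (𝟙 ((ε X).obj U)) s = 0) :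
    s = 0 :=
  eq_zero_of_forall_mem_Z F ((scls_eq_zero_iff F _ s).1 h)

set_option backward.isDefEq.respectTransparency.types false in
/-- A section vanishing on some cover member vanishes on an etale neighbourhood of the image point. -/
theorem exists_nhd_eq_zero {U' : X.Etale} [IsAffine ((ε X).obj U').left]
    (d : (shf F).obj.obj (op ((ε X).obj U'))) {W : X.ProEt}
    (b : W ⟶ (ε X).obj U') (h : (shf F).obj.map b.op d = 0) (w : W.left) :
    ∃ (U'' : X.Etale) (g : U'' ⟶ U') (x : U''.left), g.left x = b.left w ∧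
      (shf F).obj.map ((ε X).map g).op d = 0 := by
  obtain ⟨n, V, g, hV, hg, hw, hcov⟩ := Affine.exists_affine_cover
    (Presheaf.imageSieve_mem (Scheme.ProEt.topology X)
      (toSheafify (Scheme.ProEt.topology X) (pre F)) d)
  have hrep : ∀ i, ∃ (U : X.Etale) (a : V i ⟶ (ε X).obj U) (s : F.obj.obj (op U)),
      (shf F).obj.map (g i).op d = scls F a s := by
    intro i
    obtain ⟨p, hp⟩ := hg i
    obtain ⟨U, a, s, rfl⟩ := exists_cls F _ p
    exact ⟨U, a, s, hp.symm⟩
  choose U a s hs using hrep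
  let good : ∀ i, Set ↥(V i).left := fun i => (a i).left ⁻¹' Z F (s i)
  have key : ∀ (i : Fin n) (v : (V i).left) (W' : X.ProEt) (k : W' ⟶ (ε X).obj U') (w' : W'.left)
      (U₀ : X.Etale) (c : W' ⟶ (ε X).obj U₀) (t : F.obj.obj (op U₀)),
      (shf F).obj.map k.op d = scls F c t → k.left w' = (g i).left v →
      (v ∈ good i ↔ c.left w' ∈ Z F t) := by
    intro i v W' k w' U₀ c t hd hv
    have := weaklyEtale_left k
    have : WeaklyEtale ((g i).left) := hw i
    obtain ⟨e, he1, he2⟩ := Scheme.Pullback.exists_preimage_pullback (f := (g i).left) (g := k.left)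
      v w' hv.symm
    have : WeaklyEtale (pullback.fst (g i).left k.left) :=
      MorphismProperty.pullback_fst (P := @WeaklyEtale) _ _ (weaklyEtale_left k)
    have : WeaklyEtale (pullback.fst (g i).left k.left ≫ (V i).hom) :=
      MorphismProperty.comp_mem (W := @WeaklyEtale) _ _ (show WeaklyEtale _ from inferInstance) (V i).prop
    let P2 : X.ProEt := Scheme.ProEt.mk (pullback.fst (g i).left k.left ≫ (V i).hom)
    have eq1 : pullback.snd (g i).left k.left ≫ k.left = pullback.fst (g i).left k.left ≫ (g i).left :=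
      pullback.condition.symm
    let p : P2 ⟶ V i := MorphismProperty.Over.homMk (pullback.fst (g i).left k.left) rfl trivial
    let q : P2 ⟶ W' := MorphismProperty.Over.homMk (pullback.snd (g i).left k.left)
      ((congrArg (pullback.snd (g i).left k.left ≫ ·) (Over.w k.hom)).symm.trans
        ((Category.assoc _ _ _).symm.trans ((congrArg (· ≫ ((ε X).obj U').hom) eq1).trans
          ((Category.assoc _ _ _).trans
            (congrArg (pullback.fst (g i).left k.left ≫ ·) (Over.w (g i).hom))))) :) trivial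
    have hpq : p ≫ g i = q ≫ k := MorphismProperty.Over.Hom.ext eq1.symm
    have h1 : scls F (p ≫ a i) (s i) = scls F (q ≫ c) t := by
      rw [← map_scls, ← map_scls, ← hs, ← hd, ← map_comp_apply, ← map_comp_apply, hpq]
    have h2 := mem_Z_iff F _ _ _ _ h1 e
    show (a i).left v ∈ Z F (s i) ↔ c.left w' ∈ Z F t
    rw [← he1, ← he2, ← Scheme.Hom.comp_apply, ← Scheme.Hom.comp_apply]
    exact h2
  let G : Set ↥((ε X).obj U').left := {x | ∃ (i : Fin n) (v : (V i).left), (g i).left v = x ∧ v ∈ good i}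
  have hpre : ∀ i, (g i).left ⁻¹' G = good i := fun i => Set.ext fun v => by
    refine ⟨fun ⟨j, v', hv', hgood⟩ => ?_, fun hgood => ⟨i, v, rfl, hgood⟩⟩
    exact (key i v _ (g j) v' _ (a j) (s j) (hs j) hv').2 hgood
  have hG : IsOpen G := by
    let Y : Fin n → Scheme.{u} := fun i => (V i).left
    let D : ∐ Y ⟶ ((ε X).obj U').left := Sigma.desc fun i => (g i).left
    have : ∀ i, IsAffine (Y i) := hV
    have : WeaklyEtale D := IsZariskiLocalAtSource.sigmaDesc hw
    have : Surjective D := ⟨fun x => by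
      obtain ⟨i, y, hy⟩ := hcov x
      exact ⟨Sigma.ι Y i y, by rw [← Scheme.Hom.comp_apply, Sigma.ι_desc]; exact hy⟩⟩
    rw [← (Flat.isQuotientMap_of_surjective D).isOpen_preimage]
    have hD : D ⁻¹' G = ⋃ i, (Sigma.ι Y i) '' good i := by
      ext z
      obtain ⟨i, y, rfl⟩ : ∃ i y, Sigma.ι Y i y = z := ⟨_, (sigmaOpenCover Y).covers z⟩
      have hDi : D (Sigma.ι Y i y) = (g i).left y := by
        rw [← Scheme.Hom.comp_apply, Sigma.ι_desc]
      show D (Sigma.ι Y i y) ∈ G ↔ _
      rw [hDi, ← Set.mem_preimage, hpre i]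
      refine ⟨fun hy => Set.mem_iUnion.2 ⟨i, y, hy, rfl⟩, fun hy => ?_⟩
      obtain ⟨j, y', hy', he⟩ := Set.mem_iUnion.1 hy
      obtain ⟨rfl, h2⟩ := Sigma.mk.inj_iff.1 ((sigmaι_eq_iff Y j i y' y).1 he)
      exact (eq_of_heq h2) ▸ hy'
    rw [hD]
    exact isOpen_iUnion fun i => (Sigma.ι Y i).isOpenEmbedding.isOpenMap _
      ((isOpen_Z F (s i)).preimage (a i).left.continuous)
  obtain ⟨i₀, v₀, hv₀⟩ := hcov (b.left w)
  have hw0 : b.left w ∈ G :=
    ⟨i₀, v₀, hv₀, (key i₀ v₀ W b w U' b 0 (h.trans (scls_zero F b).symm) hv₀.symm).2 (mem_Z_zero F _)⟩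
  let O : U'.left.Opens := ⟨G, hG⟩
  have : Etale U'.hom := U'.prop
  let U'' : X.Etale := Scheme.Etale.mk (O.ι ≫ U'.hom)
  let ι' : U'' ⟶ U' := MorphismProperty.Over.homMk O.ι rfl trivial
  refine ⟨U'', ι', ⟨b.left w, hw0⟩, rfl, ?_⟩
  refine eq_zero_of_sieve (shf F) _ _ (GrothendieckTopology.pullback_stable _ ((ε X).map ι')
    (Presheaf.imageSieve_mem (Scheme.ProEt.topology X)
      (toSheafify (Scheme.ProEt.topology X) (pre F)) d)) fun B f hf => ?_
  obtain ⟨p, hp⟩ := hf
  obtain ⟨U₀, c, t, rfl⟩ := exists_cls F _ p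
  rw [← map_comp_apply, show (shf F).obj.map (f ≫ (ε X).map ι').op d = scls F c t from hp.symm,
    scls_eq_zero_iff]
  intro z
  obtain ⟨i, v, hv, hgood⟩ : O.ι (f.left z) ∈ G := (f.left z).2
  exact (key i v B (f ≫ (ε X).map ι') z U₀ c t hp.symm hv.symm).1 hgood

set_option backward.isDefEq.respectTransparency.types false in
theorem exists_local_preimage {U : X.Etale} (d : (shf F).obj.obj (op ((ε X).obj U))) (u : U.left) :
    ∃ (U' : X.Etale) (g : U' ⟶ U) (x : U'.left) (t : F.obj.obj (op U')), g.left x = u ∧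
      (shf F).obj.map ((ε X).map g).op d = scls F (𝟙 ((ε X).obj U')) t := by
  obtain ⟨W, k, w, U₁, a, s, rfl, hd⟩ := exists_scls F d u
  let T : X.Etale := EtCoh.top X
  let t₁ : U₁ ⟶ T := MorphismProperty.Over.homMk U₁.hom (Category.comp_id _) trivial
  let t₂ : U ⟶ T := MorphismProperty.Over.homMk U.hom (Category.comp_id _) trivial
  have hwT : a ≫ (ε X).map t₁ = k ≫ (ε X).map t₂ :=
    MorphismProperty.Over.Hom.ext ((Over.w a.hom).trans (Over.w k.hom).symm :)
  obtain ⟨U₂, p, q, b, -, hp, hq⟩ := exists_prod t₁ t₂ a k hwT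
  let bl : W.left ⟶ U₂.left := b.left
  obtain ⟨A, hA, hbA, -⟩ := exists_isAffineOpen_mem_and_subset
    (X := U₂.left) (x := bl w) (U := ⊤) trivial
  have : Etale U₂.hom := U₂.prop
  let U₃ : X.Etale := Scheme.Etale.mk (A.ι ≫ U₂.hom)
  let j : U₃ ⟶ U₂ := MorphismProperty.Over.homMk A.ι rfl trivial
  have : IsAffine ((ε X).obj U₃).left := hA
  let O : W.left.Opens := bl ⁻¹ᵁ A
  let W' : X.ProEt := Scheme.ProEt.mk (O.ι ≫ W.hom)
  let i : W' ⟶ W := MorphismProperty.Over.homMk O.ι rfl trivial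
  have hr : Set.range (O.ι ≫ bl) ⊆ Set.range A.ι := by
    rintro _ ⟨z, rfl⟩
    rw [Scheme.Opens.range_ι]
    exact z.2
  let l : (O : Scheme.{u}) ⟶ (A : Scheme.{u}) := IsOpenImmersion.lift A.ι (O.ι ≫ bl) hr
  have hm : l ≫ A.ι = O.ι ≫ bl := IsOpenImmersion.lift_fac _ _ _
  let b' : W' ⟶ (ε X).obj U₃ := MorphismProperty.Over.homMk l
    ((Category.assoc _ _ _).symm.trans ((congrArg (· ≫ U₂.hom) hm).trans
      ((Category.assoc _ _ _).trans (congrArg (O.ι ≫ ·) (show bl ≫ U₂.hom = W.hom from Over.w b.hom)))) :) trivial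
  have hb' : b' ≫ (ε X).map j = i ≫ b := MorphismProperty.Over.Hom.ext hm
  let g₀ : U₃ ⟶ U := j ≫ q
  let s₀ : F.obj.obj (op U₃) := F.obj.map (j ≫ p).op s
  have hbk : b' ≫ (ε X).map g₀ = i ≫ k := by
    rw [Functor.map_comp, ← Category.assoc, hb', Category.assoc, hq]
  have hba : b' ≫ (ε X).map (j ≫ p) = i ≫ a := by
    rw [Functor.map_comp, ← Category.assoc, hb', Category.assoc, hp]
  have h0 : (shf F).obj.map b'.op ((shf F).obj.map ((ε X).map g₀).op d -
      scls F (𝟙 ((ε X).obj U₃)) s₀) = 0 := by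
    rw [map_sub, ← map_comp_apply, hbk, map_comp_apply, hd, map_scls, map_scls, Category.comp_id,
      ← scls_comp, hba, sub_self]
  obtain ⟨U', g, x, hx, hg⟩ := exists_nhd_eq_zero F _ b' h0 ⟨w, hbA⟩
  refine ⟨U', g ≫ g₀, x, F.obj.map g.op s₀, ?_, ?_⟩
  · show g₀.left (g.left x) = _
    rw [hx]
    exact congrArg (fun m : W' ⟶ (ε X).obj U => m.left ⟨w, hbA⟩) hbk
  · rw [map_sub, sub_eq_zero, ← map_comp_apply, ← Functor.map_comp, map_scls, Category.comp_id] at hg
    rw [hg]
    exact scls_comp F (𝟙 _) g s₀ |>.symm.trans (by rw [Category.id_comp]) |>.symm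

set_option backward.isDefEq.respectTransparency.types false in
theorem bijective_scls_id (U : X.Etale) :
    Function.Bijective fun s : F.obj.obj (op U) => scls F (𝟙 ((ε X).obj U)) s := by
  have hinj : ∀ U : X.Etale, Function.Injective fun s : F.obj.obj (op U) =>
      scls F (𝟙 ((ε X).obj U)) s := fun U s t hst =>
    sub_eq_zero.1 (eq_zero_of_scls_id F _ (by rw [scls_sub]; exact sub_eq_zero.2 hst))
  refine ⟨hinj U, fun d => ?_⟩
  choose U' g x t hx ht using fun u => exists_local_preimage F d u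
  have hnat : ∀ {A B : X.Etale} (h : B ⟶ A) (r : F.obj.obj (op A)),
      (shf F).obj.map ((ε X).map h).op (scls F (𝟙 _) r) = scls F (𝟙 _) (F.obj.map h.op r) := by
    intro A B h r
    rw [map_scls, Category.comp_id, ← scls_comp, Category.id_comp]
  have hmem : Sieve.generate (Presieve.ofArrows U' g) ∈ X.smallEtaleTopology U := by
    rw [show X.smallEtaleTopology =
      (X.smallPretopology (P := EtCoh.etaleMP) (Q := EtCoh.etaleMP)).toGrothendieck from
      Scheme.smallGrothendieckTopology_eq_toGrothendieck_smallPretopology X le_rfl]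
    refine (Scheme.mem_toGrothendieck_smallPretopology U _).2 fun y => ?_
    exact ⟨U' y, g y, x y, ⟨U' y, 𝟙 _, g y, ⟨y⟩, Category.id_comp _⟩, etale_left _, hx y⟩
  have hFs := ((isSheaf_iff_isSheaf_of_type _ _).1
    ((sheafCompose X.smallEtaleTopology (forget AddCommGrpCat.{u + 1})).obj F).property) _ hmem
  rw [← Presieve.isSheafFor_iff_generate, Presieve.isSheafFor_arrows_iff] at hFs
  obtain ⟨r, hr, -⟩ := hFs t fun i j B gi gj hij => hinj B (by
    show scls F (𝟙 _) (F.obj.map gi.op (t i)) = scls F (𝟙 _) (F.obj.map gj.op (t j))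
    rw [← hnat, ← hnat, ← ht, ← ht, ← map_comp_apply, ← map_comp_apply, ← Functor.map_comp,
      ← Functor.map_comp, hij])
  refine ⟨r, sub_eq_zero.1 (eq_zero_of_sieve (shf F) _ _ (Site.generate_mem
    (fun y => (ε X).obj (U' y)) (fun y => (ε X).map (g y))
    (Scheme.etalePrecoverage_le_proetalePrecoverage _
      ((Scheme.ofArrows_mem_precoverage_iff @Etale (X := fun y => (U' y).left)
        (f := fun y => (g y).left)).2 ⟨fun y => ⟨y, x y, hx y⟩, fun y => etale_left (g y)⟩))) ?_)⟩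
  rintro B f ⟨_, k, _, ⟨y⟩, rfl⟩
  rw [map_comp_apply, map_sub, hnat, ht y,
    show F.obj.map (g y).op r = t y from hr y, sub_self, map_zero]

end Groth.Agent.ProEtS.EpsUnit
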