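import Groth.Agent.ProEtS.Affine
import Mathlib.AlgebraicGeometry.Sites.QuasiCompact
import Mathlib.CategoryTheory.Sites.LocallySurjective

/-!
Weakly contractible objects of the small pro-etale site.
-/

universe u w

open CategoryTheory CategoryTheory.Limits AlgebraicGeometry Opposite

namespace Groth.Agent.ProEtS.WC

open Groth.Agent.ProEtS

variable {X : Scheme.{u}}

theorem subsingleton_of_isEmpty (F : Sheaf (Scheme.ProEt.topology X) (Type w)) (Z : X.ProEt)
    [IsEmpty Z.left] : Subsingleton (F.obj.obj (op Z)) :=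
  ⟨fun a b => ((isSheaf_iff_isSheaf_of_type _ _).1 F.property (⊥ : Sieve Z)
    (Scheme.ProEt.bot_mem_topology Z)).isSeparatedFor.ext fun _ _ h => (h : False).elim⟩

set_option backward.isDefEq.respectTransparency.types false in
/-- Open pieces form a covering. -/
theorem ofArrows_mem_of_isOpenImmersion {V : X.ProEt} {ι : Type u} (W : ι → X.ProEt)
    (a : ∀ i, W i ⟶ V) (ho : ∀ i, IsOpenImmersion (a i).left)
    (hc : ∀ x, ∃ i, x ∈ Set.range (a i).left) : Sieve.ofArrows W a ∈ Scheme.ProEt.topology X V :=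
  Site.generate_mem W a (Scheme.zariskiPrecoverage_le_propQCPrecoverage _
    ((Scheme.ofArrows_mem_precoverage_iff @IsOpenImmersion).2 ⟨hc, ho⟩))

set_option backward.isDefEq.respectTransparency.types false in
/-- Sections over a disjoint union of opens are families of sections. -/
theorem existsUnique_glue (F : Sheaf (Scheme.ProEt.topology X) (Type w)) {V : X.ProEt} {ι : Type u}
    (W : ι → X.ProEt) (a : ∀ i, W i ⟶ V) (ho : ∀ i, IsOpenImmersion (a i).left)
    (hd : ∀ i j, i ≠ j → Disjoint (Set.range (a i).left) (Set.range (a j).left))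
    (hc : ∀ x, ∃ i, x ∈ Set.range (a i).left) (x : ∀ i, F.obj.obj (op (W i))) :
    ∃! y : F.obj.obj (op V), ∀ i, F.obj.map (a i).op y = x i := by
  have h' := (Presieve.isSheafFor_arrows_iff _ _).1 ((Presieve.isSheafFor_iff_generate
    (Presieve.ofArrows W a)).2 ((((isSheaf_iff_isSheaf_of_type _ _).1 F.property) _
      (ofArrows_mem_of_isOpenImmersion W a ho hc))))
  refine h' x fun i j Z gi gj hij => ?_
  by_cases hne : i = j
  · subst hne
    have := ho i
    have : gi = gj := by
      apply (Scheme.ProEt.forget X).map_injective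
      refine Over.OverMorphism.ext ((cancel_mono (a i).left).1 ?_)
      exact congrArg (fun m : Z ⟶ V => m.left) hij
    rw [this]
  · have : IsEmpty Z.left := ⟨fun z => Set.disjoint_left.1 (hd i j hne) ⟨gi.left z, rfl⟩
      ⟨gj.left z, by
        rw [← Scheme.Hom.comp_apply, ← Scheme.Hom.comp_apply]
        exact congrArg (fun m : Z ⟶ V => m.left z) hij.symm⟩⟩
    exact @Subsingleton.elim _ (subsingleton_of_isEmpty F Z) _ _

theorem imageSieve_mem_of_epi {F G : Sheaf (Scheme.ProEt.topology X) (Type (u + 1))} (φ : F ⟶ G)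
    (hφ : Epi φ) {V : X.ProEt} (s : G.obj.obj (op V)) :
    Presheaf.imageSieve φ.hom s ∈ Scheme.ProEt.topology X V :=
  have : Sheaf.IsLocallySurjective φ := (Sheaf.isLocallySurjective_iff_epi φ).2 hφ
  Presheaf.imageSieve_mem _ φ.hom s

set_option backward.isDefEq.respectTransparency.types false in
/-- A disjoint union of weakly contractible objects is weakly contractible. -/
theorem isWC_of_disjoint {V : X.ProEt} {ι : Type u} (W : ι → X.ProEt) (a : ∀ i, W i ⟶ V)
    (ho : ∀ i, IsOpenImmersion (a i).left)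
    (hd : ∀ i j, i ≠ j → Disjoint (Set.range (a i).left) (Set.range (a j).left))
    (hc : ∀ x, ∃ i, x ∈ Set.range (a i).left) (hW : ∀ i, _root_.ProEtS.IsWC (W i)) :
    _root_.ProEtS.IsWC V := by
  intro F G φ hφ s
  choose x hx using fun i => hW i F G φ hφ (G.obj.map (a i).op s)
  obtain ⟨y, hy, -⟩ := existsUnique_glue F W a ho hd hc x
  refine ⟨y, (existsUnique_glue G W a ho hd hc fun i => G.obj.map (a i).op s).unique
    (fun i => ?_) fun i => rfl⟩
  show G.obj.map (a i).op (φ.hom.app _ y) = G.obj.map (a i).op s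
  rw [← hx i, ← hy i]
  exact (NatTrans.naturality_apply φ.hom (a i).op y).symm

set_option backward.isDefEq.respectTransparency.types false in
theorem isWC_of_isWContractible (U : X.ProEt) [IsAffine U.left]
    (h : EtPBC.IsWContractible ↥Γ(U.left, ⊤)) : _root_.ProEtS.IsWC U := by
  intro F G φ hφ s
  obtain ⟨n, W, -, hd, hu, hW⟩ := Affine.exists_clopen_refinement U h (imageSieve_mem_of_epi φ hφ s)
  choose x hx using hW
  let ι := ULift.{u} (Fin n)
  let V : ι → X.ProEt := fun k => Scheme.ProEt.mk ((W k.down).ι ≫ U.hom)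
  let a : ∀ k, V k ⟶ U := fun k => MorphismProperty.Over.homMk (W k.down).ι
  have ho : ∀ k, IsOpenImmersion (a k).left := fun k => inferInstanceAs (IsOpenImmersion (W k.down).ι)
  have hr : ∀ k, Set.range (a k).left = (W k.down : Set ↥U.left) := fun k => Scheme.Opens.range_ι _
  have hd' : ∀ i j, i ≠ j → Disjoint (Set.range (a i).left) (Set.range (a j).left) := fun i j hij => by
    rw [hr, hr]
    exact hd fun h => hij (ULift.ext _ _ h)
  have hc : ∀ x, ∃ i, x ∈ Set.range (a i).left := fun x => by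
    obtain ⟨k, hk⟩ := Set.mem_iUnion.1 (Set.eq_univ_iff_forall.1 hu x)
    exact ⟨⟨k⟩, hr ⟨k⟩ ▸ hk⟩
  obtain ⟨y, hy, -⟩ := existsUnique_glue F V a ho hd' hc fun k => x k.down
  refine ⟨y, (existsUnique_glue G V a ho hd' hc fun k => G.obj.map (a k).op s).unique
    (fun k => ?_) fun k => rfl⟩
  show G.obj.map (a k).op (φ.hom.app _ y) = G.obj.map (a k).op s
  refine Eq.trans (NatTrans.naturality_apply φ.hom (a k).op y).symm ?_
  rw [hy k]
  exact hx k.down

set_option backward.isDefEq.respectTransparency.types false in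
/-- Weakly etale coverings of affine schemes by affine schemes with the section property. -/
theorem isWContractible_of_forall_section (U : X.ProEt) [IsAffine U.left]
    (h : ∀ (V : X.ProEt) (g : V ⟶ U), Sieve.generate (Presieve.singleton g) ∈ Scheme.ProEt.topology X U →
      IsAffine V.left → ∃ t : U.left ⟶ V.left, t ≫ g.left = 𝟙 U.left) :
    EtPBC.IsWContractible ↥Γ(U.left, ⊤) := by
  intro B _ _ hff hw
  let p : Spec (CommRingCat.of B) ⟶ U.left :=
    Spec.map (CommRingCat.ofHom (algebraMap ↥Γ(U.left, ⊤) B)) ≫ U.left.isoSpec.inv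
  have := (Affine.weaklyEtale_SpecMap_iff ↥Γ(U.left, ⊤) B).2 hw
  have : Surjective (Spec.map (CommRingCat.ofHom (algebraMap ↥Γ(U.left, ⊤) B))) :=
    ⟨PrimeSpectrum.comap_surjective_of_faithfullyFlat (A := ↥Γ(U.left, ⊤)) (B := B)⟩
  have : WeaklyEtale p := inferInstance
  let V : X.ProEt := Scheme.ProEt.mk (p ≫ U.hom)
  let g : V ⟶ U := MorphismProperty.Over.homMk p
  have hmem : Sieve.generate (Presieve.singleton g) ∈ Scheme.ProEt.topology X U := by
    have : Surjective p := inferInstance
    have h2 := Site.generate_mem (U := U) (fun _ : Unit => V) (fun _ => g) (by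
      rw [Presieve.ofArrows_of_unique]
      exact Scheme.Hom.singleton_mem_propQCPrecoverage (f := p) inferInstance)
    rwa [Sieve.ofArrows, Presieve.ofArrows_pUnit] at h2
  obtain ⟨t, ht⟩ := h V g hmem (inferInstanceAs (IsAffine (Spec _)))
  obtain ⟨r, hr⟩ := Spec.map_surjective (U.left.isoSpec.inv ≫ t)
  refine ⟨{ r.hom with commutes' := fun a => ?_ }⟩
  have h2 : Spec.map (CommRingCat.ofHom (algebraMap ↥Γ(U.left, ⊤) B) ≫ r) = 𝟙 _ := by
    have ht' : t ≫ p = 𝟙 U.left := ht
    rw [Spec.map_comp, hr, ← cancel_mono U.left.isoSpec.inv, Category.assoc, Category.assoc,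
      Category.id_comp]
    exact (congrArg (U.left.isoSpec.inv ≫ ·) ht').trans (Category.comp_id _)
  rw [← Spec.map_id, Spec.map_injective.eq_iff] at h2
  exact congr($h2 a)

set_option backward.isDefEq.respectTransparency.types false in
theorem isWContractible_of_isWC (U : X.ProEt) [IsAffine U.left] (h : _root_.ProEtS.IsWC U) :
    EtPBC.IsWContractible ↥Γ(U.left, ⊤) := by
  refine isWContractible_of_forall_section U fun V g hg _ => ?_
  let J := Scheme.ProEt.topology X
  let φ : (J.uliftYoneda.{u + 1}).obj V ⟶ (J.uliftYoneda.{u + 1}).obj U := J.uliftYoneda.map g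
  have : Sheaf.IsLocallySurjective φ := ⟨fun {W} s => by
    refine J.superset_covering ?_ (J.pullback_stable s.down hg)
    rintro Z l ⟨V', k, m, ⟨⟩, hk⟩
    exact ⟨⟨k⟩, ULift.ext _ _ hk⟩⟩
  obtain ⟨t, ht⟩ := h _ _ φ inferInstance ⟨𝟙 U⟩
  have : t.down ≫ g = 𝟙 U := congrArg ULift.down ht
  exact ⟨t.down.left, congrArg (fun m : U ⟶ U => m.left) this⟩

end Groth.Agent.ProEtS.WC
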