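import Groth.Agent.ProEtS.Covers
import Groth.Agent.ProEtS.WC
import Groth.Agent.S0677
import Groth.Agent.S0679
import Groth.Agent.S14620
import Mathlib.AlgebraicGeometry.Morphisms.FinitePresentation
import Mathlib.AlgebraicGeometry.Morphisms.Finite
import Mathlib.Algebra.Homology.ShortComplex.ExactFunctor
import Mathlib.CategoryTheory.Sites.EpiMono

/-!
# Exactness of pushforward along morphisms preserving w-contractible objects
-/

set_option autoImplicit false

universe u

open CategoryTheory CategoryTheory.Limits AlgebraicGeometry Opposite Topology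

namespace Groth.Agent.ProEtS.PushExact

set_option backward.isDefEq.respectTransparency.types false in
/-- Surjections with nilpotent-elements kernel preserve w-contractibility. -/
theorem isWContractible_of_surjective {B C : Type u} [CommRing B] [CommRing C] (π : B →+* C)
    (hπ : Function.Surjective π) (hker : RingHom.ker π ≤ nilradical B) (h : EtPBC.IsWContractible B) :
    EtPBC.IsWContractible C := by
  obtain ⟨hWL, hED, hsh⟩ := (Groth.Agent.S0677.result B).1 h
  have hsurj : Function.Surjective (PrimeSpectrum.comap π) := fun q => by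
    have hq : q ∈ PrimeSpectrum.zeroLocus (RingHom.ker π : Set B) := fun x hx =>
      (nilradical_le_prime q.asIdeal) (hker hx)
    rw [← range_comap_of_surjective _ _ hπ] at hq
    exact hq
  let φ : PrimeSpectrum C ≃ₜ PrimeSpectrum B :=
    (PrimeSpectrum.isEmbedding_comap_of_surjective _ π hπ).toHomeomorphOfSurjective hsurj
  have hcl : ∀ x, IsClosed ({x} : Set (PrimeSpectrum C)) ↔ IsClosed ({φ x} : Set (PrimeSpectrum B)) :=
    fun x => by rw [← Set.image_singleton, φ.isClosed_image]
  have hWLC : ProEtW.IsWLocal (PrimeSpectrum C) := by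
    refine ⟨inferInstance, ?_, fun x => ?_⟩
    · have : {x : PrimeSpectrum C | IsClosed ({x} : Set (PrimeSpectrum C))} =
          φ ⁻¹' {x : PrimeSpectrum B | IsClosed ({x} : Set (PrimeSpectrum B))} := Set.ext hcl
      rw [this]
      exact hWL.2.1.preimage φ.continuous
    · obtain ⟨y, ⟨hy, hxy⟩, hu⟩ := hWL.2.2 (φ x)
      refine ⟨φ.symm y, ⟨(hcl _).2 ((φ.apply_symm_apply y).symm ▸ hy), ?_⟩, fun z ⟨hz, hxz⟩ => ?_⟩
      · rw [← φ.symm_apply_apply x]
        exact hxy.map φ.symm.continuous
      · rw [← hu (φ z) ⟨(hcl z).1 hz, hxz.map φ.continuous⟩, φ.symm_apply_apply]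
  refine (Groth.Agent.S0677.result C).2 ⟨hWLC, ?_, fun m hm => ?_⟩
  · obtain ⟨eB, -⟩ := Groth.Agent.ProEtW.Retraction.exists_homeomorph_pi0 hWL
    obtain ⟨eC, -⟩ := Groth.Agent.ProEtW.Retraction.exists_homeomorph_pi0 hWLC
    exact extremallyDisconnected_of_homeo
      (eB.symm.trans ((φ.subtype fun x => hcl x).symm.trans eC))
  · have hmax : (m.comap π).IsMaximal := Ideal.comap_isMaximal_of_surjective π hπ
    obtain ⟨_, -⟩ := id (hsh (m.comap π))
    haveI : IsLocalHom (Localization.localRingHom (m.comap π) m π rfl) :=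
      Localization.isLocalHom_localRingHom _ _ _ _
    exact Groth.Agent.S14620.result _ (RingHom.Finite.of_surjective _
      (RingHom.surjectiveOnStalks_of_surjective hπ m inferInstance)) (hsh _)

variable {Z X : Scheme.{u}} (f : Z ⟶ X)

/-- Base change along `f` keeps affine w-contractible objects affine w-contractible. -/
def PreservesWC : Prop :=
  ∀ V : X.ProEt, IsAffine V.left → EtPBC.IsWContractible ↥Γ(V.left, ⊤) →
    IsAffine ((_root_.ProEtS.bcP f).obj V).left ∧
      EtPBC.IsWContractible ↥Γ(((_root_.ProEtS.bcP f).obj V).left, ⊤)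

set_option backward.isDefEq.respectTransparency.types false in
/-- Locally surjective morphisms are surjective on affine w-contractible sections. -/
theorem surjective_app {Y : Scheme.{u}} {F G : _root_.ProEtS.AbP Y} (φ : F ⟶ G) [Epi φ] (W : Y.ProEt)
    [IsAffine W.left] (h : EtPBC.IsWContractible ↥Γ(W.left, ⊤)) :
    Function.Surjective (φ.hom.app (op W)) := by
  let J := Scheme.ProEt.topology Y
  haveI : Sheaf.IsLocallySurjective φ :=
    (Sheaf.isLocallySurjective_iff_epi' AddCommGrpCat.{u + 1} φ).2 ‹_›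
  let ψ := (sheafCompose J (CategoryTheory.forget AddCommGrpCat.{u + 1})).map φ
  haveI : Sheaf.IsLocallySurjective ψ := ⟨fun s => Presheaf.imageSieve_mem J φ.hom s⟩
  exact fun s => WC.isWC_of_isWContractible W h _ _ ψ
    ((Sheaf.isLocallySurjective_iff_epi ψ).1 inferInstance) s

set_option backward.isDefEq.respectTransparency.types false in
theorem epi_map [_root_.ProEtS.PCont f] (hf : PreservesWC f) {F G : _root_.ProEtS.AbP Z} (φ : F ⟶ G)
    [Epi φ] : Epi ((_root_.ProEtS.pushP f).map φ) := by
  haveI : Sheaf.IsLocallySurjective ((_root_.ProEtS.pushP f).map φ) := by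
    refine ⟨fun {U} s => ?_⟩
    obtain ⟨V, g, hmem, hV⟩ := Covers.exists_wc_family U (fun i : U.left.affineOpens => i.1)
      (fun i => i.2) (Covers.affineOpens_cover U.left)
    refine GrothendieckTopology.superset_covering _ ?_ hmem
    rw [Sieve.ofArrows, Sieve.generate_le_iff]
    rintro A a ⟨i⟩
    obtain ⟨hA, hW⟩ := hf (V i) (hV i).1 (hV i).2
    exact surjective_app φ ((_root_.ProEtS.bcP f).obj (V i)) hW
      (G.obj.map ((_root_.ProEtS.bcP f).map (g i)).op s)
  exact (Sheaf.isLocallySurjective_iff_epi' AddCommGrpCat.{u + 1} _).1 inferInstance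

theorem exact [_root_.ProEtS.PCont f] (hf : PreservesWC f) :
    PreservesFiniteLimits (_root_.ProEtS.pushP f) ∧
      PreservesFiniteColimits (_root_.ProEtS.pushP f) := by
  haveI hl : PreservesFiniteLimits (_root_.ProEtS.pushP f) :=
    haveI := (_root_.ProEtS.pullPushAdjP f).rightAdjoint_preservesLimits
    inferInstance
  refine ⟨hl, (Functor.preservesFiniteColimits_iff_forall_exact_map_and_epi _).2 fun S hS => ⟨?_, ?_⟩⟩
  · exact hS.exact.map_of_mono_of_preservesKernel _ hS.mono_f inferInstance
  · haveI := hS.epi_g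
    exact epi_map f hf S.g

set_option backward.isDefEq.respectTransparency.types false in
theorem preservesWC_of_finite [IsFinite f] [LocallyOfFinitePresentation f] : PreservesWC f := by
  intro V hV h
  let p : ((_root_.ProEtS.bcP f).obj V).left ⟶ V.left := pullback.fst V.hom f
  haveI : IsFinite p := MorphismProperty.pullback_fst _ _ ‹IsFinite f›
  haveI : LocallyOfFinitePresentation p := MorphismProperty.pullback_fst _ _ ‹_›
  obtain ⟨hA, hfin⟩ := (HasAffineProperty.iff_of_isAffine (P := @IsFinite) (f := p)).1 ‹_›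
  have hfp : p.appTop.hom.FinitePresentation :=
    (HasRingHomProperty.iff_of_isAffine (P := @LocallyOfFinitePresentation) (f := p)).1 ‹_›
  refine ⟨hA, ?_⟩
  let : Algebra ↥Γ(V.left, ⊤) ↥Γ(((_root_.ProEtS.bcP f).obj V).left, ⊤) := p.appTop.hom.toAlgebra
  haveI : Module.Finite ↥Γ(V.left, ⊤) ↥Γ(((_root_.ProEtS.bcP f).obj V).left, ⊤) := hfin
  haveI : Algebra.FinitePresentation ↥Γ(V.left, ⊤) ↥Γ(((_root_.ProEtS.bcP f).obj V).left, ⊤) := hfp
  exact Groth.Agent.S0679.result _ _ h

set_option backward.isDefEq.respectTransparency.types false in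
theorem preservesWC_of_retrocompact [IsClosedImmersion f]
    (hr : IsRetrocompact (Set.range f.base)ᶜ) : PreservesWC f := by
  intro V hV h
  let p : ((_root_.ProEtS.bcP f).obj V).left ⟶ V.left := pullback.fst V.hom f
  haveI : IsClosedImmersion p := MorphismProperty.pullback_fst _ _ ‹IsClosedImmersion f›
  obtain ⟨hA, hs⟩ := (HasAffineProperty.iff_of_isAffine (P := @IsClosedImmersion) (f := p)).1 ‹_›
  refine ⟨hA, ?_⟩
  let A := ↥Γ(V.left, ⊤)
  let π : A →+* ↥Γ(((_root_.ProEtS.bcP f).obj V).left, ⊤) := p.appTop.hom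
  let I := RingHom.ker π
  -- the complement of the zero locus of the kernel is compact
  let U : X.Opens := ⟨(Set.range f.base)ᶜ, f.isClosedEmbedding.isClosed_range.isOpen_compl⟩
  haveI : QuasiCompact U.ι :=
    quasiCompact_iff_isSpectralMap.mpr (IsRetrocompact_iff_isSpectralMap_subtypeVal.mp hr)
  have h1 : IsCompact (Set.range p)ᶜ := by
    haveI : QuasiCompact (pullback.fst V.hom U.ι) := MorphismProperty.pullback_fst _ _ ‹QuasiCompact U.ι›
    haveI : CompactSpace ↥((𝟭 Scheme).obj V.left) := inferInstanceAs (CompactSpace ↥V.left)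
    haveI : CompactSpace ↥(pullback V.hom U.ι) :=
      QuasiCompact.compactSpace_of_compactSpace (pullback.fst V.hom U.ι)
    have hU : (Set.range p)ᶜ = Set.range (pullback.fst V.hom U.ι) := by
      rw [Scheme.Pullback.range_fst, Scheme.Opens.range_ι]
      show _ = V.hom ⁻¹' (Set.range f)ᶜ
      rw [show Set.range p = _ from Scheme.Pullback.range_fst V.hom f, Set.preimage_compl]
    exact hU ▸ isCompact_range (pullback.fst V.hom U.ι).continuous
  let e : ↥V.left ≃ₜ PrimeSpectrum A := Scheme.homeoOfIso V.left.isoSpec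
  have hr' : e '' Set.range p = PrimeSpectrum.zeroLocus (I : Set A) := by
    rw [show PrimeSpectrum.zeroLocus (I : Set A) = Set.range (PrimeSpectrum.comap π) from
      (range_comap_of_surjective _ _ hs).symm, ← Set.range_comp]
    haveI := hA
    have hn := Scheme.isoSpec_hom_naturality p
    have hc : ⇑e ∘ ⇑p =
        (PrimeSpectrum.comap π) ∘ ⇑(Scheme.homeoOfIso ((_root_.ProEtS.bcP f).obj V).left.isoSpec) :=
      funext fun x => congrArg
        (fun m : ((_root_.ProEtS.bcP f).obj V).left ⟶ Spec Γ(V.left, ⊤) => m x) hn.symm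
    rw [hc]
    exact (Homeomorph.surjective _).range_comp _
  have hc : IsCompact (PrimeSpectrum.zeroLocus (I : Set A))ᶜ := by
    rw [← hr', ← e.image_compl]
    exact h1.image e.continuous
  obtain ⟨t, ht⟩ := hc.elim_finite_subcover
    (fun a : I => (PrimeSpectrum.basicOpen (a : A) : Set (PrimeSpectrum A)))
    (fun a => (PrimeSpectrum.basicOpen (a : A)).isOpen) fun q hq => by
      obtain ⟨a, ha, haq⟩ := Set.not_subset.1 hq
      exact Set.mem_iUnion.2 ⟨⟨a, ha⟩, haq⟩
  let J : Ideal A := Ideal.span ((fun a : I => (a : A)) '' (t : Set I))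
  have hJI : J ≤ I := Ideal.span_le.2 (by rintro _ ⟨a, -, rfl⟩; exact a.2)
  have hrad : I ≤ J.radical := by
    rw [← PrimeSpectrum.vanishingIdeal_zeroLocus_eq_radical]
    refine le_trans (b := PrimeSpectrum.vanishingIdeal (PrimeSpectrum.zeroLocus (I : Set A))) ?_
      (PrimeSpectrum.vanishingIdeal_anti_mono (fun q hq => ?_))
    · exact PrimeSpectrum.le_vanishingIdeal_zeroLocus I
    by_contra hqI
    obtain ⟨a, hat, haq⟩ := Set.mem_iUnion₂.1 (ht hqI)
    exact haq (hq (Ideal.subset_span ⟨a, hat, rfl⟩))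
  have hJfg : J.FG := Submodule.fg_span (t.finite_toSet.image _)
  haveI : Algebra.FinitePresentation A (A ⧸ J) := Algebra.FinitePresentation.quotient hJfg
  refine isWContractible_of_surjective (Ideal.Quotient.lift J π fun a ha => hJI ha) ?_ ?_
    (Groth.Agent.S0679.result A (A ⧸ J) h)
  · exact fun y => let ⟨a, ha⟩ := hs y; ⟨Ideal.Quotient.mk J a, ha⟩
  · intro b hb
    obtain ⟨a, rfl⟩ := Ideal.Quotient.mk_surjective b
    obtain ⟨k, hk⟩ := hrad (show a ∈ I from hb)
    exact ⟨k, (map_pow _ _ _).symm.trans (Ideal.Quotient.eq_zero_iff_mem.2 hk)⟩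

end Groth.Agent.ProEtS.PushExact
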