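import Groth.Agent.ProEtS.Sheafify
import Mathlib.CategoryTheory.Functor.KanExtension.Adjunction
import Mathlib.CategoryTheory.Sites.Pullback
import Mathlib.AlgebraicGeometry.Morphisms.Flat
import Mathlib.CategoryTheory.Limits.ConcreteCategory.Basic

/-!
Sections of the pullback of an etale sheaf to the pro-etale site, in terms of germs.
-/

universe u

open CategoryTheory CategoryTheory.Limits AlgebraicGeometry Opposite

namespace Groth.Agent.ProEtS.EpsElem

open Groth.Agent.ProEtS

variable {X : Scheme.{u}}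

/-- Elements of abelian-group valued presheaves. -/
local notation "ε" => _root_.ProEtS.eps

theorem eq_zero_of_sieve {C : Type*} [Category* C] {J : GrothendieckTopology C}
    [J.HasSheafCompose (forget AddCommGrpCat.{u + 1})] (Q : Sheaf J AddCommGrpCat.{u + 1}) {A : C}
    (s : Q.obj.obj (op A)) (S : Sieve A) (hS : S ∈ J A)
    (h : ∀ ⦃B : C⦄ (f : B ⟶ A), S f → Q.obj.map f.op s = 0) : s = 0 :=
  (((isSheaf_iff_isSheaf_of_type _ _).1
    ((sheafCompose J (forget AddCommGrpCat.{u + 1})).obj Q).property).isSeparated S hS).ext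
    fun _ f hf => ((h f hf).trans (map_zero (Q.obj.map f.op).hom).symm :)

theorem map_comp_apply {C : Type*} [Category* C] (P : Cᵒᵖ ⥤ AddCommGrpCat.{u + 1}) {A A' A'' : C}
    (a : A ⟶ A') (b : A' ⟶ A'') (p : P.obj (op A'')) :
    P.map (a ≫ b).op p = P.map a.op (P.map b.op p) := by
  rw [op_comp, Functor.map_comp]; rfl

set_option backward.isDefEq.respectTransparency.types false in
theorem etale_left {U U' : X.Etale} (g : U' ⟶ U) : Etale g.left :=
  MorphismProperty.of_postcomp (W' := @Etale) @Etale g.left U.hom U.prop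
    (by rw [show g.left ≫ U.hom = U'.hom from Over.w g.hom]; exact U'.prop)

set_option backward.isDefEq.respectTransparency.types false in
theorem weaklyEtale_left {U U' : X.ProEt} (g : U' ⟶ U) : WeaklyEtale g.left :=
  have : WeaklyEtale (g.left ≫ U.hom) := by
    rw [show g.left ≫ U.hom = U'.hom from Over.w g.hom]; exact U'.prop
  WeaklyEtale.of_comp _ U.hom

set_option backward.isDefEq.respectTransparency.types false in
/-- Points of compatible etale objects lift to a common refinement. -/
theorem exists_pullback_point {U U' U'' : X.Etale} (g : U' ⟶ U) (h : U'' ⟶ U) (x : U'.left) (y : U''.left)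
    (hxy : g.left x = h.left y) :
    ∃ (W : X.Etale) (p : W ⟶ U') (q : W ⟶ U'') (z : W.left),
      p ≫ g = q ≫ h ∧ p.left z = x ∧ q.left z = y := by
  obtain ⟨z, hz1, hz2⟩ := Scheme.Pullback.exists_preimage_pullback (f := g.left) (g := h.left) x y hxy
  have := etale_left h
  have : Etale U'.hom := U'.prop
  let W : X.Etale := Scheme.Etale.mk (pullback.fst g.left h.left ≫ U'.hom)
  refine ⟨W, MorphismProperty.Over.homMk (pullback.fst g.left h.left) rfl trivial,
    MorphismProperty.Over.homMk (pullback.snd g.left h.left) ?_ trivial, z, ?_, hz1, hz2⟩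
  · show pullback.snd g.left h.left ≫ U''.hom = pullback.fst g.left h.left ≫ U'.hom
    have e : pullback.snd g.left h.left ≫ h.left = pullback.fst g.left h.left ≫ g.left :=
      pullback.condition.symm
    exact ((congrArg (pullback.snd g.left h.left ≫ ·) (Over.w h.hom)).symm.trans
      ((Category.assoc _ _ _).symm.trans ((congrArg (· ≫ U.hom) e).trans
        ((Category.assoc _ _ _).trans (congrArg (pullback.fst g.left h.left ≫ ·) (Over.w g.hom))))) :)
  · exact MorphismProperty.Over.Hom.ext pullback.condition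

set_option backward.isDefEq.respectTransparency.types false in
/-- Products in the small etale site, seen from the pro-etale site. -/
theorem exists_prod {U U' U'' : X.Etale} (g : U' ⟶ U) (h : U'' ⟶ U) {V : X.ProEt}
    (a : V ⟶ (ε X).obj U') (b : V ⟶ (ε X).obj U'') (w : a ≫ (ε X).map g = b ≫ (ε X).map h) :
    ∃ (W : X.Etale) (p : W ⟶ U') (q : W ⟶ U'') (c : V ⟶ (ε X).obj W),
      p ≫ g = q ≫ h ∧ c ≫ (ε X).map p = a ∧ c ≫ (ε X).map q = b := by
  have := etale_left h
  have : Etale U'.hom := U'.prop
  let W : X.Etale := Scheme.Etale.mk (pullback.fst g.left h.left ≫ U'.hom)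
  let p : W ⟶ U' := MorphismProperty.Over.homMk (pullback.fst g.left h.left) rfl trivial
  have e : pullback.snd g.left h.left ≫ h.left = pullback.fst g.left h.left ≫ g.left :=
    pullback.condition.symm
  let q : W ⟶ U'' := MorphismProperty.Over.homMk (pullback.snd g.left h.left)
    ((congrArg (pullback.snd g.left h.left ≫ ·) (Over.w h.hom)).symm.trans
      ((Category.assoc _ _ _).symm.trans ((congrArg (· ≫ U.hom) e).trans
        ((Category.assoc _ _ _).trans (congrArg (pullback.fst g.left h.left ≫ ·) (Over.w g.hom))))) :) trivial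
  have w' : a.left ≫ g.left = b.left ≫ h.left := congrArg (fun m : V ⟶ (ε X).obj U => m.left) w
  let c : V ⟶ (ε X).obj W := MorphismProperty.Over.homMk (pullback.lift a.left b.left w')
    ((Category.assoc _ _ _).symm.trans ((congrArg (· ≫ U'.hom) (show pullback.lift a.left b.left w' ≫ pullback.fst g.left h.left = a.left from pullback.lift_fst _ _ _)).trans
      (Over.w a.hom)) :) trivial
  exact ⟨W, p, q, c, MorphismProperty.Over.Hom.ext pullback.condition,
    MorphismProperty.Over.Hom.ext (pullback.lift_fst _ _ _),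
    MorphismProperty.Over.Hom.ext (pullback.lift_snd _ _ _)⟩

variable (F : EtCoh.Ab X)

/-- Points where the germ of a section vanishes. -/
def Z {U : X.Etale} (s : F.obj.obj (op U)) : Set U.left :=
  {x | ∃ (U' : X.Etale) (g : U' ⟶ U) (x' : U'.left), g.left x' = x ∧ F.obj.map g.op s = 0}

set_option backward.isDefEq.respectTransparency.types false in
theorem isOpen_Z {U : X.Etale} (s : F.obj.obj (op U)) : IsOpen (Z F s) := by
  have : Z F s = ⋃ (U' : X.Etale) (g : U' ⟶ U) (_ : F.obj.map g.op s = 0), Set.range g.left := by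
    ext x
    simp only [Z, Set.mem_iUnion, Set.mem_range, Set.mem_ofPred_eq]
    exact ⟨fun ⟨U', g, x', h1, h2⟩ => ⟨U', g, h2, x', h1⟩, fun ⟨U', g, h2, x', h1⟩ => ⟨U', g, x', h1, h2⟩⟩
  rw [this]
  exact isOpen_iUnion fun U' => isOpen_iUnion fun g => isOpen_iUnion fun _ =>
    have := etale_left g
    g.left.isOpenMap.isOpen_range

set_option backward.isDefEq.respectTransparency.types false in
theorem mem_Z_map {U U' : X.Etale} (g : U' ⟶ U) (s : F.obj.obj (op U)) (x : U'.left) :
    x ∈ Z F (F.obj.map g.op s) ↔ g.left x ∈ Z F s := by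
  constructor
  · rintro ⟨U'', h, y, rfl, hy⟩
    exact ⟨U'', h ≫ g, y, rfl, (map_comp_apply F.obj h g s).trans hy⟩
  · rintro ⟨U'', h, y, hy, h0⟩
    obtain ⟨W, p, q, z, hpq, hz1, -⟩ := exists_pullback_point g h x y hy.symm
    refine ⟨W, p, z, hz1, ?_⟩
    rw [← map_comp_apply, hpq, map_comp_apply, h0, map_zero]

theorem mem_Z_zero {U : X.Etale} (x : U.left) : x ∈ Z F (0 : F.obj.obj (op U)) :=
  ⟨U, 𝟙 U, x, rfl, map_zero _⟩

set_option backward.isDefEq.respectTransparency.types false in
theorem mem_Z_sub {U : X.Etale} {s t : F.obj.obj (op U)} {x : U.left} (h : x ∈ Z F (s - t)) :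
    x ∈ Z F s ↔ x ∈ Z F t := by
  obtain ⟨U', g, y, rfl, hy⟩ := h
  rw [← mem_Z_map, ← mem_Z_map, sub_eq_zero.1 ((map_sub _ s t).symm.trans hy)]

set_option backward.isDefEq.respectTransparency.types false in
theorem eq_zero_of_forall_mem_Z {U : X.Etale} {s : F.obj.obj (op U)} (h : ∀ x, x ∈ Z F s) : s = 0 := by
  choose V g y hy hs using h
  have hmem : Sieve.generate (Presieve.ofArrows V g) ∈ X.smallEtaleTopology U := by
    rw [show X.smallEtaleTopology =
      (X.smallPretopology (P := EtCoh.etaleMP) (Q := EtCoh.etaleMP)).toGrothendieck from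
      Scheme.smallGrothendieckTopology_eq_toGrothendieck_smallPretopology X le_rfl]
    refine (Scheme.mem_toGrothendieck_smallPretopology U _).2 fun x => ?_
    exact ⟨V x, g x, y x, ⟨V x, 𝟙 _, g x, ⟨x⟩, Category.id_comp _⟩, etale_left _, hy x⟩
  refine eq_zero_of_sieve F s _ hmem ?_
  rintro B f ⟨_, k, _, ⟨x⟩, rfl⟩
  rw [map_comp_apply, hs, map_zero]

set_option backward.isDefEq.respectTransparency.types false in
/-- The presheaf pullback of an etale sheaf. -/
noncomputable abbrev pre : X.ProEtᵒᵖ ⥤ AddCommGrpCat.{u + 1} := (ε X).op.lan.obj F.obj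

/-- The sheaf pullback of an etale sheaf. -/
noncomputable abbrev shf : Sheaf (Scheme.ProEt.topology X) AddCommGrpCat.{u + 1} :=
  (presheafToSheaf (Scheme.ProEt.topology X) AddCommGrpCat.{u + 1}).obj (pre F)

set_option backward.isDefEq.respectTransparency.types false in
/-- The section given by a morphism to an etale object and a section there. -/
noncomputable def cls {V : X.ProEt} {U : X.Etale} (a : V ⟶ (ε X).obj U) (s : F.obj.obj (op U)) :
    (pre F).obj (op V) :=
  (pre F).map a.op (((ε X).op.lanUnit.app F.obj).app (op U) s)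

/-- The corresponding section of the sheaf pullback. -/
noncomputable def scls {V : X.ProEt} {U : X.Etale} (a : V ⟶ (ε X).obj U) (s : F.obj.obj (op U)) :
    (shf F).obj.obj (op V) :=
  (toSheafify (Scheme.ProEt.topology X) (pre F)).app (op V) (cls F a s)

theorem scls_zero {V : X.ProEt} {U : X.Etale} (a : V ⟶ (ε X).obj U) :
    scls F a (0 : F.obj.obj (op U)) = 0 := by
  simp only [scls, cls, map_zero]

theorem scls_sub {V : X.ProEt} {U : X.Etale} (a : V ⟶ (ε X).obj U) (s t : F.obj.obj (op U)) :
    scls F a (s - t) = scls F a s - scls F a t := by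
  simp only [scls, cls, map_sub]

theorem map_scls {V V' : X.ProEt} (k : V' ⟶ V) {U : X.Etale} (a : V ⟶ (ε X).obj U)
    (s : F.obj.obj (op U)) : (shf F).obj.map k.op (scls F a s) = scls F (k ≫ a) s := by
  rw [scls, scls, cls, cls, map_comp_apply (pre F)]
  exact (NatTrans.naturality_apply (toSheafify (Scheme.ProEt.topology X) (pre F)) k.op _).symm

set_option backward.isDefEq.respectTransparency.types false in
theorem scls_comp {V : X.ProEt} {U U' : X.Etale} (a : V ⟶ (ε X).obj U') (g : U' ⟶ U)
    (s : F.obj.obj (op U)) : scls F (a ≫ (ε X).map g) s = scls F a (F.obj.map g.op s) := by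
  unfold scls cls
  rw [map_comp_apply (pre F)]
  congr 2
  exact (NatTrans.naturality_apply ((ε X).op.lanUnit.app F.obj) g.op s).symm

set_option backward.isDefEq.respectTransparency.types false in
theorem exists_cls (V : X.ProEt) (p : (pre F).obj (op V)) :
    ∃ (U : X.Etale) (a : V ⟶ (ε X).obj U) (s : F.obj.obj (op U)), cls F a s = p := by
  have : RepresentablyFlat (ε X) := flat_of_preservesFiniteLimits _
  have : PreservesFilteredColimitsOfSize.{u, u + 1} (forget AddCommGrpCat.{u + 1}) :=
    preservesFilteredColimitsOfSize_shrink.{u+1, u+1, u, u+1} _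
  obtain ⟨j, s, hs⟩ := Concrete.isColimit_exists_rep _
    (Functor.isPointwiseLeftKanExtensionLeftKanExtensionUnit (ε X).op F.obj (op V)) p
  exact ⟨j.left.unop, j.hom.unop, s, hs⟩

set_option backward.isDefEq.respectTransparency.types false in
theorem exists_of_cls_eq_zero {V : X.ProEt} {U : X.Etale} (a : V ⟶ (ε X).obj U) (s : F.obj.obj (op U))
    (h : cls F a s = 0) :
    ∃ (U' : X.Etale) (g : U' ⟶ U) (c : V ⟶ (ε X).obj U'), c ≫ (ε X).map g = a ∧ F.obj.map g.op s = 0 := by
  have : RepresentablyFlat (ε X) := flat_of_preservesFiniteLimits _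
  have : PreservesFilteredColimitsOfSize.{u, u + 1} (forget AddCommGrpCat.{u + 1}) :=
    preservesFilteredColimitsOfSize_shrink.{u+1, u+1, u, u+1} _
  have h0 : cls F a s = cls F a 0 := h.trans (by simp only [cls, map_zero])
  let j : CostructuredArrow (ε X).op (op V) := CostructuredArrow.mk (Y := op U) a.op
  obtain ⟨k, g₁, g₂, hk⟩ := (Concrete.isColimit_rep_eq_iff_exists
    (CostructuredArrow.proj (ε X).op (op V) ⋙ F.obj) (i := j) (j := j)
    (Functor.isPointwiseLeftKanExtensionLeftKanExtensionUnit (ε X).op F.obj (op V)) s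
    (0 : F.obj.obj (op U))).1 h0
  exact ⟨k.left.unop, g₁.left.unop, k.hom.unop,
    congrArg Quiver.Hom.unop (CostructuredArrow.w g₁), hk.trans (map_zero _)⟩

set_option backward.isDefEq.respectTransparency.types false in
theorem exists_mem {V : X.ProEt} {S : Sieve V} (hS : S ∈ Scheme.ProEt.topology X V) (v : V.left) :
    ∃ (V' : X.ProEt) (g : V' ⟶ V) (v' : V'.left), S g ∧ g.left v' = v := by
  rw [Site.mem_topology_iff, Scheme.proetaleTopology,
    Precoverage.mem_toGrothendieck_iff_of_isStableUnderComposition] at hS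
  obtain ⟨R, hR, hle⟩ := hS
  obtain ⟨𝒰, _, rfl⟩ := Scheme.mem_propQCPrecoverage_iff_exists_quasiCompactCover.1 hR
  obtain ⟨z, hz⟩ := 𝒰.covers v
  obtain ⟨V', g, k, hg, hk⟩ := hle _ _ (Presieve.ofArrows.mk (𝒰.idx v))
  exact ⟨V', g, k z, hg, by rw [← Scheme.Hom.comp_apply, hk]; exact hz⟩

set_option backward.isDefEq.respectTransparency.types false in
/-- A section of the form `scls` vanishes iff all germs along the map vanish. -/
theorem scls_eq_zero_iff {V : X.ProEt} {U : X.Etale} (a : V ⟶ (ε X).obj U) (s : F.obj.obj (op U)) :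
    scls F a s = 0 ↔ ∀ v : V.left, a.left v ∈ Z F s := by
  constructor
  · intro h v
    have h' : (toSheafify (Scheme.ProEt.topology X) (pre F)).app (op V) (cls F a s) =
        (toSheafify (Scheme.ProEt.topology X) (pre F)).app (op V) 0 := h.trans (map_zero _).symm
    obtain ⟨V', k, v', hk, rfl⟩ := exists_mem (Presheaf.equalizerSieve_mem _ _ _ _ h') v
    have h0 : cls F (k ≫ a) s = 0 := by
      rw [cls, map_comp_apply (pre F)]
      exact hk.trans (map_zero _)
    obtain ⟨U', g, c, hc, hg⟩ := exists_of_cls_eq_zero F _ _ h0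
    refine ⟨U', g, c.left v', ?_, hg⟩
    exact congrArg (fun m : V' ⟶ (ε X).obj U => m.left v') hc
  · intro h
    choose U' g x hx hg using h
    have hex : ∀ v, ∃ (V' : X.ProEt) (p : V' ⟶ V) (q : V' ⟶ (ε X).obj (U' v)) (z : V'.left),
        Etale p.left ∧ p ≫ a = q ≫ (ε X).map (g v) ∧ p.left z = v := by
      intro v
      have := etale_left (g v)
      obtain ⟨z, hz1, -⟩ := Scheme.Pullback.exists_preimage_pullback (f := a.left) (g := (g v).left)
        v (x v) (hx v).symm
      have het : Etale (pullback.fst a.left (g v).left) :=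
        MorphismProperty.pullback_fst (P := @Etale) a.left (g v).left (etale_left (g v))
      have : WeaklyEtale (pullback.fst a.left (g v).left ≫ V.hom) :=
        MorphismProperty.comp_mem (W := @WeaklyEtale) _ _ (show WeaklyEtale _ from inferInstance) V.prop
      let V' : X.ProEt := Scheme.ProEt.mk (pullback.fst a.left (g v).left ≫ V.hom)
      have e : pullback.snd a.left (g v).left ≫ (g v).left = pullback.fst a.left (g v).left ≫ a.left :=
        pullback.condition.symm
      let q : V' ⟶ (ε X).obj (U' v) := MorphismProperty.Over.homMk (pullback.snd a.left (g v).left)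
        ((congrArg (pullback.snd a.left (g v).left ≫ ·) (Over.w (g v).hom)).symm.trans
          ((Category.assoc _ _ _).symm.trans ((congrArg (· ≫ U.hom) e).trans
            ((Category.assoc _ _ _).trans
              (congrArg (pullback.fst a.left (g v).left ≫ ·) (Over.w a.hom))))) :) trivial
      exact ⟨V', MorphismProperty.Over.homMk (pullback.fst a.left (g v).left) rfl trivial, q, z,
        het,
        MorphismProperty.Over.Hom.ext e.symm, hz1⟩
    choose V' p q z hp hpq hz using hex
    refine eq_zero_of_sieve (shf F) _ _ (Site.generate_mem V' p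
      (Scheme.etalePrecoverage_le_proetalePrecoverage _
        ((Scheme.ofArrows_mem_precoverage_iff @Etale (X := fun i => (V' i).left)
          (f := fun i => (p i).left)).2 ⟨fun v => ⟨v, z v, hz v⟩, hp⟩))) ?_
    rintro B f ⟨_, k, _, ⟨v⟩, rfl⟩
    rw [map_comp_apply, map_scls, hpq, scls_comp, hg, scls_zero, map_zero]

set_option backward.isDefEq.respectTransparency.types false in
/-- Two presentations of the same section have the same vanishing germs. -/
theorem mem_Z_iff {V : X.ProEt} {U₁ U₂ : X.Etale} (a₁ : V ⟶ (ε X).obj U₁) (a₂ : V ⟶ (ε X).obj U₂)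
    (s₁ : F.obj.obj (op U₁)) (s₂ : F.obj.obj (op U₂)) (h : scls F a₁ s₁ = scls F a₂ s₂) (v : V.left) :
    a₁.left v ∈ Z F s₁ ↔ a₂.left v ∈ Z F s₂ := by
  let T : X.Etale := EtCoh.top X
  let t₁ : U₁ ⟶ T := MorphismProperty.Over.homMk U₁.hom (Category.comp_id _) trivial
  let t₂ : U₂ ⟶ T := MorphismProperty.Over.homMk U₂.hom (Category.comp_id _) trivial
  have w : a₁ ≫ (ε X).map t₁ = a₂ ≫ (ε X).map t₂ :=
    MorphismProperty.Over.Hom.ext ((Over.w a₁.hom).trans (Over.w a₂.hom).symm :)
  obtain ⟨W, p, q, c, -, hp, hq⟩ := exists_prod t₁ t₂ a₁ a₂ w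
  rw [← hp, ← hq, scls_comp, scls_comp, ← sub_eq_zero, ← scls_sub, scls_eq_zero_iff] at h
  have h1 := mem_Z_sub F (h v)
  rw [mem_Z_map, mem_Z_map] at h1
  rw [← hp, ← hq]
  exact h1

set_option backward.isDefEq.respectTransparency.types false in
/-- Every section of the sheaf pullback is locally of the form `scls`. -/
theorem exists_scls {V : X.ProEt} (d : (shf F).obj.obj (op V)) (v : V.left) :
    ∃ (V' : X.ProEt) (k : V' ⟶ V) (v' : V'.left) (U : X.Etale) (a : V' ⟶ (ε X).obj U)
      (s : F.obj.obj (op U)), k.left v' = v ∧ (shf F).obj.map k.op d = scls F a s := by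
  obtain ⟨V', k, v', ⟨p, hp⟩, hv⟩ := exists_mem
    (Presheaf.imageSieve_mem (Scheme.ProEt.topology X)
      (toSheafify (Scheme.ProEt.topology X) (pre F)) d) v
  obtain ⟨U, a, s, rfl⟩ := exists_cls F V' p
  exact ⟨V', k, v', U, a, s, hv, hp.symm⟩

end Groth.Agent.ProEtS.EpsElem
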