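import Groth.Agent.ProEtS.Affine
import Groth.Agent.ProEtS.EpsElem
import Mathlib.CategoryTheory.Functor.KanExtension.Adjunction
import Mathlib.CategoryTheory.Sites.Pullback

/-!
# Extension by zero on pro-étale sheaves: vanishing on objects specialising into the complement
-/

set_option autoImplicit false

universe u

open CategoryTheory CategoryTheory.Limits AlgebraicGeometry Opposite

namespace Groth.Agent.ProEtS.ExtZero

variable {U X : Scheme.{u}} (j : U ⟶ X) [WeaklyEtale j]

set_option backward.isDefEq.respectTransparency.types false in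
/-- Finite jointly surjective families of weakly étale maps between affines are coverings. -/
theorem mem_of_finite_affine {ι : Type} [Finite ι] {S : Scheme.{u}} [IsAffine S] {W : ι → Scheme.{u}}
    [∀ k, IsAffine (W k)] (g : ∀ k, W k ⟶ S) (hw : ∀ k, WeaklyEtale (g k))
    (hc : ∀ v, ∃ k, v ∈ Set.range (g k)) :
    Presieve.ofArrows W g ∈ Scheme.propQCPrecoverage @WeaklyEtale S := by
  have hm : Presieve.ofArrows W g ∈ Scheme.precoverage @WeaklyEtale S :=
    (Scheme.ofArrows_mem_precoverage_iff _).2 ⟨hc, hw⟩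
  let 𝒰 : Scheme.Cover.{0} (Scheme.precoverage @WeaklyEtale) S :=
    { I₀ := ι, X := W, f := g, mem₀ := hm }
  haveI : ∀ k, QuasiCompact (𝒰.f k) := fun k => inferInstanceAs (QuasiCompact (g k))
  haveI : Finite 𝒰.I₀ := ‹_›
  exact ⟨(Scheme.presieve₀_mem_qcPrecoverage_iff (E := 𝒰.toPreZeroHypercover)).2
    (QuasiCompactCover.of_finite (𝒰 := 𝒰)), hm⟩

/-- The presheaf extension by zero. -/
noncomputable abbrev pre (F : _root_.ProEtS.AbP U) : X.ProEtᵒᵖ ⥤ AddCommGrpCat.{u + 1} :=
  (_root_.ProEtS.compP j).op.lan.obj F.obj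

/-- The presheaf extension by zero vanishes at objects without a map to `U`. -/
theorem subsingleton_pre (F : _root_.ProEtS.AbP U) (V : X.ProEt)
    (hV : ∀ W : U.ProEt, IsEmpty (V ⟶ (_root_.ProEtS.compP j).obj W)) :
    Subsingleton ((pre j F).obj (op V)) := by
  haveI : IsEmpty (CostructuredArrow (_root_.ProEtS.compP j).op (op V)) :=
    ⟨fun a => (hV a.left.unop).false a.hom.unop⟩
  have hc := Functor.isPointwiseLeftKanExtensionLeftKanExtensionUnit (_root_.ProEtS.compP j).op
    F.obj (op V)
  refine AddCommGrpCat.subsingleton_of_isZero ((IsZero.iff_id_eq_zero _).2 ?_)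
  exact hc.hom_ext fun a => isEmptyElim a

set_option backward.isDefEq.respectTransparency.types false in
theorem subsingleton_sections {Z : Scheme.{u}} (i : Z ⟶ X)
    (hUZ : Disjoint (Set.range j) (Set.range i)) [_root_.ProEtS.JPCont j]
    (V : X.ProEt) [IsAffine V.left]
    (hV : ∀ v : ↥V.left, ∃ z : ↥V.left, V.hom z ∈ Set.range i ∧ v ⤳ z)
    (F : _root_.ProEtS.AbP U) :
    Subsingleton (((_root_.ProEtS.extZeroP j).obj F).obj.obj (op V)) := by
  let J := Scheme.ProEt.topology X
  let Q : _root_.ProEtS.AbP X := (presheafToSheaf J AddCommGrpCat.{u + 1}).obj (pre j F)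
  let e : (_root_.ProEtS.extZeroP j).obj F ≅ Q :=
    (Functor.sheafPullbackConstruction.sheafPullbackIso (_root_.ProEtS.compP j) AddCommGrpCat.{u + 1}
      (Scheme.ProEt.topology U) J).app F
  suffices h : ∀ s : Q.obj.obj (op V), s = 0 by
    have hQ : Subsingleton (Q.obj.obj (op V)) := ⟨fun a b => (h a).trans (h b).symm⟩
    exact Function.Injective.subsingleton
      ((ConcreteCategory.bijective_of_isIso (e.hom.hom.app (op V))).1)
  intro s
  haveI : Presheaf.IsLocallySurjective J (toSheafify J (pre j F)) := inferInstance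
  obtain ⟨n, W, g, hW, hg, hw, hcov⟩ :=
    Affine.exists_affine_cover (Presheaf.imageSieve_mem J (toSheafify J (pre j F)) s)
  -- cover members meeting the closed part
  let I₀ : Set (Fin n) := {k | ∃ y, (W k).hom y ∈ Set.range i}
  have hzero : ∀ k ∈ I₀, Q.obj.map (g k).op s = 0 := by
    rintro k ⟨y, hy⟩
    obtain ⟨p, hp⟩ := hg k
    haveI : Subsingleton ((pre j F).obj (op (W k))) := subsingleton_pre j F (W k) fun A => ⟨fun a => by
      have h1 : (A.hom ≫ j) (a.left y) = (W k).hom y := by
        show (a.left ≫ (A.hom ≫ j)) y = _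
        exact congrArg (fun m : (W k).left ⟶ X => m y) (Over.w a.hom)
      exact Set.disjoint_left.mp hUZ ⟨_, h1⟩ hy⟩
    exact hp.symm.trans (by rw [Subsingleton.elim p 0, map_zero])
  refine EpsElem.eq_zero_of_sieve Q s (Sieve.ofArrows (fun k : I₀ => W k) fun k => g k) ?_ ?_
  · refine Site.generate_mem _ _ ?_
    have hcov₀ : ∀ v : V.left, ∃ k : I₀, v ∈ Set.range (g k).left := by
      intro v
      obtain ⟨z, hz, hvz⟩ := hV v
      obtain ⟨k, y, rfl⟩ := hcov z
      have hk : k ∈ I₀ := ⟨y, by
        rw [← show (g k).left ≫ V.hom = (W k).hom from Over.w (g k).hom, Scheme.Hom.comp_apply]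
        exact hz⟩
      haveI := hw k
      obtain ⟨y', -, hy'⟩ := (Flat.generalizingMap (g k).left) hvz
      exact ⟨⟨k, hk⟩, y', hy'⟩
    haveI : ∀ k : I₀, IsAffine (W k).left := fun k => hW k
    exact mem_of_finite_affine (fun k : I₀ => (g k).left) (fun k => hw k) hcov₀
  · rintro A f ⟨A', c, d, ⟨k⟩, rfl⟩
    rw [EpsElem.map_comp_apply, hzero k k.2, map_zero]

end Groth.Agent.ProEtS.ExtZero
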