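import Mathlib.CategoryTheory.Sites.Pullback
import Mathlib.CategoryTheory.Functor.KanExtension.Adjunction
import Mathlib.CategoryTheory.Adjunction.Unique

/-!
# The unit of the pullback of sheaves along a continuous functor, in terms of presheaves
-/

set_option autoImplicit false

open CategoryTheory Opposite

namespace Groth.Agent.ProEtS.UnitEq

theorem unit_eq {C : Type*} [Category* C] {D : Type*} [Category* D] (G : C ⥤ D) (A : Type*) [Category* A]
    (J : GrothendieckTopology C) (K : GrothendieckTopology D) [G.IsContinuous J K]
    [∀ F : Cᵒᵖ ⥤ A, G.op.HasLeftKanExtension F] [HasWeakSheafify K A] (F : Sheaf J A) :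
    ((Functor.sheafPullbackConstruction.sheafAdjunctionContinuous G A J K).unit.app F).hom =
      G.op.lanUnit.app F.obj ≫ Functor.whiskerLeft G.op (toSheafify K (G.op.lan.obj F.obj)) := by
  simp [Functor.sheafPullbackConstruction.sheafAdjunctionContinuous, Adjunction.restrictFullyFaithful,
    Adjunction.comp_unit_app, Adjunction.homEquiv_unit]
  refine (Category.comp_id _).trans ((Adjunction.homEquiv_unit _ _ _ _).trans ?_)
  rw [Adjunction.comp_unit_app]
  refine (congrArg (fun m => ((G.op.lanAdjunction A).unit.app F.obj ≫ _) ≫ m)
    (CategoryTheory.Functor.map_id _ _)).trans ((Category.comp_id _).trans ?_)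
  simp [Functor.lanAdjunction_unit]

end Groth.Agent.ProEtS.UnitEq
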