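import Groth.Agent.ProEtS.ClosedCounit
import Groth.Agent.ProEtS.ExtZero
import Groth.Agent.ProEtS.UnitEq
import Mathlib.Algebra.Homology.ShortComplex.ShortExact
import Mathlib.CategoryTheory.Sites.EpiMono

/-!
# The exact sequence of extension by zero from an open and pushforward from its closed complement
-/

set_option autoImplicit false

universe u

open CategoryTheory CategoryTheory.Limits AlgebraicGeometry Opposite

namespace Groth.Agent.ProEtS.ClosedOpen

variable {X Z U : Scheme.{u}} (i : Z ⟶ X) (j : U ⟶ X)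

theorem exists_finite_affine {V : Scheme.{u}} {K : Set V} (hK : IsCompact K) :
    ∃ (n : ℕ) (O : Fin n → V.affineOpens), K ⊆ ⋃ k, ((O k).1 : Set V) := by
  obtain ⟨t, ht⟩ := hK.elim_finite_subcover (fun O : V.affineOpens => (O.1 : Set V))
    (fun O => O.1.isOpen) fun x _ => Set.mem_iUnion.2 (Covers.affineOpens_cover V x)
  refine ⟨t.card, fun k => (t.equivFin.symm k).1, fun x hx => ?_⟩
  obtain ⟨O, hO, hxO⟩ := Set.mem_iUnion₂.1 (ht hx)
  exact Set.mem_iUnion.2 ⟨t.equivFin ⟨O, hO⟩, by simp only [Equiv.symm_apply_apply]; exact hxO⟩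

theorem exists_product (W' : Z.ProEt) {V W : X.ProEt} (a : W' ⟶ (_root_.ProEtS.bcP i).obj V)
    (b : W' ⟶ (_root_.ProEtS.bcP i).obj W) :
    ∃ (P : X.ProEt) (p : P ⟶ V) (q : P ⟶ W) (c : W' ⟶ (_root_.ProEtS.bcP i).obj P),
      c ≫ (_root_.ProEtS.bcP i).map p = a ∧ c ≫ (_root_.ProEtS.bcP i).map q = b := by
  have : RepresentablyFlat (_root_.ProEtS.bcP i) := flat_of_preservesFiniteLimits _
  let A : StructuredArrow W' (_root_.ProEtS.bcP i) := StructuredArrow.mk a
  let B : StructuredArrow W' (_root_.ProEtS.bcP i) := StructuredArrow.mk b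
  exact ⟨(IsCofiltered.min A B).right, (IsCofiltered.minToLeft A B).right,
    (IsCofiltered.minToRight A B).right, (IsCofiltered.min A B).hom,
    StructuredArrow.w (IsCofiltered.minToLeft A B), StructuredArrow.w (IsCofiltered.minToRight A B)⟩

set_option backward.isDefEq.respectTransparency.types false in
/-- A sieve is covering if it contains the objects over the open part and covers the closed part. -/
theorem mem_of_closed_part [IsClosedImmersion i] [IsOpenImmersion j] [QuasiCompact j]
    (hc : Set.range j = (Set.range i)ᶜ) {W : X.ProEt} [IsAffine W.left] (T : Sieve W)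
    (hU : ∀ (W' : X.ProEt) (g : W' ⟶ W), Set.range W'.hom ⊆ Set.range j → T g)
    (hZ : T.functorPushforward (_root_.ProEtS.bcP i) ∈
      Scheme.ProEt.topology Z ((_root_.ProEtS.bcP i).obj W)) :
    T ∈ Scheme.ProEt.topology X W := by
  haveI hWZ : IsAffine ((_root_.ProEtS.bcP i).obj W).left :=
    haveI : IsClosedImmersion (pullback.fst W.hom i) := MorphismProperty.pullback_fst _ _ ‹IsClosedImmersion i›
    haveI : IsAffine ((𝟭 Scheme).obj W.left) := inferInstanceAs (IsAffine W.left)
    ((HasAffineProperty.iff_of_isAffine (P := @IsClosedImmersion) (f := pullback.fst W.hom i)).1 ‹_›).1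
  obtain ⟨n, W', k, hA, hk, -, hcov⟩ := Affine.exists_affine_cover hZ
  choose V g l hg hl using hk
  haveI : ∀ m, IsAffine (W' m).left := hA
  let q : ∀ m, (W' m).left ⟶ (V m).left := fun m => (l m).left ≫ pullback.fst (V m).hom i
  -- the open part
  let O : W.left.Opens := W.hom ⁻¹ᵁ j.opensRange
  have hO : IsCompact (O : Set W.left) := by
    haveI : CompactSpace ↥((𝟭 Scheme).obj W.left) := inferInstanceAs (CompactSpace ↥W.left)
    haveI : QuasiCompact (pullback.fst W.hom j) := MorphismProperty.pullback_fst _ _ ‹QuasiCompact j›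
    haveI : CompactSpace ↥(pullback W.hom j) :=
      QuasiCompact.compactSpace_of_compactSpace (pullback.fst W.hom j)
    have e : (O : Set W.left) = Set.range (pullback.fst W.hom j) := by
      rw [Scheme.Pullback.range_fst]
      rfl
    exact e ▸ isCompact_range (pullback.fst W.hom j).continuous
  obtain ⟨n₀, O₀, hO₀⟩ := exists_finite_affine (V := (O : Scheme.{u}))
    (isCompact_iff_isCompact_univ.1 hO)
  choose nK OK hOK using fun m => exists_finite_affine (isCompact_range (q m).continuous)
  -- the family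
  let ι := (Σ m, Fin (nK m)) ⊕ Fin n₀
  haveI : WeaklyEtale W.hom := W.prop
  let S : ι → X.ProEt := fun
    | .inl ⟨m, r⟩ => haveI : WeaklyEtale (V m).hom := (V m).prop
        Scheme.ProEt.mk ((OK m r).1.ι ≫ (V m).hom)
    | .inr r => Scheme.ProEt.mk (((O₀ r).1.ι ≫ O.ι) ≫ W.hom)
  let s : ∀ x, S x ⟶ W := fun
    | .inl ⟨m, r⟩ => MorphismProperty.Over.homMk ((OK m r).1.ι ≫ (g m).left)
        ((Category.assoc _ _ _).trans (congrArg ((OK m r).1.ι ≫ ·) (Over.w (g m).hom)) :)
    | .inr r => MorphismProperty.Over.homMk ((O₀ r).1.ι ≫ O.ι)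
  have hT : ∀ x, T (s x) := by
    rintro (⟨m, r⟩ | r)
    · haveI : WeaklyEtale (V m).hom := (V m).prop
      let t : S (.inl ⟨m, r⟩) ⟶ V m := MorphismProperty.Over.homMk (OK m r).1.ι
      have ht : t ≫ g m = s (.inl ⟨m, r⟩) := MorphismProperty.Over.Hom.ext rfl
      rw [← ht]
      exact T.downward_closed (hg m) t
    · refine hU _ _ ?_
      rintro _ ⟨y, rfl⟩
      exact ((O₀ r).1.ι y).2
  have haff : ∀ x, IsAffine (S x).left := by
    rintro (⟨m, r⟩ | r)
    exacts [(OK m r).2, (O₀ r).2]
  have hsurj : ∀ w : W.left, ∃ x, w ∈ Set.range (s x).left := by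
    intro w
    by_cases hw : W.hom w ∈ Set.range i
    · obtain ⟨v, hv⟩ : w ∈ Set.range (pullback.fst W.hom i) := by
        rw [Scheme.Pullback.range_fst]; exact hw
      obtain ⟨m, y, rfl⟩ := hcov v
      obtain ⟨r, hr⟩ := Set.mem_iUnion.1 (hOK m ⟨y, rfl⟩)
      refine ⟨.inl ⟨m, r⟩, ⟨q m y, hr⟩, ?_⟩
      subst hv
      show (g m).left (q m y) = pullback.fst W.hom i ((k m).left y)
      have e : ((_root_.ProEtS.bcP i).map (g m)).left ≫ pullback.fst W.hom i =
          pullback.fst (V m).hom i ≫ (g m).left := pullback.lift_fst _ _ _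
      have e' : (k m).left = (l m).left ≫ ((_root_.ProEtS.bcP i).map (g m)).left :=
        congrArg (fun f : W' m ⟶ (_root_.ProEtS.bcP i).obj W => f.left) (hl m)
      rw [e']
      exact (congrArg (fun f : pullback (V m).hom i ⟶ W.left => f ((l m).left y)) e).symm
    · have hwO : w ∈ O := by
        show W.hom w ∈ Set.range j
        rw [hc]; exact hw
      obtain ⟨r, hr⟩ := Set.mem_iUnion.1 (hO₀ (Set.mem_univ (⟨w, hwO⟩ : (O : Scheme.{u}))))
      exact ⟨.inr r, ⟨⟨w, hwO⟩, hr⟩, rfl⟩
  obtain ⟨N, ⟨eN⟩⟩ := Finite.exists_equiv_fin ι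
  refine GrothendieckTopology.superset_covering _ ?_ (Site.generate_mem (U := W)
    (fun x => S (eN.symm x)) (fun x => s (eN.symm x)) ?_)
  · rw [Sieve.ofArrows, Sieve.generate_le_iff]
    rintro A f ⟨x⟩
    exact hT _
  · haveI : ∀ x, IsAffine (S (eN.symm x)).left := fun x => haff _
    refine ExtZero.mem_of_finite_affine _ (fun x => EpsElem.weaklyEtale_left _) fun w => ?_
    obtain ⟨x, hx⟩ := hsurj w
    exact ⟨eN x, by rw [Equiv.symm_apply_apply]; exact hx⟩

set_option backward.isDefEq.respectTransparency.types false in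
/-- Covering sieves can be detected on affine open pieces. -/
theorem mem_of_affine {W : X.ProEt} (T : Sieve W)
    (h : ∀ (W₀ : X.ProEt) (g : W₀ ⟶ W), IsAffine W₀.left → T.pullback g ∈ Scheme.ProEt.topology X W₀) :
    T ∈ Scheme.ProEt.topology X W := by
  haveI : WeaklyEtale W.hom := W.prop
  let A : W.left.affineOpens → X.ProEt := fun O => Scheme.ProEt.mk (O.1.ι ≫ W.hom)
  let a : ∀ O, A O ⟶ W := fun O => MorphismProperty.Over.homMk O.1.ι
  refine GrothendieckTopology.transitive _ (WC.ofArrows_mem_of_isOpenImmersion A a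
    (fun O => inferInstanceAs (IsOpenImmersion O.1.ι))
    (fun x => let ⟨O, hO⟩ := Covers.affineOpens_cover W.left x
      ⟨O, (Set.ext_iff.1 (Scheme.Opens.range_ι O.1) x).2 hO⟩)) T ?_
  rintro B f ⟨B', b, c, ⟨O⟩, rfl⟩
  rw [Sieve.pullback_comp]
  exact GrothendieckTopology.pullback_stable _ b (h _ _ O.2)

section Unit

variable [IsClosedImmersion i] (F : _root_.ProEtS.AbP X)

/-- The presheaf pullback. -/
noncomputable abbrev pre : Z.ProEtᵒᵖ ⥤ AddCommGrpCat.{u + 1} :=
  (_root_.ProEtS.bcP i).op.lan.obj F.obj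

/-- The sheaf pullback. -/
noncomputable abbrev shf : _root_.ProEtS.AbP Z :=
  (presheafToSheaf (Scheme.ProEt.topology Z) AddCommGrpCat.{u + 1}).obj (pre i F)

/-- The germ given by a map to a base change and a section there. -/
noncomputable def cls {W : Z.ProEt} {V : X.ProEt} (a : W ⟶ (_root_.ProEtS.bcP i).obj V)
    (t : F.obj.obj (op V)) : (pre i F).obj (op W) :=
  (pre i F).map a.op (((_root_.ProEtS.bcP i).op.lanUnit.app F.obj).app (op V) t)

/-- The unit on sections. -/
noncomputable def un {W : X.ProEt} (t : F.obj.obj (op W)) :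
    (shf i F).obj.obj (op ((_root_.ProEtS.bcP i).obj W)) :=
  (toSheafify (Scheme.ProEt.topology Z) (pre i F)).app (op ((_root_.ProEtS.bcP i).obj W))
    (((_root_.ProEtS.bcP i).op.lanUnit.app F.obj).app (op W) t)

theorem map_cls {W W' : Z.ProEt} (k : W' ⟶ W) {V : X.ProEt} (a : W ⟶ (_root_.ProEtS.bcP i).obj V)
    (t : F.obj.obj (op V)) : (pre i F).map k.op (cls i F a t) = cls i F (k ≫ a) t :=
  (EpsElem.map_comp_apply (pre i F) k a _).symm

theorem cls_comp {W : Z.ProEt} {V V' : X.ProEt} (a : W ⟶ (_root_.ProEtS.bcP i).obj V') (g : V' ⟶ V)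
    (t : F.obj.obj (op V)) :
    cls i F (a ≫ (_root_.ProEtS.bcP i).map g) t = cls i F a (F.obj.map g.op t) := by
  rw [cls, cls, EpsElem.map_comp_apply (pre i F)]
  congr 1
  exact (NatTrans.naturality_apply ((_root_.ProEtS.bcP i).op.lanUnit.app F.obj) g.op t).symm

theorem un_eq {W : X.ProEt} (t : F.obj.obj (op W)) :
    un i F t = (toSheafify (Scheme.ProEt.topology Z) (pre i F)).app _ (cls i F (𝟙 _) t) := by
  simp only [un, cls, op_id, CategoryTheory.Functor.map_id, AddCommGrpCat.hom_id, AddMonoidHom.id_apply]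

set_option backward.isDefEq.respectTransparency.types false in
theorem exists_cls (W : Z.ProEt) (p : (pre i F).obj (op W)) :
    ∃ (V : X.ProEt) (a : W ⟶ (_root_.ProEtS.bcP i).obj V) (t : F.obj.obj (op V)), cls i F a t = p := by
  have : RepresentablyFlat (_root_.ProEtS.bcP i) := flat_of_preservesFiniteLimits _
  have : PreservesFilteredColimitsOfSize.{u, u + 1} (forget AddCommGrpCat.{u + 1}) :=
    preservesFilteredColimitsOfSize_shrink.{u+1, u+1, u, u+1} _
  obtain ⟨j, s, hs⟩ := Concrete.isColimit_exists_rep _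
    (Functor.isPointwiseLeftKanExtensionLeftKanExtensionUnit (_root_.ProEtS.bcP i).op F.obj (op W)) p
  exact ⟨j.left.unop, j.hom.unop, s, hs⟩

set_option backward.isDefEq.respectTransparency.types false in
theorem exists_of_cls_eq_zero {W : Z.ProEt} {V : X.ProEt} (a : W ⟶ (_root_.ProEtS.bcP i).obj V)
    (t : F.obj.obj (op V)) (h : cls i F a t = 0) :
    ∃ (V' : X.ProEt) (g : V' ⟶ V) (c : W ⟶ (_root_.ProEtS.bcP i).obj V'),
      c ≫ (_root_.ProEtS.bcP i).map g = a ∧ F.obj.map g.op t = 0 := by
  have : RepresentablyFlat (_root_.ProEtS.bcP i) := flat_of_preservesFiniteLimits _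
  have : PreservesFilteredColimitsOfSize.{u, u + 1} (forget AddCommGrpCat.{u + 1}) :=
    preservesFilteredColimitsOfSize_shrink.{u+1, u+1, u, u+1} _
  have h0 : cls i F a t = cls i F a 0 := h.trans (by simp only [cls, map_zero])
  let x : CostructuredArrow (_root_.ProEtS.bcP i).op (op W) := CostructuredArrow.mk (Y := op V) a.op
  obtain ⟨k, g₁, g₂, hk⟩ := (Concrete.isColimit_rep_eq_iff_exists
    (CostructuredArrow.proj (_root_.ProEtS.bcP i).op (op W) ⋙ F.obj) (i := x) (j := x)
    (Functor.isPointwiseLeftKanExtensionLeftKanExtensionUnit (_root_.ProEtS.bcP i).op F.obj (op W)) t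
    (0 : F.obj.obj (op V))).1 h0
  exact ⟨k.left.unop, g₁.left.unop, k.hom.unop,
    congrArg Quiver.Hom.unop (CostructuredArrow.w g₁), hk.trans (map_zero _)⟩

set_option backward.isDefEq.respectTransparency.types false in
/-- Sections of the pushforward of the pullback come locally from sections. -/
theorem locally_surjective [IsOpenImmersion j] [QuasiCompact j] (hc : Set.range j = (Set.range i)ᶜ)
    {W : X.ProEt} (s : (shf i F).obj.obj (op ((_root_.ProEtS.bcP i).obj W))) :
    ∃ T ∈ Scheme.ProEt.topology X W, ∀ ⦃W' : X.ProEt⦄ (g : W' ⟶ W), T g →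
      ∃ t, un i F t = (shf i F).obj.map ((_root_.ProEtS.bcP i).map g).op s := by
  let B := _root_.ProEtS.bcP i
  let T : Sieve W :=
    { arrows := fun W' g => ∃ t, un i F t = (shf i F).obj.map (B.map g).op s
      downward_closed := fun {W' W''} g ⟨t, ht⟩ h => ⟨F.obj.map h.op t, by
        rw [B.map_comp, EpsElem.map_comp_apply (shf i F).obj, ← ht, un_eq, un_eq,
          ← NatTrans.naturality_apply, map_cls, ← cls_comp, Category.id_comp, Category.comp_id]⟩ }
  refine ⟨T, mem_of_affine T fun W₀ g₀ hW₀ => ?_, fun _ _ h => h⟩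
  refine mem_of_closed_part i j hc _ (fun W' g hg => ?_) ?_
  · haveI : IsEmpty (B.obj W').left := ⟨fun z => by
      have h1 : W'.hom (pullback.fst W'.hom i z) = i (pullback.snd W'.hom i z) :=
        congrArg (fun m : pullback W'.hom i ⟶ X => m z) pullback.condition
      have h2 := hg ⟨pullback.fst W'.hom i z, rfl⟩
      rw [hc] at h2
      exact h2 ⟨_, h1.symm⟩⟩
    haveI := WC.subsingleton_of_isEmpty
      ((sheafCompose (Scheme.ProEt.topology Z) (forget AddCommGrpCat.{u + 1})).obj (shf i F)) (B.obj W')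
    exact ⟨0, @Subsingleton.elim ((shf i F).obj.obj (op (B.obj W'))) ‹_› _ _⟩
  · let s₀ := (shf i F).obj.map (B.map g₀).op s
    refine GrothendieckTopology.transitive _
      (Presheaf.imageSieve_mem (Scheme.ProEt.topology Z) (toSheafify _ (pre i F)) s₀) _ ?_
    intro W' k ⟨p, hp⟩
    obtain ⟨V, a, t, rfl⟩ := exists_cls i F W' p
    obtain ⟨P, pr, qr, c, hca, hck⟩ := exists_product i W' a k
    refine ClosedCounit.mem_of_local i _ fun x => ?_
    obtain ⟨O, V₀, g₁, a₁, hO, hx, hV₀, he⟩ := ClosedCounit.exists_affine i c x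
    refine ⟨O, V₀, a₁, hO, hx, hV₀, fun V' g' k' hk' => ?_⟩
    let ι' : Scheme.ProEt.mk (O.ι ≫ W'.hom) ⟶ W' := MorphismProperty.Over.homMk O.ι
    have hc' : (k' ≫ ι') ≫ c = B.map (g' ≫ g₁) :=
      ((Category.assoc k' ι' c).trans ((congrArg (k' ≫ ·) he.symm).trans ((Category.assoc k' a₁ _).symm.trans
        ((congrArg (· ≫ _) hk').trans (B.map_comp g' g₁).symm))) :)
    have hk : (k' ≫ ι') ≫ k = B.map ((g' ≫ g₁) ≫ qr) := by
      rw [← hck, ← Category.assoc, hc', ← B.map_comp]
    have ha : (k' ≫ ι') ≫ a = B.map ((g' ≫ g₁) ≫ pr) := by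
      rw [← hca, ← Category.assoc, hc', ← B.map_comp]
    refine ⟨V', (g' ≫ g₁) ≫ qr, 𝟙 _, ⟨F.obj.map ((g' ≫ g₁) ≫ pr).op t, ?_⟩,
      hk.trans (Category.id_comp _).symm⟩
    rw [B.map_comp _ g₀, EpsElem.map_comp_apply (shf i F).obj, ← hk,
      EpsElem.map_comp_apply (shf i F).obj, ← hp, ← NatTrans.naturality_apply, map_cls, ha,
      ← Category.id_comp (B.map ((g' ≫ g₁) ≫ pr)), cls_comp, un_eq]

set_option backward.isDefEq.respectTransparency.types false in
/-- Sections killed by the unit vanish locally away from the open part. -/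
theorem locally_zero [IsOpenImmersion j] [QuasiCompact j] (hc : Set.range j = (Set.range i)ᶜ)
    {W : X.ProEt} (s : F.obj.obj (op W)) (hs : un i F s = 0) :
    ∃ T ∈ Scheme.ProEt.topology X W, ∀ ⦃W' : X.ProEt⦄ (g : W' ⟶ W), T g →
      Set.range W'.hom ⊆ Set.range j ∨ F.obj.map g.op s = 0 := by
  let B := _root_.ProEtS.bcP i
  let T : Sieve W :=
    { arrows := fun W' g => Set.range W'.hom ⊆ Set.range j ∨ F.obj.map g.op s = 0
      downward_closed := fun {W' W''} g h k => h.imp
        (fun hr => by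
          rintro _ ⟨y, rfl⟩
          exact hr ⟨k.left y, congrArg (fun m : W''.left ⟶ X => m y) (Over.w k.hom)⟩)
        (fun h0 => by rw [EpsElem.map_comp_apply F.obj, h0, map_zero]) }
  refine ⟨T, mem_of_affine T fun W₀ g₀ hW₀ => ?_, fun _ _ h => h⟩
  refine mem_of_closed_part i j hc _ (fun W' g hg => Or.inl hg) ?_
  let s₀ := F.obj.map g₀.op s
  have hs₀ : un i F s₀ = 0 := by
    rw [un_eq, ← cls_comp, Category.id_comp, ← Category.comp_id (B.map g₀), ← map_cls,
      NatTrans.naturality_apply, ← un_eq, hs, map_zero]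
  refine GrothendieckTopology.transitive _
    (Presheaf.equalizerSieve_mem (Scheme.ProEt.topology Z) (toSheafify _ (pre i F))
      (cls i F (𝟙 (B.obj W₀)) s₀) 0 (by rw [← un_eq, hs₀, map_zero])) _ ?_
  intro W' k hk
  have hk0 : cls i F k s₀ = 0 := by
    have h1 : (pre i F).map k.op (cls i F (𝟙 (B.obj W₀)) s₀) = (pre i F).map k.op 0 := hk
    rwa [map_cls, Category.comp_id, map_zero] at h1
  obtain ⟨V, g, c, hcg, hg0⟩ := exists_of_cls_eq_zero i F k s₀ hk0
  refine ClosedCounit.mem_of_local i _ fun x => ?_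
  obtain ⟨O, V₀, g₁, a₁, hO, hx, hV₀, he⟩ := ClosedCounit.exists_affine i c x
  refine ⟨O, V₀, a₁, hO, hx, hV₀, fun V' g' k' hk' => ?_⟩
  let ι' : Scheme.ProEt.mk (O.ι ≫ W'.hom) ⟶ W' := MorphismProperty.Over.homMk O.ι
  have hc' : (k' ≫ ι') ≫ c = B.map (g' ≫ g₁) :=
    ((Category.assoc k' ι' c).trans ((congrArg (k' ≫ ·) he.symm).trans ((Category.assoc k' a₁ _).symm.trans
      ((congrArg (· ≫ _) hk').trans (B.map_comp g' g₁).symm))) :)
  refine ⟨V', (g' ≫ g₁) ≫ g, 𝟙 _, Or.inr ?_, ?_⟩
  · rw [EpsElem.map_comp_apply F.obj ((g' ≫ g₁) ≫ g) g₀, EpsElem.map_comp_apply F.obj (g' ≫ g₁) g]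
    show F.obj.map (g' ≫ g₁).op (F.obj.map g.op s₀) = 0
    rw [hg0, map_zero]
  · show (k' ≫ ι') ≫ k = _
    rw [← hcg, ← Category.assoc, hc', ← B.map_comp, Category.id_comp]

end Unit

section Exact

variable [IsOpenImmersion j] (F : _root_.ProEtS.AbP X)

set_option backward.isDefEq.respectTransparency.types false in
/-- Objects whose structure map lands in the open come from the open. -/
theorem exists_comp_iso {W : X.ProEt} (h : Set.range W.hom ⊆ Set.range j) :
    ∃ W' : U.ProEt, Nonempty ((_root_.ProEtS.compP j).obj W' ≅ W) := by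
  haveI : WeaklyEtale W.hom := W.prop
  haveI : WeaklyEtale (IsOpenImmersion.lift j W.hom h ≫ j) := by
    rw [IsOpenImmersion.lift_fac]; infer_instance
  haveI : WeaklyEtale (IsOpenImmersion.lift j W.hom h) := WeaklyEtale.of_comp _ j
  exact ⟨Scheme.ProEt.mk (IsOpenImmersion.lift j W.hom h),
    ⟨MorphismProperty.Over.isoMk (Iso.refl _)
      ((Category.id_comp W.hom).trans (IsOpenImmersion.lift_fac j W.hom h).symm :)⟩⟩

set_option backward.isDefEq.respectTransparency.types false in
instance full_compP : (_root_.ProEtS.compP j).Full where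
  map_surjective {V W} g := by
    have e : ((g.left : V.left ⟶ W.left) ≫ W.hom) ≫ j = V.hom ≫ j := by
      rw [Category.assoc]; exact MorphismProperty.Over.w g
    exact ⟨MorphismProperty.Over.homMk g.left ((cancel_mono j).1 e), MorphismProperty.Over.Hom.ext rfl⟩

set_option backward.isDefEq.respectTransparency.types false in
instance faithful_compP : (_root_.ProEtS.compP j).Faithful where
  map_injective {_ _} _ _ h :=
    MorphismProperty.Over.Hom.ext (congrArg (fun k => k.left) h :)

variable [_root_.ProEtS.JPCont j]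

set_option backward.isDefEq.respectTransparency.types false in
theorem mono_lanCounit : Mono (((_root_.ProEtS.compP j).op.lanAdjunction AddCommGrpCat.{u + 1}).counit.app F.obj) := by
  let G := _root_.ProEtS.compP j
  let c := (G.op.lanAdjunction AddCommGrpCat.{u + 1}).counit.app F.obj
  suffices ∀ V, Mono (c.app V) from NatTrans.mono_of_mono_app c
  intro V
  obtain ⟨V⟩ := V
  by_cases hV : Set.range V.hom ⊆ Set.range j
  · obtain ⟨V', ⟨e⟩⟩ := exists_comp_iso j hV
    haveI : IsIso ((G.op.lanUnit.app (G.op ⋙ F.obj)).app (op V')) :=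
      (Functor.isPointwiseLeftKanExtensionLeftKanExtensionUnit G.op (G.op ⋙ F.obj)
        (op (G.obj V'))).isIso_hom_app
    have h1 : IsIso (c.app (op (G.obj V'))) :=
      IsIso.of_isIso_fac_left (G.op.lanUnit_app_app_lanAdjunction_counit_app_app F.obj (op V'))
    have h2 := c.naturality e.inv.op
    haveI : Mono (((G.op.lan.obj (G.op ⋙ F.obj)).map e.inv.op) ≫ c.app (op V)) := by
      erw [h2]
      infer_instance
    exact (MorphismProperty.monomorphisms _).cancel_left_of_respectsIso
      ((G.op.lan.obj (G.op ⋙ F.obj)).map e.inv.op) (c.app (op V)) |>.1 this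
  · have hs : Subsingleton ((G.op.lan.obj (G.op ⋙ F.obj)).obj (op V)) :=
      ExtZero.subsingleton_pre j ((_root_.ProEtS.restrP j).obj F) V fun A => ⟨fun a => hV (by
        rintro _ ⟨y, rfl⟩
        exact ⟨A.hom (a.left y), congrArg (fun m : V.left ⟶ X => m y) (Over.w a.hom)⟩)⟩
    exact ConcreteCategory.mono_of_injective _ fun a b _ => @Subsingleton.elim _ hs a b

set_option backward.isDefEq.respectTransparency.types false in
theorem mono_counit : Mono ((_root_.ProEtS.extZeroPAdj j).counit.app F) := by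
  let J := Scheme.ProEt.topology X
  let adj' := Functor.sheafPullbackConstruction.sheafAdjunctionContinuous (_root_.ProEtS.compP j)
    AddCommGrpCat.{u + 1} (Scheme.ProEt.topology U) J
  haveI := mono_lanCounit j F
  haveI hM : Mono ((presheafToSheaf J AddCommGrpCat.{u + 1}).map
      (((_root_.ProEtS.compP j).op.lanAdjunction AddCommGrpCat.{u + 1}).counit.app F.obj)) := inferInstance
  haveI hI : IsIso ((sheafificationAdjunction J AddCommGrpCat.{u + 1}).counit.app F) := inferInstance
  haveI : Mono (adj'.counit.app F) := by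
    rw [show adj'.counit.app F = _ from ClosedCounit.counit_eq (_root_.ProEtS.compP j)
      AddCommGrpCat.{u + 1} (Scheme.ProEt.topology U) J F]
    exact @mono_comp _ _ _ _ _ _ hM _ (@IsIso.mono_of_iso _ _ _ _ _ hI)
  rw [← Adjunction.leftAdjointUniq_hom_app_counit (_root_.ProEtS.extZeroPAdj j) adj' F]
  infer_instance

set_option backward.isDefEq.respectTransparency.types false in
theorem surjective_counit {W : X.ProEt} (h : Set.range W.hom ⊆ Set.range j) :
    Function.Surjective (((_root_.ProEtS.extZeroPAdj j).counit.app F).hom.app (op W)) := by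
  obtain ⟨W', ⟨e⟩⟩ := exists_comp_iso j h
  intro s
  let c := ((_root_.ProEtS.extZeroPAdj j).counit.app F).hom
  let s' := F.obj.map e.hom.op s
  let t := ((_root_.ProEtS.extZeroPAdj j).unit.app ((_root_.ProEtS.restrP j).obj F)).hom.app (op W') s'
  have ht : c.app (op ((_root_.ProEtS.compP j).obj W')) t = s' :=
    congrArg (fun m : (_root_.ProEtS.restrP j).obj F ⟶ (_root_.ProEtS.restrP j).obj F => m.hom.app (op W') s')
      ((_root_.ProEtS.extZeroPAdj j).right_triangle_components F)
  refine ⟨((_root_.ProEtS.extZeroP j).obj ((_root_.ProEtS.restrP j).obj F)).obj.map e.inv.op t, ?_⟩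
  refine (NatTrans.naturality_apply c e.inv.op t).trans ((congrArg (F.obj.map e.inv.op) ht).trans ?_)
  rw [← EpsElem.map_comp_apply F.obj, e.inv_hom_id, op_id, CategoryTheory.Functor.map_id]
  rfl

variable [IsClosedImmersion i] [_root_.ProEtS.PCont i]

set_option backward.isDefEq.respectTransparency.types false in
theorem comp_eq_zero (hc : Set.range j = (Set.range i)ᶜ) :
    (_root_.ProEtS.extZeroPAdj j).counit.app F ≫ (_root_.ProEtS.pullPushAdjP i).unit.app F = 0 := by
  let H := (_root_.ProEtS.pullP i).obj F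
  have hsub : ∀ V : U.ProEt, Subsingleton (H.obj.obj
      (op ((_root_.ProEtS.bcP i).obj ((_root_.ProEtS.compP j).obj V)))) := fun V => by
    haveI : IsEmpty ((_root_.ProEtS.bcP i).obj ((_root_.ProEtS.compP j).obj V)).left := ⟨fun z => by
      have h1 : j (V.hom (pullback.fst (V.hom ≫ j) i z)) = i (pullback.snd (V.hom ≫ j) i z) :=
        congrArg (fun m : pullback (V.hom ≫ j) i ⟶ X => m z) pullback.condition
      have h2 : i (pullback.snd (V.hom ≫ j) i z) ∈ Set.range j := ⟨_, h1⟩
      rw [hc] at h2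
      exact h2 ⟨_, rfl⟩⟩
    exact WC.subsingleton_of_isEmpty
      ((sheafCompose (Scheme.ProEt.topology Z) (forget AddCommGrpCat.{u + 1})).obj H) _
  apply ((_root_.ProEtS.extZeroPAdj j).homEquiv _ _).injective
  apply ObjectProperty.hom_ext
  apply NatTrans.ext
  funext V
  haveI := hsub V.unop
  exact AddCommGrpCat.hom_ext (AddMonoidHom.ext fun x => @Subsingleton.elim _ (hsub V.unop) _ _)

set_option backward.isDefEq.respectTransparency.types false in
theorem shortExact [QuasiCompact j] (hc : Set.range j = (Set.range i)ᶜ) :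
    ∃ h : (_root_.ProEtS.extZeroPAdj j).counit.app F ≫ (_root_.ProEtS.pullPushAdjP i).unit.app F = 0,
      (ShortComplex.mk _ _ h).ShortExact := by
  let B := _root_.ProEtS.bcP i
  let J := Scheme.ProEt.topology X
  let adj' := Functor.sheafPullbackConstruction.sheafAdjunctionContinuous B AddCommGrpCat.{u + 1} J
    (Scheme.ProEt.topology Z)
  let η := (_root_.ProEtS.pullPushAdjP i).unit.app F
  let E := (_root_.ProEtS.pushP i).map (((_root_.ProEtS.pullPushAdjP i).leftAdjointUniq adj').hom.app F)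
  have hη : η ≫ E = adj'.unit.app F :=
    Adjunction.unit_leftAdjointUniq_hom_app (_root_.ProEtS.pullPushAdjP i) adj' F
  have hun : ∀ (W : X.ProEt) (t : F.obj.obj (op W)),
      E.hom.app (op W) (η.hom.app (op W) t) = un i F t := fun W t =>
    (congrArg (fun m : F ⟶ (B.sheafPushforwardContinuous AddCommGrpCat.{u + 1} J
      (Scheme.ProEt.topology Z)).obj (shf i F) => m.hom.app (op W) t) hη).trans
      (congrArg (fun m : F.obj ⟶ B.op ⋙ (shf i F).obj => m.app (op W) t)
        (UnitEq.unit_eq B AddCommGrpCat.{u + 1} J (Scheme.ProEt.topology Z) F))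
  have hE : ∀ W, Function.Injective (E.hom.app (op W)) := fun W =>
    (ConcreteCategory.bijective_of_isIso (((sheafToPresheaf J AddCommGrpCat.{u + 1}).map E).app (op W))).1
  refine ⟨comp_eq_zero i j F hc, ?_⟩
  haveI := mono_counit j F
  haveI : Sheaf.IsLocallySurjective η := by
    refine ⟨fun {W} s => ?_⟩
    obtain ⟨T, hT, h⟩ := locally_surjective i j F hc (E.hom.app (op W) s)
    refine GrothendieckTopology.superset_covering _ (fun W' g hg => ?_) hT
    obtain ⟨t, ht⟩ := h g hg
    refine ⟨t, hE W' ((hun W' t).trans (ht.trans ?_))⟩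
    exact (NatTrans.naturality_apply E.hom g.op s).symm
  haveI : Epi η := (Sheaf.isLocallySurjective_iff_epi' AddCommGrpCat.{u + 1} η).1 inferInstance
  refine { exact := ?_, mono_f := ‹_›, epi_g := ‹_› }
  let S := ShortComplex.mk _ _ (comp_eq_zero i j F hc)
  rw [S.exact_iff_epi_kernel_lift]
  let l := kernel.lift S.g S.f S.zero
  haveI : Sheaf.IsLocallySurjective l := by
    refine ⟨fun {W} k => ?_⟩
    let s := (kernel.ι S.g).hom.app (op W) k
    have hs : un i F s = 0 := by
      have h0 : η.hom.app (op W) s = 0 :=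
        congrArg (fun m : kernel S.g ⟶ S.X₃ => m.hom.app (op W) k) (kernel.condition S.g)
      rw [← hun, h0, map_zero]
      rfl
    obtain ⟨T, hT, h⟩ := locally_zero i j F hc s hs
    refine GrothendieckTopology.superset_covering _ (fun W' g hg => ?_) hT
    have hι : Function.Injective ((kernel.ι S.g).hom.app (op W')) := by
      haveI : Mono ((sheafToPresheaf J AddCommGrpCat.{u + 1}).map (kernel.ι S.g)) := inferInstance
      haveI : Mono ((kernel.ι S.g).hom.app (op W')) :=
        inferInstanceAs (Mono (((sheafToPresheaf J AddCommGrpCat.{u + 1}).map (kernel.ι S.g)).app (op W')))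
      exact (AddCommGrpCat.mono_iff_injective _).1 inferInstance
    obtain ⟨t, ht⟩ : ∃ t, S.f.hom.app (op W') t = F.obj.map g.op s := by
      rcases h g hg with hr | h0
      · exact surjective_counit j F hr _
      · exact ⟨0, (map_zero _).trans h0.symm⟩
    refine ⟨t, hι ?_⟩
    refine (congrArg (fun m : S.X₁ ⟶ S.X₂ => m.hom.app (op W') t) (kernel.lift_ι S.g S.f S.zero)).trans
      (ht.trans ?_)
    exact (NatTrans.naturality_apply (kernel.ι S.g).hom g.op k).symm
  exact (Sheaf.isLocallySurjective_iff_epi' AddCommGrpCat.{u + 1} l).1 inferInstance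

end Exact

end Groth.Agent.ProEtS.ClosedOpen
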