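import Groth.Agent.ProEtS.Restr
import Groth.Agent.EtLimit.Main

/-!
# Sections of `ε⁻¹ F` on cofiltered limits
-/

set_option autoImplicit false
set_option backward.isDefEq.respectTransparency false

universe u

open CategoryTheory CategoryTheory.Limits AlgebraicGeometry Opposite

noncomputable section

namespace Groth.Agent.ProEtS.SectLim

open Groth.Agent.ProEtS Groth.Agent.EtLimit Groth.Agent.EtLimit.FHom EpsElem Restr

variable {X : Scheme.{u}} (F : EtCoh.Ab X) {I : Type u} [SmallCategory I] [IsCofiltered I]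
  (D : I ⥤ X.ProEt) [∀ (i j : I) (a : i ⟶ j), IsAffineHom (D.map a).left]
  [∀ i, CompactSpace ↥(D.obj i).left] [∀ i, QuasiSeparatedSpace ↥(D.obj i).left]
  (c : Cone D) (hc : IsLimit ((Scheme.ProEt.forget X ⋙ Over.forget X).mapCone c))

/-- The underlying system of schemes. -/
abbrev sch : I ⥤ Scheme.{u} := D ⋙ Scheme.ProEt.forget X ⋙ Over.forget X

instance (i j : I) (a : i ⟶ j) : IsAffineHom ((sch D).map a) :=
  inferInstanceAs (IsAffineHom (D.map a).left)

instance (i : I) : CompactSpace ((sch D).obj i) := inferInstanceAs (CompactSpace (D.obj i).left)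

instance (i : I) : QuasiSeparatedSpace ((sch D).obj i) :=
  inferInstanceAs (QuasiSeparatedSpace (D.obj i).left)

/-- Pulling back along a factorisation, through the inverse images. -/
theorem map_Ψ_comp {Y V V₀ : X.ProEt} (π : Y ⟶ V) (m : V ⟶ V₀) (π₀ : Y ⟶ V₀) (w : π ≫ m = π₀)
    (t : ((EtCoh.pull m.left).obj ((EtCoh.pull V₀.hom).obj F)).obj.obj (op (EtCoh.top V.left))) :
    (shf F).obj.map π.op ((Ψ F V).hom
        ((κ m.left V₀.hom (MorphismProperty.Over.w m) F).hom.hom.app (op (EtCoh.top V.left)) t)) =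
      (Ψ F Y).hom ((κ π₀.left V₀.hom (MorphismProperty.Over.w π₀) F).hom.hom.app
        (op (EtCoh.top Y.left)) ((κ π.left m.left (congrArg (fun q => q.left) w)
          ((EtCoh.pull V₀.hom).obj F)).hom.hom.app (op (EtCoh.top Y.left))
            ((unit π.left _).app (EtCoh.top Y.left) (EtCoh.top V.left) π.left (top_w _) t))) := by
  refine (map_Ψ F π _).trans (congrArg (Ψ F Y).hom ?_)
  refine Eq.trans (congrArg _ (pull_map_unit_apply π.left
    (κ m.left V₀.hom (MorphismProperty.Over.w m) F).hom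
    (EtCoh.top Y.left) (EtCoh.top V.left) π.left (top_w _) t).symm) ?_
  refine (comp_hom_app_apply _ (κ π.left V.hom (MorphismProperty.Over.w π) F).hom
    (EtCoh.top Y.left) _).symm.trans ?_
  rw [κ_assoc π.left m.left V₀.hom (congrArg (fun q => q.left) w)
        (MorphismProperty.Over.w m) (MorphismProperty.Over.w π)
        (MorphismProperty.Over.w π₀) F]
  exact comp_hom_app_apply _ _ _ _

include hc in
/-- Every section on the limit comes from a stage. -/
theorem exists_stage (d : (shf F).obj.obj (op c.pt)) :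
    ∃ (i : I) (z : (shf F).obj.obj (op (D.obj i))), (shf F).obj.map (c.π.app i).op z = d := by
  obtain ⟨i₀⟩ := IsCofiltered.nonempty (C := I)
  let y := (Ψ F c.pt).inv d
  let e := κ (c.π.app i₀).left (D.obj i₀).hom (MorphismProperty.Over.w (c.π.app i₀)) F
  obtain ⟨k, a, η, hη⟩ := (limit_cohomology hc 0).1 i₀ ((EtCoh.pull (D.obj i₀).hom).obj F)
    ((s₀ _).symm (e.inv.hom.app (op (EtCoh.top c.pt.left)) y))
  let e' := κ (D.map a).left (D.obj i₀).hom (MorphismProperty.Over.w (D.map a)) F
  refine ⟨k, (Ψ F (D.obj k)).hom (e'.hom.hom.app (op (EtCoh.top (D.obj k).left)) (s₀ _ η)), ?_⟩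
  have h1 : e.inv.hom.app (op (EtCoh.top c.pt.left)) y =
      (κ (c.π.app k).left (D.map a).left (congrArg (fun q => q.left) (c.w a))
        ((EtCoh.pull (D.obj i₀).hom).obj F)).hom.hom.app (op (EtCoh.top c.pt.left))
          ((unit (c.π.app k).left _).app (EtCoh.top c.pt.left) (EtCoh.top (D.obj k).left)
            (c.π.app k).left (top_w _) (s₀ _ η)) :=
    ((s₀ _).apply_symm_apply _).symm.trans
      ((congrArg (s₀ _) hη.symm).trans (s₀_HpullVia _ _ _ _ _ _))
  refine (map_Ψ_comp F (c.π.app k) (D.map a) (c.π.app i₀) (c.w a) _).trans ?_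
  refine (congrArg (fun q => (Ψ F c.pt).hom (e.hom.hom.app (op (EtCoh.top c.pt.left)) q)) h1.symm).trans ?_
  exact (congrArg (Ψ F c.pt).hom (iso_inv_hom_apply e _ y)).trans
    (ConcreteCategory.congr_hom (Ψ F c.pt).inv_hom_id d)

include hc in
/-- A section vanishing on the limit vanishes at a stage. -/
theorem exists_eq_zero {j : I} (z : (shf F).obj.obj (op (D.obj j)))
    (h : (shf F).obj.map (c.π.app j).op z = 0) :
    ∃ (k : I) (a : k ⟶ j), (shf F).obj.map (D.map a).op z = 0 := by
  let z₁ := (Ψ F (D.obj j)).inv z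
  have hz : (Ψ F (D.obj j)).hom z₁ = z := ConcreteCategory.congr_hom (Ψ F (D.obj j)).inv_hom_id z
  have hinj : ∀ V : X.ProEt, Function.Injective (Ψ F V).hom := fun V =>
    ((ConcreteCategory.isIso_iff_bijective (Ψ F V).hom).1 inferInstance).1
  rw [← hz, map_Ψ] at h
  have h' := hinj c.pt (h.trans (map_zero _).symm)
  have h0 : EtCore.Hpull (c.π.app j).left ((EtCoh.pull (D.obj j).hom).obj F) 0 ((s₀ _).symm z₁) = 0 := by
    refine (s₀ _).injective (Eq.trans ?_ (map_zero _).symm)
    refine (s₀_Hpull (c.π.app j).left _ _).trans ?_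
    refine (congrArg _ ((s₀ _).apply_symm_apply z₁)).trans ?_
    exact iso_app_eq_zero (κ (c.π.app j).left (D.obj j).hom (MorphismProperty.Over.w (c.π.app j)) F)
      _ _ h'
  obtain ⟨k, a, ha⟩ := (limit_cohomology hc 0).2 j _ _ h0
  refine ⟨k, a, ?_⟩
  have h1 : (unit (D.map a).left ((EtCoh.pull (D.obj j).hom).obj F)).app (EtCoh.top (D.obj k).left)
      (EtCoh.top (D.obj j).left) (D.map a).left (top_w _) z₁ = 0 :=
    ((congrArg _ ((s₀ _).apply_symm_apply z₁)).symm.trans ((s₀_Hpull (D.map a).left _ _).symm.trans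
      ((congrArg (s₀ _) ha).trans (map_zero _))))
  rw [← hz, map_Ψ, h1, map_zero, map_zero]

end Groth.Agent.ProEtS.SectLim
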