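import Groth.Prelude.Def_ProEtS
import Mathlib.CategoryTheory.Sites.CoverPreserving

/-!
The small pro-etale site: covering criterion, continuity of the standard functors.
-/

universe u

open CategoryTheory CategoryTheory.Limits AlgebraicGeometry Opposite

namespace Groth.Agent.ProEtS.Site

variable {X Y : Scheme.{u}}

/-- The sieve on the underlying scheme generated by a sieve of the small pro-etale site. -/
def under {U : X.ProEt} (S : Sieve U) : Sieve U.left where
  arrows Z h := ∃ (V : X.ProEt) (g : V ⟶ U) (k : Z ⟶ V.left), S g ∧ k ≫ g.left = h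
  downward_closed := fun ⟨V, g, k, hg, hk⟩ l => ⟨V, g, l ≫ k, hg, by rw [Category.assoc, hk]⟩

set_option backward.isDefEq.respectTransparency.types false in
theorem mem_topology_iff {U : X.ProEt} (S : Sieve U) :
    S ∈ Scheme.ProEt.topology X U ↔ under S ∈ Scheme.proetaleTopology U.left := by
  have h : S ∈ Scheme.ProEt.topology X U ↔
      S.functorPushforward (Scheme.ProEt.forget X) ∈
        Scheme.proetaleTopology.over X ((Scheme.ProEt.forget X).obj U) := by
    rw [show Scheme.ProEt.topology X =
      (Scheme.ProEt.forget X).restrictedTopology (Scheme.proetaleTopology.over X) from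
        MorphismProperty.toGrothendieck_comap_forget_eq_restrictedTopology _
          Scheme.proetalePrecoverage_le_precoverage_weaklyEtale]
    exact Functor.mem_restrictedTopology_iff
  rw [h, GrothendieckTopology.mem_over_iff]
  have : (Sieve.overEquiv ((Scheme.ProEt.forget X).obj U))
      (S.functorPushforward (Scheme.ProEt.forget X)) = under S := by
    ext Z l
    rw [Sieve.overEquiv_iff]
    constructor
    · rintro ⟨V, g, m, hg, hm⟩
      exact ⟨V, g, m.left, hg, (congrArg CommaMorphism.left hm).symm⟩
    · rintro ⟨V, g, k, hg, hk⟩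
      refine ⟨V, g, Over.homMk k ?_, hg, Over.OverMorphism.ext hk.symm⟩
      exact ((congrArg (k ≫ ·) (Over.w g.hom)).symm.trans
        ((Category.assoc _ _ _).symm.trans (congrArg (· ≫ U.hom) hk)) :)
  rw [this]
  rfl

theorem generate_mem {U : X.ProEt} {ι : Type*} (V : ι → X.ProEt) (g : ∀ i, V i ⟶ U)
    (h : Presieve.ofArrows (fun i => (V i).left) (fun i => (g i).left) ∈
      Scheme.proetalePrecoverage U.left) :
    Sieve.ofArrows V g ∈ Scheme.ProEt.topology X U := by
  rw [mem_topology_iff]
  refine GrothendieckTopology.superset_covering _ ?_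
    (Precoverage.generate_mem_toGrothendieck h)
  rintro Z l ⟨W, a, b, ⟨i⟩, hl⟩
  exact ⟨V i, g i, a, Sieve.ofArrows_mk _ _ i, hl⟩

set_option backward.isDefEq.respectTransparency.types false in
noncomputable instance preservesFiniteLimits_eps (X : Scheme.{u}) :
    PreservesFiniteLimits (_root_.ProEtS.eps X) := by
  have h : PreservesFiniteLimits (_root_.ProEtS.eps X ⋙ Scheme.ProEt.forget X) := by
    let e : _root_.ProEtS.eps X ⋙ Scheme.ProEt.forget X ≅ Scheme.Etale.forget X :=
      NatIso.ofComponents (fun _ => Iso.refl _) (fun _ => by ext; simp; rfl)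
    exact preservesFiniteLimits_of_natIso e.symm
  exact preservesFiniteLimits_of_reflects_of_preserves (_root_.ProEtS.eps X) (Scheme.ProEt.forget X)

set_option backward.isDefEq.respectTransparency.types false in
theorem coverPreserving_eps (X : Scheme.{u}) :
    CoverPreserving X.smallEtaleTopology (Scheme.ProEt.topology X) (_root_.ProEtS.eps X) := by
  refine ⟨fun {U S} hS => ?_⟩
  have eX : X.smallEtaleTopology =
      (X.smallPretopology (P := EtCoh.etaleMP) (Q := EtCoh.etaleMP)).toGrothendieck :=
    Scheme.smallGrothendieckTopology_eq_toGrothendieck_smallPretopology X le_rfl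
  rw [eX] at hS
  replace hS := (Scheme.mem_toGrothendieck_smallPretopology U S).1 hS
  choose V g v hg hg' hv using hS
  refine GrothendieckTopology.superset_covering _ ?_ (generate_mem
    (fun x => (_root_.ProEtS.eps X).obj (V x)) (fun x => (_root_.ProEtS.eps X).map (g x)) ?_)
  · rintro W l ⟨W', a, b, ⟨x⟩, hl⟩
    exact hl ▸ Sieve.downward_closed _ (Sieve.image_mem_functorPushforward _ _ (hg x)) a
  · refine Scheme.etalePrecoverage_le_proetalePrecoverage _ ?_
    show _ ∈ Scheme.precoverage @Etale U.left
    exact (Scheme.ofArrows_mem_precoverage_iff @Etale).2 ⟨fun x => ⟨x, v x, hv x⟩, fun x => hg' x⟩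

theorem epsCont (X : Scheme.{u}) : _root_.ProEtS.EpsCont X :=
  have : RepresentablyFlat (_root_.ProEtS.eps X) := flat_of_preservesFiniteLimits _
  Functor.isContinuous_of_coverPreserving (compatiblePreservingOfFlat _ _) (coverPreserving_eps X)

set_option backward.isDefEq.respectTransparency.types false in
noncomputable instance preservesFiniteLimits_bcP (f : X ⟶ Y) :
    PreservesFiniteLimits (_root_.ProEtS.bcP f) := by
  have h : PreservesFiniteLimits (_root_.ProEtS.bcP f ⋙ Scheme.ProEt.forget X) := by
    let e : _root_.ProEtS.bcP f ⋙ Scheme.ProEt.forget X ≅ Scheme.ProEt.forget Y ⋙ Over.pullback f :=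
      MorphismProperty.Over.pullbackCompForgetIso (P := @WeaklyEtale) (Q := ⊤) f
    exact preservesFiniteLimits_of_natIso e.symm
  exact preservesFiniteLimits_of_reflects_of_preserves (_root_.ProEtS.bcP f) (Scheme.ProEt.forget X)

set_option backward.isDefEq.respectTransparency.types false in
theorem coverPreserving_bcP (f : X ⟶ Y) :
    CoverPreserving (Scheme.ProEt.topology Y) (Scheme.ProEt.topology X) (_root_.ProEtS.bcP f) := by
  refine ⟨fun {U S} hS => ?_⟩
  rw [mem_topology_iff] at hS ⊢
  refine GrothendieckTopology.superset_covering _ ?_ (GrothendieckTopology.pullback_stable _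
    (pullback.fst U.hom f : ((_root_.ProEtS.bcP f).obj U).left ⟶ U.left) hS)
  rintro Z l ⟨V, g, k, hg, hk⟩
  have hk' : k ≫ g.left = l ≫ pullback.fst U.hom f := hk
  have w : k ≫ V.hom = (l ≫ pullback.snd U.hom f) ≫ f :=
    ((congrArg (k ≫ ·) (Over.w g.hom)).symm.trans ((Category.assoc _ _ _).symm.trans
      ((congrArg (· ≫ U.hom) hk').trans ((Category.assoc _ _ _).trans
        ((congrArg (l ≫ ·) pullback.condition).trans (Category.assoc _ _ _).symm)))) :)
  have e1 : ((_root_.ProEtS.bcP f).map g).left ≫ pullback.fst U.hom f =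
      pullback.fst V.hom f ≫ g.left := pullback.lift_fst _ _ _
  have e2 : ((_root_.ProEtS.bcP f).map g).left ≫ pullback.snd U.hom f = pullback.snd V.hom f :=
    pullback.lift_snd _ _ _
  refine ⟨(_root_.ProEtS.bcP f).obj V, (_root_.ProEtS.bcP f).map g,
    pullback.lift k (l ≫ pullback.snd U.hom f) w, Sieve.image_mem_functorPushforward _ _ hg, ?_⟩
  apply pullback.hom_ext
  · exact ((Category.assoc _ _ _).trans ((congrArg (_ ≫ ·) e1).trans ((Category.assoc _ _ _).symm.trans
      ((congrArg (· ≫ g.left) (pullback.lift_fst _ _ _)).trans hk'))) :)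
  · exact ((Category.assoc _ _ _).trans ((congrArg (_ ≫ ·) e2).trans (pullback.lift_snd _ _ _)) :)

theorem pCont (f : X ⟶ Y) : _root_.ProEtS.PCont f :=
  have : RepresentablyFlat (_root_.ProEtS.bcP f) := flat_of_preservesFiniteLimits _
  Functor.isContinuous_of_coverPreserving (compatiblePreservingOfFlat _ _) (coverPreserving_bcP f)

end Groth.Agent.ProEtS.Site
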