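import Groth.Agent.ProEtS.ClosedOpen
import Groth.Agent.ProEtS.Site
import Groth.Agent.S0677
import Groth.Agent.S0742
import Groth.Agent.ProEtW.Retraction
import Mathlib.AlgebraicGeometry.ResidueField

/-!
# Extension by zero along a quasi-compact open immersion commutes with limits
-/

set_option autoImplicit false

universe u

open CategoryTheory CategoryTheory.Limits AlgebraicGeometry Opposite

namespace Groth.Agent.ProEtS.ExtZeroLimits

/-- In the spectrum of a w-contractible ring a compact open has a largest clopen inside it. -/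
theorem exists_max_clopen {A : Type u} [CommRing A] (h : EtPBC.IsWContractible A)
    (U : Set (PrimeSpectrum A)) (hU : IsOpen U) (hUc : IsCompact U) :
    ∃ O : Set (PrimeSpectrum A), IsClopen O ∧ O ⊆ U ∧ ∀ x ∉ O, ∃ y ∉ U, x ⤳ y := by
  obtain ⟨hWL, -, -⟩ := (Groth.Agent.S0677.result A).1 h
  obtain ⟨_, _, _⟩ := ProEtW.IdentifiesLocal.isProfinite_C0 hWL
  obtain ⟨e, he⟩ := ProEtW.Retraction.exists_homeomorph_pi0 hWL
  let r : PrimeSpectrum A → ProEtW.IdentifiesLocal.C0 A := fun x => e.symm (ConnectedComponents.mk x)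
  have hr : Continuous r := e.symm.continuous.comp ConnectedComponents.continuous_coe
  have hrx : ∀ x, x ⤳ (r x).1 := fun x => by
    obtain ⟨y, ⟨hy, hxy⟩, -⟩ := hWL.2.2 x
    have hm : ConnectedComponents.mk x = ConnectedComponents.mk y :=
      ConnectedComponents.coe_eq_coe'.2 ((isPreirreducible_iff_closure.2 isPreirreducible_singleton
        |>.isPreconnected).subset_connectedComponent hxy.mem_closure (subset_closure rfl))
    have : r x = ⟨y, hy⟩ := by
      apply e.injective
      show e (e.symm _) = _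
      rw [e.apply_symm_apply, he, hm]
    rw [this]
    exact hxy
  let S : Set (ProEtW.IdentifiesLocal.C0 A) := Subtype.val ⁻¹' U
  have hS : IsClopen S := by
    refine ⟨IsCompact.isClosed ?_, hU.preimage continuous_subtype_val⟩
    rw [Subtype.isCompact_iff, Set.image_preimage_eq_inter_range, Subtype.range_coe]
    exact hUc.inter_right hWL.2.1
  exact ⟨r ⁻¹' S, hS.preimage hr, fun x hx => hU.stableUnderGeneralization (hrx x) hx,
    fun x hx => ⟨(r x).1, hx, hrx x⟩⟩

variable {U X : Scheme.{u}} (j : U ⟶ X) [IsOpenImmersion j]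

/-- Restriction of evaluation. -/
noncomputable abbrev evSh {Y : Scheme.{u}} (W : Y.ProEt) : _root_.ProEtS.AbP Y ⥤ AddCommGrpCat.{u + 1} :=
  sheafToPresheaf (Scheme.ProEt.topology Y) AddCommGrpCat.{u + 1} ⋙ (evaluation _ _).obj (op W)

set_option backward.isDefEq.respectTransparency.types false in
/-- Sections of `j_!` on an affine w-contractible object are sections on a piece inside `U`. -/
theorem exists_evIso [QuasiCompact j] [_root_.ProEtS.JPCont j] (W : X.ProEt) [IsAffine W.left]
    (hW : EtPBC.IsWContractible ↥Γ(W.left, ⊤)) :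
    ∃ V : U.ProEt, Nonempty (_root_.ProEtS.extZeroP j ⋙ evSh W ≅ evSh V) := by
  haveI : _root_.ProEtS.PCont j := Site.pCont j
  haveI : WeaklyEtale W.hom := W.prop
  let U' : W.left.Opens := W.hom ⁻¹ᵁ j.opensRange
  have hU' : IsCompact (U' : Set W.left) := by
    haveI : CompactSpace ↥((𝟭 Scheme).obj W.left) := inferInstanceAs (CompactSpace ↥W.left)
    haveI : QuasiCompact (pullback.fst W.hom j) := MorphismProperty.pullback_fst _ _ ‹QuasiCompact j›
    haveI : CompactSpace ↥(pullback W.hom j) :=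
      QuasiCompact.compactSpace_of_compactSpace (pullback.fst W.hom j)
    have e : (U' : Set W.left) = Set.range (pullback.fst W.hom j) := by
      rw [Scheme.Pullback.range_fst]
      rfl
    exact e ▸ isCompact_range (pullback.fst W.hom j).continuous
  let e : ↥W.left ≃ₜ PrimeSpectrum ↥Γ(W.left, ⊤) := Scheme.homeoOfIso W.left.isoSpec
  obtain ⟨O, hO, hOU, hOc⟩ := exists_max_clopen hW (e '' (U' : Set W.left))
    (e.isOpen_image.2 U'.isOpen) (hU'.image e.continuous)
  let O₀ : W.left.Opens := ⟨e ⁻¹' O, hO.isOpen.preimage e.continuous⟩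
  let O₁ : W.left.Opens := ⟨(e ⁻¹' O)ᶜ, (hO.isClosed.preimage e.continuous).isOpen_compl⟩
  let P₀ : X.ProEt := Scheme.ProEt.mk (O₀.ι ≫ W.hom)
  let P₁ : X.ProEt := Scheme.ProEt.mk (O₁.ι ≫ W.hom)
  let a₀ : P₀ ⟶ W := MorphismProperty.Over.homMk O₀.ι
  let a₁ : P₁ ⟶ W := MorphismProperty.Over.homMk O₁.ι
  have hin : Set.range P₀.hom ⊆ Set.range j := by
    rintro _ ⟨p, rfl⟩
    obtain ⟨q, hq, hqe⟩ := hOU (O₀.range_ι.le ⟨p, rfl⟩)
    rw [e.injective hqe] at hq
    exact hq
  obtain ⟨V, ⟨eV⟩⟩ := ClosedOpen.exists_comp_iso j hin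
  -- sections on the complementary piece vanish
  let K : ↥((Set.range j)ᶜ : Set X) → Scheme.{u} := fun x => Spec (X.residueField x.1)
  let iK : ∐ K ⟶ X := Sigma.desc fun x => X.fromSpecResidueField x.1
  have hiK : Set.range iK = (Set.range j)ᶜ := by
    ext y
    constructor
    · rintro ⟨z, rfl⟩
      obtain ⟨x, z', rfl⟩ : ∃ x z', Sigma.ι K x z' = z :=
        ⟨_, (sigmaOpenCover K).covers z⟩
      rw [← Scheme.Hom.comp_apply, Sigma.ι_desc, Scheme.fromSpecResidueField_apply]
      exact x.2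
    · intro hy
      obtain ⟨z⟩ : Nonempty ↥(K ⟨y, hy⟩) := inferInstanceAs (Nonempty ↥(Spec (X.residueField y)))
      refine ⟨Sigma.ι K ⟨y, hy⟩ z, ?_⟩
      rw [← Scheme.Hom.comp_apply, Sigma.ι_desc, Scheme.fromSpecResidueField_apply]
  haveI : IsAffine P₁.left := by
    haveI : IsClosedImmersion O₁.ι := IsClosedImmersion.of_isPreimmersion _ (by
      rw [Scheme.Opens.range_ι]; exact (hO.isOpen.preimage e.continuous).isClosed_compl)
    exact ((HasAffineProperty.iff_of_isAffine (P := @IsClosedImmersion) (f := O₁.ι)).1 ‹_›).1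
  have hsub : ∀ F, Subsingleton (((_root_.ProEtS.extZeroP j).obj F).obj.obj (op P₁)) := fun F => by
    refine ExtZero.subsingleton_sections j iK (Set.disjoint_left.2 fun y hy hy' => ?_) P₁ (fun v => ?_) F
    · rw [hiK] at hy'; exact hy' hy
    · obtain ⟨y, hy, hvy⟩ := hOc (e (O₁.ι v)) (O₁.range_ι.le ⟨v, rfl⟩)
      have hy₁ : e.symm y ∈ O₁ := fun hmem => hy (hOU (by simpa using hmem))
      refine ⟨⟨e.symm y, hy₁⟩, ?_, ?_⟩
      · rw [hiK]
        intro hj
        exact hy ⟨e.symm y, hj, e.apply_symm_apply y⟩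
      · refine (O₁.ι.isOpenEmbedding.isInducing.specializes_iff (x := v) (y := ⟨e.symm y, hy₁⟩)).1 ?_
        exact (e.symm_apply_apply (O₁.ι v)) ▸ hvy.map e.symm.continuous
  -- restriction to the piece is bijective
  have hres : ∀ F, Function.Bijective
      (((_root_.ProEtS.extZeroP j).obj F).obj.map a₀.op) := by
    intro F
    let H := (_root_.ProEtS.extZeroP j).obj F
    haveI := hsub F
    let ι := ULift.{u} Bool
    let P : ι → X.ProEt := fun k => bif k.down then P₀ else P₁
    let a : ∀ k, P k ⟶ W := fun | ⟨true⟩ => a₀ | ⟨false⟩ => a₁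
    have hr₀ : Set.range (a ⟨true⟩).left = (O₀ : Set W.left) := Scheme.Opens.range_ι _
    have hr₁ : Set.range (a ⟨false⟩).left = (O₁ : Set W.left) := Scheme.Opens.range_ι _
    have key := WC.existsUnique_glue ((sheafCompose (Scheme.ProEt.topology X)
      (forget AddCommGrpCat.{u + 1})).obj H) P a
      (fun | ⟨true⟩ => inferInstanceAs (IsOpenImmersion O₀.ι) | ⟨false⟩ => inferInstanceAs (IsOpenImmersion O₁.ι))
      (fun | ⟨true⟩, ⟨false⟩, _ => by rw [hr₀, hr₁]; exact disjoint_compl_right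
           | ⟨false⟩, ⟨true⟩, _ => by rw [hr₀, hr₁]; exact disjoint_compl_left
           | ⟨true⟩, ⟨true⟩, h => absurd rfl h
           | ⟨false⟩, ⟨false⟩, h => absurd rfl h)
      (fun x => (em (x ∈ O₀)).elim (fun h => ⟨⟨true⟩, hr₀ ▸ h⟩) (fun h => ⟨⟨false⟩, hr₁ ▸ h⟩))
    refine ⟨fun s t h => ?_, fun x => ?_⟩
    · exact (key fun k => H.obj.map (a k).op t).unique (fun | ⟨true⟩ => h | ⟨false⟩ => Subsingleton.elim (α := H.obj.obj (op P₁)) _ _)
        fun k => rfl
    · obtain ⟨y, hy, -⟩ := key fun | ⟨true⟩ => x | ⟨false⟩ => (0 : H.obj.obj (op P₁))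
      exact ⟨y, hy ⟨true⟩⟩
  let res : _root_.ProEtS.extZeroP j ⋙ evSh W ⟶
      _root_.ProEtS.extZeroP j ⋙ evSh ((_root_.ProEtS.compP j).obj V) :=
    Functor.whiskerLeft _ (Functor.whiskerLeft _ ((evaluation X.ProEtᵒᵖ AddCommGrpCat.{u + 1}).map (eV.hom ≫ a₀).op))
  haveI : IsIso res := by
    suffices ∀ F, IsIso (res.app F) from NatIso.isIso_of_isIso_app _
    intro F
    show IsIso (((_root_.ProEtS.extZeroP j).obj F).obj.map (eV.hom ≫ a₀).op)
    rw [op_comp, Functor.map_comp]
    haveI := (ConcreteCategory.isIso_iff_bijective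
      (((_root_.ProEtS.extZeroP j).obj F).obj.map a₀.op)).2 (hres F)
    infer_instance
  haveI : IsIso (_root_.ProEtS.extZeroPAdj j).unit := by
    haveI : ∀ F, IsIso ((_root_.ProEtS.extZeroPAdj j).unit.app F) := fun F =>
      (Groth.Agent.S0742.result j F F).1
    exact NatIso.isIso_of_isIso_app _
  exact ⟨V, ⟨asIso res ≪≫ Functor.isoWhiskerRight (asIso (_root_.ProEtS.extZeroPAdj j).unit).symm (evSh V)⟩⟩

set_option backward.isDefEq.respectTransparency.types false in
/-- Limit preservation can be tested on a covering family of evaluation points. -/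
theorem preservesLimitsOfShape_of_cover {A B : Scheme.{u}} (G : _root_.ProEtS.AbP A ⥤ _root_.ProEtS.AbP B)
    (J : Type u) [SmallCategory J]
    (h : ∀ W : B.ProEt, ∃ (ι : Type u) (V : ι → B.ProEt) (g : ∀ x, V x ⟶ W),
      Sieve.ofArrows V g ∈ Scheme.ProEt.topology B W ∧ ∀ x, PreservesLimitsOfShape J (G ⋙ evSh (V x))) :
    PreservesLimitsOfShape J G := by
  refine ⟨fun {K} => ?_⟩
  let γ := limit.post K G
  let S := Scheme.ProEt.topology B
  have hev : ∀ W : B.ProEt, PreservesLimitsOfShape J (G ⋙ evSh W) → IsIso ((evSh W).map γ) := by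
    intro W _
    haveI : IsIso (limit.post K (G ⋙ evSh W)) := inferInstance
    have h := limit.post_post K G (evSh W)
    haveI : IsIso (limit.post (K ⋙ G) (evSh W)) := inferInstance
    exact IsIso.of_isIso_fac_right h
  haveI : Presheaf.IsLocallyInjective S γ.hom := ⟨fun {Wop} s t hst => by
    obtain ⟨W⟩ := Wop
    obtain ⟨ι, V, g, hmem, hV⟩ := h W
    refine GrothendieckTopology.superset_covering _ ?_ hmem
    rw [Sieve.ofArrows, Sieve.generate_le_iff]
    rintro A f ⟨x⟩
    haveI := hev (V x) (hV x)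
    refine (ConcreteCategory.bijective_of_isIso ((evSh (V x)).map γ)).1 ?_
    exact (NatTrans.naturality_apply γ.hom (g x).op s).trans
      ((congrArg _ hst).trans (NatTrans.naturality_apply γ.hom (g x).op t).symm)⟩
  haveI : Presheaf.IsLocallySurjective S γ.hom := ⟨fun {W} s => by
    obtain ⟨ι, V, g, hmem, hV⟩ := h W
    refine GrothendieckTopology.superset_covering _ ?_ hmem
    rw [Sieve.ofArrows, Sieve.generate_le_iff]
    rintro A f ⟨x⟩
    haveI := hev (V x) (hV x)
    exact (ConcreteCategory.bijective_of_isIso ((evSh (V x)).map γ)).2 _⟩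
  haveI : IsIso γ := (Sheaf.isLocallyBijective_iff_isIso γ).1 ⟨‹_›, ‹_›⟩
  exact preservesLimit_of_isIso_post (G := G) (F := K)

theorem preservesLimitsOfShape [QuasiCompact j] [_root_.ProEtS.JPCont j] (J : Type u) [SmallCategory J] :
    PreservesLimitsOfShape J (_root_.ProEtS.extZeroP j) := by
  refine preservesLimitsOfShape_of_cover _ J fun W => ?_
  obtain ⟨V, g, hmem, hV⟩ := Covers.exists_wc_family W (fun i : W.left.affineOpens => i.1) (fun i => i.2)
    (Covers.affineOpens_cover W.left)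
  refine ⟨_, V, g, hmem, fun x => ?_⟩
  haveI := (hV x).1
  obtain ⟨V', ⟨e⟩⟩ := exists_evIso j (V x) (hV x).2
  exact preservesLimitsOfShape_of_natIso e.symm

end Groth.Agent.ProEtS.ExtZeroLimits
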