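import Groth.Agent.ProEtS.EpsUnit
import Groth.Agent.EtaleSite.OpenImm
import Groth.Agent.EtaleSite.PushStalk
import Groth.Agent.EtLimit.Systems
import Groth.Agent.EtLimit.Apply
import Groth.Agent.EtLimit.EtSys

/-!
# The restriction of a pro-étale sheaf to the étale site of an object

For `V` in the small pro-étale site of `X`, the étale sheaf on `V` obtained from `ε⁻¹ F` is the
inverse image of `F` along `V ⟶ X`.
-/

set_option autoImplicit false
set_option backward.isDefEq.respectTransparency false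

universe u

open CategoryTheory CategoryTheory.Limits AlgebraicGeometry Opposite

noncomputable section

namespace Groth.Agent.ProEtS.Restr

open Groth.Agent.ProEtS Groth.Agent.EtLimit Groth.Agent.EtLimit.FHom EpsElem EpsUnit

local notation "ε" => _root_.ProEtS.eps

variable {X : Scheme.{u}}

/-- Composition with a weakly étale morphism is continuous. -/
theorem jpCont {U : Scheme.{u}} (j : U ⟶ X) [hj : WeaklyEtale j] : _root_.ProEtS.JPCont j := by
  refine Functor.isContinuous_of_coverPreserving ⟨?_⟩ ⟨fun {A S} hS => ?_⟩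
  · intro ℱ Z T x hx Y₁ Y₂ W f₁ f₂ g₁ g₂ hg₁ hg₂ h
    have e₁ : f₁.left ≫ Y₁.hom ≫ j = W.hom := MorphismProperty.Over.w f₁
    have hW : (@WeaklyEtale) ((f₁.left ≫ Y₁.hom) ≫ j) := by
      rw [Category.assoc, e₁]; exact W.prop
    have : WeaklyEtale ((f₁.left ≫ Y₁.hom) ≫ j) := hW
    have : WeaklyEtale (f₁.left ≫ Y₁.hom) := WeaklyEtale.of_comp _ j
    let W' : U.ProEt := Scheme.ProEt.mk (f₁.left ≫ Y₁.hom)
    let e : (_root_.ProEtS.compP j).obj W' ≅ W := MorphismProperty.Over.isoMk (Iso.refl _)
      ((Category.id_comp W.hom).trans (e₁.symm.trans (Category.assoc _ _ _).symm))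
    have hl : (e.hom ≫ f₁).left ≫ g₁.left = (e.hom ≫ f₂).left ≫ g₂.left := by
      exact (congrArg (fun k => k.left) (((Category.assoc e.hom f₁ _).trans
        (congrArg (e.hom ≫ ·) h)).trans (Category.assoc e.hom f₂ _).symm) :)
    have w₁ : g₁.left ≫ Z.hom = Y₁.hom := MorphismProperty.Over.w g₁
    have w₂ : g₂.left ≫ Z.hom = Y₂.hom := MorphismProperty.Over.w g₂
    have he : W'.hom = (e.hom ≫ f₁).left ≫ Y₁.hom :=
      (congrArg (· ≫ Y₁.hom) (Category.id_comp f₁.left)).symm
    have he₂ : (e.hom ≫ f₂).left ≫ Y₂.hom = W'.hom := by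
      exact ((congrArg ((e.hom ≫ f₂).left ≫ ·) w₂).symm.trans ((Category.assoc _ _ _).symm.trans
        ((congrArg (· ≫ Z.hom) hl).symm.trans ((Category.assoc _ _ _).trans
          (congrArg ((e.hom ≫ f₁).left ≫ ·) w₁))))).trans he.symm
    let a : W' ⟶ Y₁ := MorphismProperty.Over.homMk (e.hom ≫ f₁).left he.symm trivial
    let b : W' ⟶ Y₂ := MorphismProperty.Over.homMk (e.hom ≫ f₂).left he₂ trivial
    have ha : (_root_.ProEtS.compP j).map a = e.hom ≫ f₁ := MorphismProperty.Over.Hom.ext rfl
    have hb : (_root_.ProEtS.compP j).map b = e.hom ≫ f₂ := MorphismProperty.Over.Hom.ext rfl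
    have := hx a b hg₁ hg₂ (MorphismProperty.Over.Hom.ext hl)
    apply (ℱ.obj.mapIso e.op).toEquiv.injective
    change ℱ.obj.map e.hom.op _ = ℱ.obj.map e.hom.op _
    rw [← Functor.map_comp_apply, ← Functor.map_comp_apply, ← op_comp, ← op_comp, ← ha, ← hb]
    exact this
  · rw [Site.mem_topology_iff] at hS ⊢
    refine GrothendieckTopology.superset_covering _ ?_ hS
    rintro Z l ⟨V, g, k, hg, hk⟩
    exact ⟨_, (_root_.ProEtS.compP j).map g, k, Sieve.image_mem_functorPushforward _ _ hg, hk⟩

/-- Étale objects over `V`, seen in the pro-étale site of `X`. -/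
abbrev T (V : X.ProEt) : V.left.Etale ⥤ X.ProEt :=
  ε V.left ⋙ _root_.ProEtS.compP V.hom

instance isContinuous_T (V : X.ProEt) :
    (T V).IsContinuous V.left.smallEtaleTopology (Scheme.ProEt.topology X) :=
  have : (ε V.left).IsContinuous V.left.smallEtaleTopology (Scheme.ProEt.topology V.left) :=
    Site.epsCont V.left
  have : (_root_.ProEtS.compP V.hom).IsContinuous (Scheme.ProEt.topology V.left)
      (Scheme.ProEt.topology X) := jpCont (X := X) V.hom
  Functor.isContinuous_comp _ _ _ (Scheme.ProEt.topology V.left) _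

instance preservesPullbacks_compP {U : Scheme.{u}} (j : U ⟶ X) [WeaklyEtale j] :
    PreservesLimitsOfShape WalkingCospan (_root_.ProEtS.compP j) := by
  have : PreservesLimitsOfShape WalkingCospan (Over.map j) := by
    have : PreservesLimitsOfShape WalkingCospan (Over.map j ⋙ Over.forget X) :=
      inferInstanceAs (PreservesLimitsOfShape WalkingCospan (Over.forget U))
    exact preservesLimitsOfShape_of_reflects_of_preserves (Over.map j) (Over.forget X)
  have h : PreservesLimitsOfShape WalkingCospan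
      (_root_.ProEtS.compP j ⋙ Scheme.ProEt.forget X) := by
    let e : _root_.ProEtS.compP j ⋙ Scheme.ProEt.forget X ≅ Scheme.ProEt.forget U ⋙ Over.map j :=
      NatIso.ofComponents (fun _ => Over.isoMk (Iso.refl _))
    exact preservesLimitsOfShape_of_natIso e.symm
  exact preservesLimitsOfShape_of_reflects_of_preserves (_root_.ProEtS.compP j)
    (Scheme.ProEt.forget X)

/-- The restriction to the étale site of `V`. -/
abbrev R (V : X.ProEt) : _root_.ProEtS.AbP X ⥤ EtCoh.Ab V.left :=
  (T V).sheafPushforwardContinuous AddCommGrpCat.{u + 1} V.left.smallEtaleTopology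
    (Scheme.ProEt.topology X)

variable (F : EtCoh.Ab X)

/-- The canonical morphism from `F` to the restriction of `ε⁻¹ F`. -/
def φ (V : X.ProEt) : FHom V.hom F ((R V).obj (shf F)) where
  app W U w hw :=
    ((ε X).op.lanUnit.app F.obj).app (op U) ≫
      (pre F).map (MorphismProperty.Over.homMk w hw trivial : (T V).obj W ⟶ (ε X).obj U).op ≫
      (toSheafify (Scheme.ProEt.topology X) (pre F)).app (op ((T V).obj W))
  naturality {W' W U U'} h g w hw w' hw' e := by
    ext s
    show (shf F).obj.map ((T V).map h).op (scls F _ (F.obj.map g.op s)) = scls F _ s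
    rw [map_scls, ← scls_comp]
    refine congrArg (fun a => scls F a s) (MorphismProperty.Over.Hom.ext ?_)
    exact (Category.assoc _ _ _).trans e

theorem φ_app (V : X.ProEt) (W : V.left.Etale) (U : X.Etale) (w : W.left ⟶ U.left)
    (hw : w ≫ U.hom = W.hom ≫ V.hom) (s : F.obj.obj (op U)) :
    (φ F V).app W U w hw s =
      scls F (MorphismProperty.Over.homMk w hw trivial : (T V).obj W ⟶ (ε X).obj U) s :=
  rfl

set_option backward.isDefEq.respectTransparency.types false in
/-- A section vanishing on some cover member vanishes on an open neighbourhood of the image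
point. -/
theorem exists_open_eq_zero {U' : X.ProEt} [IsAffine U'.left]
    (d : (shf F).obj.obj (op U')) {W : X.ProEt}
    (b : W ⟶ U') (h : (shf F).obj.map b.op d = 0) (w : W.left) :
    ∃ (U'' : X.ProEt) (g : U'' ⟶ U') (x : U''.left), Etale g.left ∧ g.left x = b.left w ∧
      (shf F).obj.map g.op d = 0 := by
  obtain ⟨n, V, g, hV, hg, hw, hcov⟩ := Affine.exists_affine_cover
    (Presheaf.imageSieve_mem (Scheme.ProEt.topology X)
      (toSheafify (Scheme.ProEt.topology X) (pre F)) d)
  have hrep : ∀ i, ∃ (U : X.Etale) (a : V i ⟶ (ε X).obj U) (s : F.obj.obj (op U)),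
      (shf F).obj.map (g i).op d = scls F a s := by
    intro i
    obtain ⟨p, hp⟩ := hg i
    obtain ⟨U, a, s, rfl⟩ := exists_cls F _ p
    exact ⟨U, a, s, hp.symm⟩
  choose U a s hs using hrep
  let good : ∀ i, Set ↥(V i).left := fun i => (a i).left ⁻¹' Z F (s i)
  have key : ∀ (i : Fin n) (v : (V i).left) (W' : X.ProEt) (k : W' ⟶ U') (w' : W'.left)
      (U₀ : X.Etale) (c : W' ⟶ (ε X).obj U₀) (t : F.obj.obj (op U₀)),
      (shf F).obj.map k.op d = scls F c t → k.left w' = (g i).left v →
      (v ∈ good i ↔ c.left w' ∈ Z F t) := by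
    intro i v W' k w' U₀ c t hd hv
    have := weaklyEtale_left k
    have : WeaklyEtale ((g i).left) := hw i
    obtain ⟨e, he1, he2⟩ := Scheme.Pullback.exists_preimage_pullback (f := (g i).left) (g := k.left)
      v w' hv.symm
    have : WeaklyEtale (pullback.fst (g i).left k.left) :=
      MorphismProperty.pullback_fst (P := @WeaklyEtale) _ _ (weaklyEtale_left k)
    have : WeaklyEtale (pullback.fst (g i).left k.left ≫ (V i).hom) :=
      MorphismProperty.comp_mem (W := @WeaklyEtale) _ _ (show WeaklyEtale _ from inferInstance) (V i).prop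
    let P2 : X.ProEt := Scheme.ProEt.mk (pullback.fst (g i).left k.left ≫ (V i).hom)
    have eq1 : pullback.snd (g i).left k.left ≫ k.left = pullback.fst (g i).left k.left ≫ (g i).left :=
      pullback.condition.symm
    let p : P2 ⟶ V i := MorphismProperty.Over.homMk (pullback.fst (g i).left k.left) rfl trivial
    let q : P2 ⟶ W' := MorphismProperty.Over.homMk (pullback.snd (g i).left k.left)
      ((congrArg (pullback.snd (g i).left k.left ≫ ·) (Over.w k.hom)).symm.trans
        ((Category.assoc _ _ _).symm.trans ((congrArg (· ≫ U'.hom) eq1).trans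
          ((Category.assoc _ _ _).trans
            (congrArg (pullback.fst (g i).left k.left ≫ ·) (Over.w (g i).hom))))) :) trivial
    have hpq : p ≫ g i = q ≫ k := MorphismProperty.Over.Hom.ext eq1.symm
    have h1 : scls F (p ≫ a i) (s i) = scls F (q ≫ c) t := by
      rw [← map_scls, ← map_scls, ← hs, ← hd, ← map_comp_apply, ← map_comp_apply, hpq]
    have h2 := mem_Z_iff F _ _ _ _ h1 e
    show (a i).left v ∈ Z F (s i) ↔ c.left w' ∈ Z F t
    rw [← he1, ← he2, ← Scheme.Hom.comp_apply, ← Scheme.Hom.comp_apply]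
    exact h2
  let G : Set ↥U'.left := {x | ∃ (i : Fin n) (v : (V i).left), (g i).left v = x ∧ v ∈ good i}
  have hpre : ∀ i, (g i).left ⁻¹' G = good i := fun i => Set.ext fun v => by
    refine ⟨fun ⟨j, v', hv', hgood⟩ => ?_, fun hgood => ⟨i, v, rfl, hgood⟩⟩
    exact (key i v _ (g j) v' _ (a j) (s j) (hs j) hv').2 hgood
  have hG : IsOpen G := by
    let Y : Fin n → Scheme.{u} := fun i => (V i).left
    let D : ∐ Y ⟶ U'.left := Sigma.desc fun i => (g i).left
    have : ∀ i, IsAffine (Y i) := hV
    have : WeaklyEtale D := IsZariskiLocalAtSource.sigmaDesc hw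
    have : Surjective D := ⟨fun x => by
      obtain ⟨i, y, hy⟩ := hcov x
      exact ⟨Sigma.ι Y i y, by rw [← Scheme.Hom.comp_apply, Sigma.ι_desc]; exact hy⟩⟩
    rw [← (Flat.isQuotientMap_of_surjective D).isOpen_preimage]
    have hD : D ⁻¹' G = ⋃ i, (Sigma.ι Y i) '' good i := by
      ext z
      obtain ⟨i, y, rfl⟩ : ∃ i y, Sigma.ι Y i y = z := ⟨_, (sigmaOpenCover Y).covers z⟩
      have hDi : D (Sigma.ι Y i y) = (g i).left y := by
        rw [← Scheme.Hom.comp_apply, Sigma.ι_desc]
      show D (Sigma.ι Y i y) ∈ G ↔ _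
      rw [hDi, ← Set.mem_preimage, hpre i]
      refine ⟨fun hy => Set.mem_iUnion.2 ⟨i, y, hy, rfl⟩, fun hy => ?_⟩
      obtain ⟨j, y', hy', he⟩ := Set.mem_iUnion.1 hy
      obtain ⟨rfl, h2⟩ := Sigma.mk.inj_iff.1 ((sigmaι_eq_iff Y j i y' y).1 he)
      exact (eq_of_heq h2) ▸ hy'
    rw [hD]
    exact isOpen_iUnion fun i => (Sigma.ι Y i).isOpenEmbedding.isOpenMap _
      ((isOpen_Z F (s i)).preimage (a i).left.continuous)
  obtain ⟨i₀, v₀, hv₀⟩ := hcov (b.left w)
  have hw0 : b.left w ∈ G :=
    ⟨i₀, v₀, hv₀, (key i₀ v₀ W b w (EtCoh.top X)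
      (MorphismProperty.Over.homMk W.hom (Category.comp_id _) trivial) 0
      (h.trans (scls_zero F _).symm) hv₀.symm).2 (mem_Z_zero F _)⟩
  let O : U'.left.Opens := ⟨G, hG⟩
  have : WeaklyEtale U'.hom := U'.prop
  have : WeaklyEtale (O.ι ≫ U'.hom) :=
    MorphismProperty.comp_mem (W := @WeaklyEtale) _ _ (show WeaklyEtale _ from inferInstance) U'.prop
  let U'' : X.ProEt := Scheme.ProEt.mk (O.ι ≫ U'.hom)
  let ι' : U'' ⟶ U' := MorphismProperty.Over.homMk O.ι rfl trivial
  refine ⟨U'', ι', ⟨b.left w, hw0⟩, inferInstanceAs (Etale O.ι), rfl, ?_⟩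
  refine eq_zero_of_sieve (shf F) _ _ (GrothendieckTopology.pullback_stable _ ι'
    (Presheaf.imageSieve_mem (Scheme.ProEt.topology X)
      (toSheafify (Scheme.ProEt.topology X) (pre F)) d)) fun B f hf => ?_
  obtain ⟨p, hp⟩ := hf
  obtain ⟨U₀, c, t, rfl⟩ := exists_cls F _ p
  rw [← map_comp_apply, show (shf F).obj.map (f ≫ ι').op d = scls F c t from hp.symm,
    scls_eq_zero_iff]
  intro z
  obtain ⟨i, v, hv, hgood⟩ : O.ι (f.left z) ∈ G := (f.left z).2
  exact (key i v B (f ≫ ι') z U₀ c t hp.symm hv.symm).1 hgood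

/-- Sections of the pullback are étale-locally given by sections of the étale sheaf. -/
theorem exists_local_scls {V : X.ProEt} (d : (shf F).obj.obj (op V)) (v : V.left) :
    ∃ (V' : X.ProEt) (k : V' ⟶ V) (v' : V'.left) (U : X.Etale) (a : V' ⟶ (ε X).obj U)
      (s : F.obj.obj (op U)), Etale k.left ∧ k.left v' = v ∧
        (shf F).obj.map k.op d = scls F a s := by
  obtain ⟨W, k, w, U₁, a, s, rfl, hd⟩ := exists_scls F d v
  have wk : k.left ≫ V.hom = a.left ≫ U₁.hom :=
    (MorphismProperty.Over.w k).trans (MorphismProperty.Over.w a).symm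
  let bl : W.left ⟶ pullback V.hom U₁.hom := pullback.lift k.left a.left wk
  obtain ⟨A, hA, hbA, -⟩ := exists_isAffineOpen_mem_and_subset
    (X := pullback V.hom U₁.hom) (x := bl w) (U := ⊤) trivial
  have : Etale U₁.hom := U₁.prop
  have he : Etale (A.ι ≫ pullback.fst V.hom U₁.hom) :=
    MorphismProperty.comp_mem (W := @Etale) _ _ (show Etale A.ι from inferInstance)
      (MorphismProperty.pullback_fst (P := @Etale) V.hom U₁.hom U₁.prop)
  have : WeaklyEtale ((A.ι ≫ pullback.fst V.hom U₁.hom) ≫ V.hom) :=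
    MorphismProperty.comp_mem (W := @WeaklyEtale) _ _ (show WeaklyEtale _ from inferInstance) V.prop
  let P : X.ProEt := Scheme.ProEt.mk ((A.ι ≫ pullback.fst V.hom U₁.hom) ≫ V.hom)
  have : IsAffine P.left := hA
  let p : P ⟶ V := MorphismProperty.Over.homMk (A.ι ≫ pullback.fst V.hom U₁.hom) rfl trivial
  let q : P ⟶ (ε X).obj U₁ := MorphismProperty.Over.homMk (A.ι ≫ pullback.snd V.hom U₁.hom)
    (((Category.assoc _ _ _).trans ((congrArg (A.ι ≫ ·) pullback.condition.symm).trans
      (Category.assoc _ _ _).symm)) :) trivial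
  let O : W.left.Opens := bl ⁻¹ᵁ A
  have : WeaklyEtale (O.ι ≫ W.hom) :=
    MorphismProperty.comp_mem (W := @WeaklyEtale) _ _ (show WeaklyEtale _ from inferInstance) W.prop
  let W' : X.ProEt := Scheme.ProEt.mk (O.ι ≫ W.hom)
  let i : W' ⟶ W := MorphismProperty.Over.homMk O.ι rfl trivial
  have hr : Set.range (O.ι ≫ bl) ⊆ Set.range A.ι := by
    rintro _ ⟨z, rfl⟩
    rw [Scheme.Opens.range_ι]
    exact z.2
  let l : (O : Scheme.{u}) ⟶ (A : Scheme.{u}) := IsOpenImmersion.lift A.ι (O.ι ≫ bl) hr
  have hlp : l ≫ A.ι ≫ pullback.fst V.hom U₁.hom = O.ι ≫ k.left := by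
    rw [← Category.assoc, IsOpenImmersion.lift_fac, Category.assoc, pullback.lift_fst]
  have hlq : l ≫ A.ι ≫ pullback.snd V.hom U₁.hom = O.ι ≫ a.left := by
    rw [← Category.assoc, IsOpenImmersion.lift_fac, Category.assoc, pullback.lift_snd]
  let b : W' ⟶ P := MorphismProperty.Over.homMk l
    ((Category.assoc _ _ _).symm.trans ((congrArg (· ≫ V.hom) hlp).trans
      ((Category.assoc _ _ _).trans
        (congrArg (O.ι ≫ ·) (MorphismProperty.Over.w k)))) :) trivial
  have hbp : b ≫ p = i ≫ k := MorphismProperty.Over.Hom.ext hlp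
  have hbq : b ≫ q = i ≫ a := MorphismProperty.Over.Hom.ext hlq
  have h0 : (shf F).obj.map b.op ((shf F).obj.map p.op d - scls F q s) = 0 := by
    rw [map_sub, ← EpsElem.map_comp_apply, hbp, EpsElem.map_comp_apply, hd, map_scls, map_scls,
      hbq, sub_self]
  obtain ⟨V', g, x, hg, hx, h⟩ := exists_open_eq_zero F _ b h0 ⟨w, hbA⟩
  refine ⟨V', g ≫ p, x, U₁, g ≫ q, s, ?_, ?_, ?_⟩
  · show Etale (g.left ≫ A.ι ≫ pullback.fst V.hom U₁.hom)
    have := hg
    infer_instance
  · show p.left (g.left x) = k.left w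
    rw [hx]
    exact congrArg (fun m : W' ⟶ V => m.left ⟨w, hbA⟩) hbp
  · rw [map_sub, sub_eq_zero, ← EpsElem.map_comp_apply, map_scls] at h
    exact h

/-- The comparison map from the inverse image is an isomorphism. -/
instance isIso_desc (V : X.ProEt) : IsIso (φ F V).desc := by
  have hunit : ∀ (W : V.left.Etale) (U : X.Etale) (w : W.left ⟶ U.left)
      (hw : w ≫ U.hom = W.hom ≫ V.hom) (s : F.obj.obj (op U)),
      (φ F V).desc.hom.app (op W) ((unit V.hom F).app W U w hw s) =
        scls F (MorphismProperty.Over.homMk w hw trivial : (T V).obj W ⟶ (ε X).obj U) s :=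
    fun W U w hw s => by
      rw [← φ_app, ← post_app_apply]
      exact app_of_eq (unit_post_desc (φ F V)) W U w hw s
  have hmono : Mono (φ F V).desc := EtaleSite.mono_of_stalk _ fun Ω _ _ ξ => by
    refine (injective_iff_map_eq_zero _).2 fun q hq => ?_
    obtain ⟨U, χ, s, hs⟩ := EtaleSite.exists_germ_eq (ξ ≫ V.hom) F
      ((EtaleSite.stalkPullIso V.hom ξ).hom.app F q)
    have hq' : q = EtaleSite.germ ξ ((EtCoh.pull V.hom).obj F) ((EtCoh.bc V.hom).obj U)
        (EtaleSite.fiberBcEquiv V.hom ξ U χ) ((unit V.hom F).app _ U (bcFst V.hom U) (bcFst_w _ U) s) := by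
      have h := congrArg ((EtaleSite.stalkPullIso V.hom ξ).inv.app F) hs
      rw [EtaleSite.germ_stalkPullIso_inv] at h
      erw [Iso.hom_inv_id_app_apply] at h
      refine h.symm.trans (congrArg (EtaleSite.germ ξ _ _ _) ?_)
      exact (ConcreteCategory.congr_hom (ofPush_app ((EtCoh.pullPushAdj V.hom).unit.app F) U) s).symm
    rw [hq', EtaleSite.germ_naturality, hunit] at hq
    obtain ⟨N, g, y, hy, hg⟩ :=
      (EtaleSite.germ_eq_iff ξ ((R V).obj (shf F)) _ _ _ 0).1 (hq.trans (map_zero _).symm)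
    replace hg : (shf F).obj.map ((T V).map g).op (scls F _ s) = 0 := hg.trans (map_zero _)
    rw [map_scls, scls_eq_zero_iff] at hg
    let O : U.left.Opens := ⟨Z F s, isOpen_Z F s⟩
    have : Etale U.hom := U.prop
    let U₀ : X.Etale := Scheme.Etale.mk (O.ι ≫ U.hom)
    let i : U₀ ⟶ U := MorphismProperty.Over.homMk O.ι rfl trivial
    have hs0 : F.obj.map i.op s = 0 :=
      eq_zero_of_forall_mem_Z F fun x => (mem_Z_map F i s x).2 x.2
    have hr : Set.range χ.left ⊆ Set.range O.ι := by
      rintro _ ⟨p, rfl⟩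
      rw [Scheme.Opens.range_ι]
      have h1 : y.left ≫ g.left = (EtaleSite.fiberBcEquiv V.hom ξ U χ).left :=
        congrArg (fun k => k.left) hy
      have h2 : y.left ≫ g.left ≫ bcFst V.hom U = χ.left :=
        (Category.assoc _ _ _).symm.trans ((congrArg (· ≫ bcFst V.hom U) h1).trans
          (pullback.lift_fst _ _ _))
      rw [← h2]
      exact hg (y.left p)
    let χ₀ : (Scheme.pointSmallEtale (ξ ≫ V.hom)).fiber.obj U₀ :=
      (Over.homMk (IsOpenImmersion.lift O.ι χ.left hr) (((Category.assoc _ _ _).symm.trans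
        ((congrArg (· ≫ U.hom) (IsOpenImmersion.lift_fac O.ι χ.left hr)).trans (Over.w χ))) :) :
        Over.mk (ξ ≫ V.hom) ⟶ (Scheme.Etale.forget X).obj U₀)
    have hχ : (Scheme.pointSmallEtale (ξ ≫ V.hom)).fiber.map i χ₀ = χ :=
      Over.OverMorphism.ext (IsOpenImmersion.lift_fac O.ι χ.left hr)
    have h0 : (EtaleSite.stalkPullIso V.hom ξ).hom.app F q = 0 := by
      rw [← hs, ← hχ, ← EtaleSite.germ_res, hs0]
      exact map_zero _
    have := congrArg ((EtaleSite.stalkPullIso V.hom ξ).inv.app F) h0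
    rw [map_zero] at this
    erw [Iso.hom_inv_id_app_apply] at this
    exact this
  have hepi : Epi (φ F V).desc := by
    refine (Sheaf.isLocallySurjective_iff_epi' AddCommGrpCat.{u + 1} (φ F V).desc).1 ⟨fun {W} d => ?_⟩
    refine EtaleSite.mem_topology_of_forall_exists _ fun x => ?_
    obtain ⟨V', k, v', U, a, s, hk, hv, hd⟩ := exists_local_scls F d x
    have : Etale W.hom := W.prop
    have : Etale k.left := hk
    let W' : V.left.Etale := Scheme.Etale.mk (k.left ≫ W.hom)
    let g : W' ⟶ W := MorphismProperty.Over.homMk k.left rfl trivial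
    let e : (T V).obj W' ≅ V' := MorphismProperty.Over.isoMk (Iso.refl _)
      ((Category.id_comp V'.hom).trans ((MorphismProperty.Over.w k).symm.trans
        (Category.assoc _ _ _).symm))
    have hw : (e.hom ≫ a).left ≫ U.hom = W'.hom ≫ V.hom := MorphismProperty.Over.w (e.hom ≫ a)
    refine ⟨W', g, v', ⟨(unit V.hom F).app W' U (e.hom ≫ a).left hw s, ?_⟩, hv⟩
    rw [hunit]
    show scls F _ s = (shf F).obj.map ((T V).map g).op d
    rw [show (T V).map g = e.hom ≫ k from MorphismProperty.Over.Hom.ext (Category.id_comp _).symm,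
      EpsElem.map_comp_apply, hd, map_scls]
    rfl
  exact isIso_of_mono_of_epi _

/-- Sections of `ε⁻¹ F` on `V` are the global sections of the inverse image of `F` on `V`. -/
def sectIso (V : X.ProEt) : (EtCoh.pull V.hom).obj F ≅ (R V).obj (shf F) :=
  asIso (φ F V).desc

theorem unit_post_sectIso (V : X.ProEt) :
    (unit V.hom F).post (sectIso F V).hom = φ F V :=
  unit_post_desc _

/-- Restriction along a morphism of the pro-étale site as a morphism over it. -/
def res (G : _root_.ProEtS.AbP X) {V' V : X.ProEt} (h : V' ⟶ V) :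
    FHom h.left ((R V).obj G) ((R V').obj G) where
  app W U w hw := G.obj.map (MorphismProperty.Over.homMk w ((Category.assoc _ _ _).symm.trans
    ((congrArg (· ≫ V.hom) hw).trans ((Category.assoc _ _ _).trans
      (congrArg (W.hom ≫ ·) (MorphismProperty.Over.w h))))) trivial :
    (T V').obj W ⟶ (T V).obj U).op
  naturality {W' W U U'} a b w hw w' hw' e := by
    show G.obj.map ((T V).map b).op ≫ G.obj.map _ ≫ G.obj.map ((T V').map a).op = G.obj.map _
    rw [← Functor.map_comp, ← Functor.map_comp, ← op_comp, ← op_comp]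
    refine congrArg (fun k => G.obj.map k.op) (MorphismProperty.Over.Hom.ext ?_)
    show _ = w'
    rw [← e]
    rfl

/-- The isomorphism is compatible with restriction. -/
theorem unit_comp_res {V' V : X.ProEt} (h : V' ⟶ V) :
    (φ F V).comp (res (shf F) h) (MorphismProperty.Over.w h) = φ F V' := by
  ext W U w hw : 5
  ext s
  refine (comp_app_apply (φ F V) (res (shf F) h) (MorphismProperty.Over.w h) _
    (pullback.lift_snd _ _ _) (bcFst V.hom U) (bcFst_w _ U) w hw
    (pullback.lift_fst w (W.hom ≫ h.left) (hw.trans (((congrArg (W.hom ≫ ·)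
      (MorphismProperty.Over.w h)).symm.trans (Category.assoc _ _ _).symm)))) s).symm.trans ?_
  show (shf F).obj.map _ (scls F _ s) = scls F _ s
  rw [map_scls]
  exact congrArg (fun a => scls F a s) (MorphismProperty.Over.Hom.ext (pullback.lift_fst _ _ _))

theorem res_sectIso {V' V : X.ProEt} (h : V' ⟶ V) :
    (res (shf F) h).pre (sectIso F V).hom =
      ((unit h.left _).post (κ h.left V.hom (MorphismProperty.Over.w h) F).hom).post
        (sectIso F V').hom := by
  refine unit_comp_inj (MorphismProperty.Over.w h) ?_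
  rw [← comp_post, ← comp_post, unit_comp_unit_post_κ, unit_post_sectIso, ← post_comp,
    unit_post_sectIso, unit_comp_res]

/-- Sections of `ε⁻¹ F` over `V`, through the inverse image. -/
def Ψ (V : X.ProEt) :
    ((EtCoh.pull V.hom).obj F).obj.obj (op (EtCoh.top V.left)) ≅ (shf F).obj.obj (op V) :=
  ((sheafToPresheaf _ _).mapIso (sectIso F V)).app (op (EtCoh.top V.left)) ≪≫
    (shf F).obj.mapIso (MorphismProperty.Over.isoMk (Iso.refl V.left)
      ((Category.id_comp _).trans (Category.id_comp _).symm) :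
        V ≅ (T V).obj (EtCoh.top V.left)).op

/-- `Ψ` commutes with restriction. -/
theorem map_Ψ {V' V : X.ProEt} (h : V' ⟶ V)
    (z : ((EtCoh.pull V.hom).obj F).obj.obj (op (EtCoh.top V.left))) :
    (shf F).obj.map h.op ((Ψ F V).hom z) =
      (Ψ F V').hom ((κ h.left V.hom (MorphismProperty.Over.w h) F).hom.hom.app
        (op (EtCoh.top V'.left))
        ((unit h.left ((EtCoh.pull V.hom).obj F)).app (EtCoh.top V'.left) (EtCoh.top V.left) h.left
          (top_w h.left) z)) := by
  let e' : V' ≅ (T V').obj (EtCoh.top V'.left) := MorphismProperty.Over.isoMk (Iso.refl _)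
    ((Category.id_comp _).trans (Category.id_comp _).symm)
  let x := (sectIso F V).hom.hom.app (op (EtCoh.top V.left)) z
  have h1 := app_of_eq (res_sectIso F h) (EtCoh.top V'.left) (EtCoh.top V.left) h.left
    (top_w h.left) z
  have h2 : (shf F).obj.map h.op ((Ψ F V).hom z) = (shf F).obj.map e'.hom.op
      ((res (shf F) h).app (EtCoh.top V'.left) (EtCoh.top V.left) h.left (top_w h.left) x) := by
    show (shf F).obj.map h.op ((shf F).obj.map _ x) =
      (shf F).obj.map e'.hom.op ((shf F).obj.map _ x)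
    let iV : V ≅ (T V).obj (EtCoh.top V.left) := MorphismProperty.Over.isoMk (Iso.refl V.left)
      ((Category.id_comp _).trans (Category.id_comp _).symm)
    let m : (T V').obj (EtCoh.top V'.left) ⟶ (T V).obj (EtCoh.top V.left) :=
      MorphismProperty.Over.homMk h.left ((Category.assoc _ _ _).symm.trans
        ((congrArg (· ≫ V.hom) (top_w h.left)).trans ((Category.assoc _ _ _).trans
          (congrArg ((EtCoh.top V'.left).hom ≫ ·) (MorphismProperty.Over.w h))))) trivial
    have he : h ≫ iV.hom = e'.hom ≫ m :=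
      MorphismProperty.Over.Hom.ext ((Category.comp_id _).trans (Category.id_comp _).symm)
    exact (EpsElem.map_comp_apply (shf F).obj h iV.hom x).symm.trans
      ((congrArg (fun k : V' ⟶ (T V).obj (EtCoh.top V.left) => (shf F).obj.map k.op x) he).trans
        (EpsElem.map_comp_apply (shf F).obj e'.hom m x))
  rw [h2]
  exact congrArg ((shf F).obj.map e'.hom.op) h1

end Groth.Agent.ProEtS.Restr
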