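import Groth.Agent.ProEtS.WC

/-!
Coverings of the small pro-etale site by weakly contractible objects.
-/

universe u

open CategoryTheory CategoryTheory.Limits AlgebraicGeometry Opposite

namespace Groth.Agent.ProEtS.Covers

open Groth.Agent.ProEtS

set_option backward.isDefEq.respectTransparency.types false in
theorem isWContractible_of_ringEquiv {D E : Type u} [CommRing D] [CommRing E] (e : D ≃+* E)
    (h : EtPBC.IsWContractible D) : EtPBC.IsWContractible E := by
  intro B _ _ hff hw
  let : Algebra D E := e.toRingHom.toAlgebra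
  let : Algebra D B := ((algebraMap E B).comp (algebraMap D E)).toAlgebra
  have : IsScalarTower D E B := .of_algebraMap_eq fun _ => rfl
  have : Module.Flat D E := RingHom.Flat.of_bijective (f := algebraMap D E) e.bijective
  have := hff
  have : Module.Flat D B := Module.Flat.trans D E B
  have hff' : Module.FaithfullyFlat D B := Module.FaithfullyFlat.of_comap_surjective fun p => by
    obtain ⟨q, hq⟩ := PrimeSpectrum.comap_surjective_of_faithfullyFlat (A := E) (B := B)
      (PrimeSpectrum.comap e.symm.toRingHom p)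
    refine ⟨q, ?_⟩
    rw [IsScalarTower.algebraMap_eq D E B, PrimeSpectrum.comap_comp_apply, hq,
      ← PrimeSpectrum.comap_comp_apply]
    have : e.symm.toRingHom.comp (algebraMap D E) = RingHom.id D :=
      RingHom.ext fun x => e.symm_apply_apply x
    rw [this]
    rfl
  have hw' : Algebra.WeaklyEtale D B := by
    have := (Affine.weaklyEtale_SpecMap_iff E B).2 hw
    have : IsIso (CommRingCat.ofHom (algebraMap D E)) :=
      (e.toCommRingCatIso : CommRingCat.of D ≅ CommRingCat.of E).isIso_hom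
    refine (Affine.weaklyEtale_SpecMap_iff D B).1 ?_
    rw [IsScalarTower.algebraMap_eq D E B, CommRingCat.ofHom_comp, Spec.map_comp]
    infer_instance
  obtain ⟨r⟩ := h B hff' hw'
  exact ⟨{ e.toRingHom.comp r.toRingHom with
    commutes' := fun a => by
      show e (r (algebraMap E B a)) = a
      rw [show algebraMap E B a = algebraMap D B (e.symm a) from
        congrArg (algebraMap E B) (e.apply_symm_apply a).symm, r.commutes]
      exact e.apply_symm_apply a }⟩

set_option backward.isDefEq.respectTransparency.types false in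
/-- Affine schemes have w-contractible affine covers. -/
theorem exists_wContractible_cover (W : Scheme.{u}) [IsAffine W] :
    ∃ (Z : Scheme.{u}) (p : Z ⟶ W), IsAffine Z ∧ EtPBC.IsWContractible ↥Γ(Z, ⊤) ∧
      WeaklyEtale p ∧ Surjective p ∧ QuasiCompact p := by
  obtain ⟨D, _, _, hff, hfac, hwl, hed, hsh, -⟩ :=
    Groth.Agent.ProEtW.Contractible.exists_wContractible ↥Γ(W, ⊤)
  have hwc : EtPBC.IsWContractible D := Groth.Agent.ProEtW.Contractible.isWContractible hwl hed hsh
  have := (Affine.weaklyEtale_SpecMap_iff ↥Γ(W, ⊤) D).2 (Groth.Agent.IndAlg.Etale.weaklyEtale hfac)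
  have : Surjective (Spec.map (CommRingCat.ofHom (algebraMap ↥Γ(W, ⊤) D))) :=
    ⟨PrimeSpectrum.comap_surjective_of_faithfullyFlat (A := ↥Γ(W, ⊤)) (B := D)⟩
  refine ⟨Spec (CommRingCat.of D),
    Spec.map (CommRingCat.ofHom (algebraMap ↥Γ(W, ⊤) D)) ≫ W.isoSpec.inv, inferInstance,
    isWContractible_of_ringEquiv ((Scheme.ΓSpecIso (CommRingCat.of D)).symm.commRingCatIsoToRingEquiv) hwc,
    inferInstance, inferInstance, inferInstance⟩

variable {X : Scheme.{u}}

set_option backward.isDefEq.respectTransparency.types false in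
/-- Coverings compose: an open cover followed by surjections on the members. -/
theorem mem_of_refine {U : X.ProEt} (T : Sieve U) {ι : Type u} (W : ι → U.left.Opens)
    (hW : ∀ x, ∃ i, x ∈ W i) (Z : ι → Scheme.{u}) (p : ∀ i, Z i ⟶ (W i : Scheme.{u}))
    [∀ i, WeaklyEtale (p i)] [∀ i, Surjective (p i)] [∀ i, QuasiCompact (p i)]
    (hT : ∀ i, Site.under T (p i ≫ (W i).ι)) : T ∈ Scheme.ProEt.topology X U := by
  rw [Site.mem_topology_iff]
  refine GrothendieckTopology.transitive _ (Precoverage.generate_mem_toGrothendieck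
    (Scheme.zariskiPrecoverage_le_propQCPrecoverage (P := @WeaklyEtale) _
      ((Scheme.ofArrows_mem_precoverage_iff @IsOpenImmersion (X := fun i => (W i : Scheme.{u}))
        (f := fun i => (W i).ι)).2
        ⟨fun x => let ⟨i, hi⟩ := hW x; ⟨i, (Set.ext_iff.1 (Scheme.Opens.range_ι (W i)) x).2 hi⟩,
          fun i => inferInstanceAs (IsOpenImmersion (W i).ι)⟩))) _ ?_
  rintro Y l ⟨Y', a, b, ⟨i⟩, rfl⟩
  rw [Sieve.pullback_comp]
  refine GrothendieckTopology.pullback_stable _ a ?_
  refine GrothendieckTopology.superset_covering _ ?_ (Precoverage.generate_mem_toGrothendieck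
    (Scheme.Hom.singleton_mem_propQCPrecoverage (f := p i) (inferInstance : WeaklyEtale (p i))))
  rintro Q m ⟨Q', c, d, ⟨⟩, rfl⟩
  show Site.under T ((c ≫ p i) ≫ (W i).ι)
  rw [Category.assoc]
  exact (Site.under T).downward_closed (hT i) c

set_option backward.isDefEq.respectTransparency.types false in
theorem exists_wc_family (U : X.ProEt) {ι : Type u} (W : ι → U.left.Opens)
    (hW : ∀ i, IsAffineOpen (W i)) (hcov : ∀ x, ∃ i, x ∈ W i) :
    ∃ (V : ι → X.ProEt) (g : ∀ i, V i ⟶ U), Sieve.ofArrows V g ∈ Scheme.ProEt.topology X U ∧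
      ∀ i, IsAffine (V i).left ∧ EtPBC.IsWContractible ↥(Γ((V i).left, ⊤)) := by
  have : ∀ i, IsAffine (W i : Scheme.{u}) := hW
  choose Z p hZ hc hp hs hq using fun i => exists_wContractible_cover (W i : Scheme.{u})
  let V : ι → X.ProEt := fun i => Scheme.ProEt.mk ((p i ≫ (W i).ι) ≫ U.hom)
  let g : ∀ i, V i ⟶ U := fun i => MorphismProperty.Over.homMk (p i ≫ (W i).ι)
  refine ⟨V, g, mem_of_refine _ W hcov Z p fun i => ?_, fun i => ⟨hZ i, hc i⟩⟩
  exact ⟨V i, g i, 𝟙 _, Sieve.ofArrows_mk _ _ i, Category.id_comp _⟩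

theorem affineOpens_cover (U : Scheme.{u}) : ∀ x, ∃ i : U.affineOpens, x ∈ i.1 := fun x =>
  let ⟨V, hV, hx, _⟩ := exists_isAffineOpen_mem_and_subset (x := x) (U := ⊤) trivial
  ⟨⟨V, hV⟩, hx⟩

set_option backward.isDefEq.respectTransparency.types false in
theorem exists_cover_weaklyContractible (U : X.ProEt) :
    ∃ (V : X.ProEt) (g : V ⟶ U),
      Sieve.generate (Presieve.singleton g) ∈ Scheme.ProEt.topology X U ∧ _root_.ProEtS.IsWC V := by
  obtain ⟨W, a, hmem, hW⟩ := exists_wc_family U (fun i : U.left.affineOpens => i.1) (fun i => i.2)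
    (affineOpens_cover U.left)
  let Y : U.left.affineOpens → Scheme.{u} := fun i => (W i).left
  have hw : ∀ i, WeaklyEtale (a i).left := fun i => by
    have : WeaklyEtale ((a i).left ≫ U.hom) := by
      rw [show (a i).left ≫ U.hom = (W i).hom from Over.w (a i).hom]; infer_instance
    exact WeaklyEtale.of_comp _ U.hom
  let d : ∐ Y ⟶ U.left := Sigma.desc fun i => (a i).left
  have : WeaklyEtale d := IsZariskiLocalAtSource.sigmaDesc hw
  let V : X.ProEt := Scheme.ProEt.mk (d ≫ U.hom)
  let g : V ⟶ U := MorphismProperty.Over.homMk d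
  let b : ∀ i, W i ⟶ V := fun i => MorphismProperty.Over.homMk (Sigma.ι Y i)
    (by
      show Sigma.ι Y i ≫ d ≫ U.hom = (W i).hom
      rw [← Category.assoc, show Sigma.ι Y i ≫ d = (a i).left from Sigma.ι_desc _ i]
      exact Over.w (a i).hom) trivial
  refine ⟨V, g, GrothendieckTopology.superset_covering _ ?_ hmem, WC.isWC_of_disjoint W b
    (fun i => inferInstanceAs (IsOpenImmersion (Sigma.ι Y i))) (fun i j hij => ?_)
    (fun x => ⟨(sigmaOpenCover Y).idx x, (sigmaOpenCover Y).covers x⟩) fun i => ?_⟩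
  · rw [Sieve.ofArrows, Sieve.generate_le_iff]
    rintro _ _ ⟨i⟩
    refine ⟨V, b i, g, ⟨⟩, ?_⟩
    apply (Scheme.ProEt.forget X).map_injective
    exact Over.OverMorphism.ext (Sigma.ι_desc _ i)
  · refine Set.disjoint_left.2 ?_
    rintro x ⟨y, rfl⟩ ⟨z, hz⟩
    obtain ⟨h1, -⟩ := Sigma.mk.inj_iff.1 ((sigmaι_eq_iff Y j i z y).1 hz)
    exact hij h1.symm
  · have := (hW i).1
    exact WC.isWC_of_isWContractible (W i) (hW i).2

set_option backward.isDefEq.respectTransparency.types false in
theorem exists_cover_affine_weaklyContractible (U : X.ProEt) [CompactSpace ↥U.left] :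
    ∃ (V : X.ProEt) (g : V ⟶ U),
      Sieve.generate (Presieve.singleton g) ∈ Scheme.ProEt.topology X U ∧ IsAffine V.left ∧
        _root_.ProEtS.IsWC V := by
  obtain ⟨t, ht⟩ := isCompact_univ.elim_finite_subcover
    (fun i : U.left.affineOpens => (i.1 : Set ↥U.left)) (fun i => i.1.isOpen)
    (fun x _ => Set.mem_iUnion.2 (affineOpens_cover U.left x))
  let W : t → U.left.Opens := fun i => i.1.1
  have : ∀ i, IsAffine (W i : Scheme.{u}) := fun i => i.1.2
  let Y : t → Scheme.{u} := fun i => (W i : Scheme.{u})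
  let d : ∐ Y ⟶ U.left := Sigma.desc fun i => (W i).ι
  have : WeaklyEtale d := IsZariskiLocalAtSource.sigmaDesc fun i => inferInstanceAs (WeaklyEtale (W i).ι)
  obtain ⟨Z, p, hZ, hc, hp, hs, hq⟩ := exists_wContractible_cover (∐ Y)
  let V : X.ProEt := Scheme.ProEt.mk ((p ≫ d) ≫ U.hom)
  let g : V ⟶ U := MorphismProperty.Over.homMk (p ≫ d)
  have hcov : ∀ x, ∃ i, x ∈ W i := fun x => by
    obtain ⟨i, hi, hx⟩ := Set.mem_iUnion₂.1 (ht (Set.mem_univ x))
    exact ⟨⟨i, hi⟩, hx⟩
  refine ⟨V, g, mem_of_refine _ W hcov (fun i => pullback p (Sigma.ι Y i))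
    (fun i => pullback.snd p (Sigma.ι Y i)) fun i => ?_, hZ, ?_⟩
  · refine ⟨V, g, pullback.fst p (Sigma.ι Y i), ⟨V, 𝟙 V, g, ⟨⟩, Category.id_comp g⟩, ?_⟩
    show pullback.fst p (Sigma.ι Y i) ≫ p ≫ d = _
    rw [pullback.condition_assoc, Sigma.ι_desc]
  · have : IsAffine V.left := hZ
    exact WC.isWC_of_isWContractible V hc

end Groth.Agent.ProEtS.Covers
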