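import Mathlib.AlgebraicGeometry.Sites.Proetale
import Mathlib.CategoryTheory.Functor.Flat
import Mathlib.CategoryTheory.Sites.Pullback
import Mathlib.CategoryTheory.Functor.KanExtension.Adjunction
import Mathlib.CategoryTheory.Abelian.GrothendieckAxioms.Colim
import Mathlib.Algebra.Category.Grp.AB
import Mathlib.CategoryTheory.Category.ULift
import Mathlib.CategoryTheory.Sites.Over
import Groth.Prelude.Def_ProEtS

/-!
# Restriction from the big to the small pro-étale site: the left adjoint preserves monomorphisms
-/

set_option autoImplicit false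

universe u

open CategoryTheory CategoryTheory.Limits AlgebraicGeometry Opposite

namespace Groth.Agent.ProEtS.BigRestrict

/-- Left Kan extension preserves monomorphisms if the shapes of its colimits are exact. -/
theorem lan_preservesMono {C : Type (u + 1)} [Category.{u} C] {D : Type (u + 1)} [Category.{u} D]
    (G : C ⥤ D)
    (hG : ∀ W : D, HasExactColimitsOfShape (CostructuredArrow G.op (op W)) AddCommGrpCat.{u + 1}) :
    (G.op.lan : (Cᵒᵖ ⥤ AddCommGrpCat.{u + 1}) ⥤ _).PreservesMonomorphisms where
  preserves {A B} α _ := by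
    rw [NatTrans.mono_iff_mono_app]
    intro W
    obtain ⟨W⟩ := W
    haveI := hG W
    haveI : ∀ X, Mono (α.app X) := fun X => inferInstance
    haveI : Mono (Functor.whiskerLeft (CostructuredArrow.proj G.op (op W)) α) :=
      haveI : ∀ X, Mono ((Functor.whiskerLeft (CostructuredArrow.proj G.op (op W)) α).app X) :=
        fun X => inferInstanceAs (Mono (α.app _))
      NatTrans.mono_of_mono_app _
    refine colim.map_mono' (Functor.whiskerLeft (CostructuredArrow.proj G.op (op W)) α)
      (Functor.isPointwiseLeftKanExtensionLeftKanExtensionUnit G.op A (op W))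
      (Functor.isPointwiseLeftKanExtensionLeftKanExtensionUnit G.op B (op W)) _ ?_
    intro T
    show ((G.op.lanUnit.app A).app T.left ≫ (G.op.lan.obj A).map T.hom) ≫
        (G.op.lan.map α).app (op W) =
      α.app T.left ≫ ((G.op.lanUnit.app B).app T.left ≫ (G.op.lan.obj B).map T.hom)
    rw [Category.assoc, NatTrans.naturality, ← Category.assoc, ← Category.assoc]
    congr 1
    exact (congr_app (G.op.lanUnit.naturality α) T.left).symm

/-- Shapes of colimits along representably flat functors are exact. -/
theorem exact_of_flat {C : Type (u + 1)} [Category.{u} C] {D : Type (u + 1)} [Category.{u} D]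
    (G : C ⥤ D) [RepresentablyFlat G] (W : D) :
    HasExactColimitsOfShape (CostructuredArrow G.op (op W)) AddCommGrpCat.{u + 1} := by
  let J := CostructuredArrow G.op (op W)
  haveI : IsFiltered J := IsFiltered.of_equivalence (structuredArrowOpEquivalence G W)
  haveI : IsFiltered (ULiftHom.{u + 1} J) := inferInstance
  exact HasExactColimitsOfShape.of_domain_equivalence (C := AddCommGrpCat.{u + 1})
    (ULiftHom.equiv (C := J)).symm

/-- Lifts of an object along `Over.map f`. -/
abbrev Lift {T S : Scheme.{u}} (f : T ⟶ S) (W : Over S) : Type u :=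
  { h : W.left ⟶ T // h ≫ f = W.hom }

/-- The terminal objects of the components. -/
def liftFunctor {T S : Scheme.{u}} (f : T ⟶ S) (W : Over S) :
    Discrete (Lift f W) ⥤ CostructuredArrow (Over.map f).op (op W) :=
  Discrete.functor fun h => CostructuredArrow.mk
    (Y := op (Over.mk h.1)) (Quiver.Hom.op (Over.homMk (𝟙 W.left) (by simpa using h.2) :
      W ⟶ (Over.map f).obj (Over.mk h.1)))

theorem final_liftFunctor {T S : Scheme.{u}} (f : T ⟶ S) (W : Over S) :
    (liftFunctor f W).Final := by
  constructor
  intro a
  let h₀ : Lift f W := ⟨a.hom.unop.left ≫ a.left.unop.hom, by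
    simpa using Over.w a.hom.unop⟩
  let a₀ : a ⟶ (liftFunctor f W).obj ⟨h₀⟩ :=
    CostructuredArrow.homMk (Quiver.Hom.op (Over.homMk a.hom.unop.left rfl :
      Over.mk h₀.1 ⟶ a.left.unop)) (Quiver.Hom.unop_inj (by ext; simp [liftFunctor]))
  have key : ∀ (h : Lift f W) (m : a ⟶ (liftFunctor f W).obj ⟨h⟩),
      (CommaMorphism.left m).unop.left = a.hom.unop.left := fun h m => by
    simpa [liftFunctor] using congrArg (fun x => x.unop.left) (CostructuredArrow.w m)
  haveI : Nonempty (StructuredArrow a (liftFunctor f W)) := ⟨StructuredArrow.mk a₀⟩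
  refine zigzag_isConnected fun x y => ?_
  have hx : ∀ x : StructuredArrow a (liftFunctor f W), x.right.as = h₀ := fun x => by
    apply Subtype.ext
    have h1 := Over.w (CommaMorphism.left x.hom).unop
    have h2 := key x.right.as x.hom
    exact h1.symm.trans (by rw [h2]; rfl)
  obtain ⟨xl, ⟨hx'⟩, xh⟩ := x
  obtain ⟨yl, ⟨hy'⟩, yh⟩ := y
  obtain rfl : hx' = h₀ := hx ⟨xl, ⟨hx'⟩, xh⟩
  obtain rfl : hy' = h₀ := hx ⟨yl, ⟨hy'⟩, yh⟩
  refine Zigzag.of_hom (StructuredArrow.homMk (𝟙 _) ?_)
  apply CostructuredArrow.hom_ext
  apply Quiver.Hom.unop_inj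
  ext
  simp [key h₀ xh, key h₀ yh]
  all_goals rfl

theorem exact_overMap {T S : Scheme.{u}} (f : T ⟶ S) (W : Over S) :
    HasExactColimitsOfShape (CostructuredArrow (Over.map f).op (op W)) AddCommGrpCat.{u + 1} := by
  haveI := final_liftFunctor f W
  haveI : HasExactColimitsOfShape (Discrete (ULift.{u + 1} (Lift f W))) AddCommGrpCat.{u + 1} :=
    inferInstance
  haveI : HasExactColimitsOfShape (Discrete (Lift f W)) AddCommGrpCat.{u + 1} :=
    HasExactColimitsOfShape.of_domain_equivalence (C := AddCommGrpCat.{u + 1})
      (Discrete.equivalence (Equiv.ulift.{u + 1} (α := Lift f W)))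
  exact hasExactColimitsOfShape_of_final _ (liftFunctor f W)

set_option backward.isDefEq.respectTransparency.types false in
/-- The left adjoint of restriction to the small site preserves monomorphisms. -/
theorem sheafPullback_preservesMono {T S : Scheme.{u}} (f : T ⟶ S)
    [(Scheme.ProEt.forget T ⋙ Over.map f).IsContinuous (Scheme.ProEt.topology T)
      (Scheme.proetaleTopology.over S)] :
    ((Scheme.ProEt.forget T ⋙ Over.map f).sheafPullback AddCommGrpCat.{u + 1}
      (Scheme.ProEt.topology T) (Scheme.proetaleTopology.over S)).PreservesMonomorphisms := by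
  let G := Scheme.ProEt.forget T ⋙ Over.map f
  haveI := lan_preservesMono (Scheme.ProEt.forget T) (exact_of_flat _)
  haveI := lan_preservesMono (Over.map f) (exact_overMap f)
  haveI : (G.op.lan : (_ ⥤ AddCommGrpCat.{u + 1}) ⥤ _).PreservesMonomorphisms :=
    Functor.preservesMonomorphisms.of_iso
      (Adjunction.leftAdjointUniq
        ((((Scheme.ProEt.forget T).op.lanAdjunction AddCommGrpCat.{u + 1}).comp
          ((Over.map f).op.lanAdjunction AddCommGrpCat.{u + 1})))
        (G.op.lanAdjunction AddCommGrpCat.{u + 1}))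
  haveI : (Functor.sheafPullbackConstruction.sheafPullback G AddCommGrpCat.{u + 1}
      (Scheme.ProEt.topology T) (Scheme.proetaleTopology.over S)).PreservesMonomorphisms := by
    haveI : (sheafToPresheaf (Scheme.ProEt.topology T) AddCommGrpCat.{u + 1}).PreservesMonomorphisms :=
      inferInstance
    haveI : (presheafToSheaf (Scheme.proetaleTopology.over S)
        AddCommGrpCat.{u + 1}).PreservesMonomorphisms := inferInstance
    exact ⟨fun m _ => inferInstanceAs (Mono ((presheafToSheaf (Scheme.proetaleTopology.over S)
        AddCommGrpCat.{u + 1}).map (G.op.lan.map ((sheafToPresheaf (Scheme.ProEt.topology T)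
        AddCommGrpCat.{u + 1}).map m))))⟩
  exact Functor.preservesMonomorphisms.of_iso
    (Functor.sheafPullbackConstruction.sheafPullbackIso G AddCommGrpCat.{u + 1}
      (Scheme.ProEt.topology T) (Scheme.proetaleTopology.over S)).symm

end Groth.Agent.ProEtS.BigRestrict
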