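import Mathlib.CategoryTheory.Adjunction.Triple
import Mathlib.CategoryTheory.Sites.CoverLifting
import Mathlib.CategoryTheory.Functor.KanExtension.Adjunction
import Groth.Agent.EtaleSite.Flasque
import Groth.Prelude.Def_ProEtS

/-!
# Big and small pro-étale sites: unit isomorphism and exactness of restriction
-/

set_option autoImplicit false

universe u

open CategoryTheory CategoryTheory.Limits AlgebraicGeometry Opposite

namespace Groth.Agent.ProEtS.BigSmall

variable (S : Scheme.{u})

set_option backward.isDefEq.respectTransparency.types false in
theorem cocontinuous : (Scheme.ProEt.forget S).IsCocontinuous (Scheme.ProEt.topology S)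
    (Scheme.proetaleTopology.over S) := by
  rw [Scheme.ProEt.topology_eq_inducedTopology]
  haveI : (Scheme.ProEt.forget S).IsContinuous
      ((Scheme.ProEt.forget S).restrictedTopology (Scheme.proetaleTopology.over S))
      (Scheme.proetaleTopology.over S) := by
    rw [Functor.isContinuous_iff_coverPreserving]
    exact (Scheme.ProEt.forget S).coverPreserving_restrictedTopology _
  rw [← Functor.restrictedTopology_eq_inducedTopology]
  infer_instance

set_option backward.isDefEq.respectTransparency.types false in
theorem isIso_unit (F : _root_.ProEtS.AbP S) :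
    IsIso (((Scheme.ProEt.forget S).sheafAdjunctionContinuous AddCommGrpCat.{u + 1}
      (Scheme.ProEt.topology S) (Scheme.proetaleTopology.over S)).unit.app F) := by
  haveI := cocontinuous S
  let G := Scheme.ProEt.forget S
  let t : Adjunction.Triple
      (G.sheafPullback AddCommGrpCat.{u + 1} (Scheme.ProEt.topology S) (Scheme.proetaleTopology.over S))
      (G.sheafPushforwardContinuous AddCommGrpCat.{u + 1} (Scheme.ProEt.topology S) (Scheme.proetaleTopology.over S))
      (G.sheafPushforwardCocontinuous AddCommGrpCat.{u + 1} (Scheme.ProEt.topology S) (Scheme.proetaleTopology.over S)) :=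
    ⟨G.sheafAdjunctionContinuous _ _ _, G.sheafAdjunctionCocontinuous _ _ _⟩
  haveI : ∀ F : _root_.ProEtS.AbP S, IsIso (t.adj₂.counit.app F) := fun F => by
    haveI : G.Full := inferInstanceAs (Scheme.ProEt.forget S).Full
    haveI : G.Faithful := inferInstanceAs (Scheme.ProEt.forget S).Faithful
    haveI : G.op.Full := inferInstance
    haveI : G.op.Faithful := inferInstance
    haveI : HasLimitsOfSize.{u, u + 1} AddCommGrpCat.{u + 1} :=
      hasLimitsOfSizeShrink.{u, u + 1, u + 1, u + 1} _
    haveI : G.op.HasPointwiseRightKanExtension F.obj := inferInstance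
    have hran : IsIso ((G.op.ranAdjunction AddCommGrpCat.{u + 1}).counit.app F.obj) := by
      rw [Functor.ranAdjunction_counit]
      haveI : ∀ X, IsIso ((G.op.ranCounit.app F.obj).app X) := fun X =>
        (Functor.isPointwiseRightKanExtensionRanCounit G.op F.obj (G.op.obj X)).isIso_hom_app
      exact NatIso.isIso_of_isIso_app _
    have h := G.sheafAdjunctionCocontinuous_counit_app_hom AddCommGrpCat.{u + 1}
      (Scheme.ProEt.topology S) (Scheme.proetaleTopology.over S) F
    haveI : IsIso ((sheafToPresheaf (Scheme.ProEt.topology S) AddCommGrpCat.{u + 1}).map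
        (t.adj₂.counit.app F)) := by
      show IsIso (t.adj₂.counit.app F).hom
      erw [h]
      exact hran
    exact isIso_of_reflects_iso _ (sheafToPresheaf (Scheme.ProEt.topology S) AddCommGrpCat.{u + 1})
  haveI : IsIso t.adj₂.counit := NatIso.isIso_of_isIso_app _
  haveI : IsIso t.adj₁.unit := t.isIso_unit_iff_isIso_counit.2 inferInstance
  exact inferInstanceAs (IsIso (t.adj₁.unit.app F))

set_option backward.isDefEq.respectTransparency.types false in
theorem preservesFiniteColimits : PreservesFiniteColimits
    ((Scheme.ProEt.forget S).sheafPushforwardContinuous AddCommGrpCat.{u + 1}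
      (Scheme.ProEt.topology S) (Scheme.proetaleTopology.over S)) := by
  haveI := cocontinuous S
  haveI := ((Scheme.ProEt.forget S).sheafAdjunctionCocontinuous AddCommGrpCat.{u + 1}
    (Scheme.ProEt.topology S) (Scheme.proetaleTopology.over S)).leftAdjoint_preservesColimits
  infer_instance

end Groth.Agent.ProEtS.BigSmall
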