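import Groth.Agent.ProEtS.ClosedLift
import Groth.Agent.ProEtS.Covers
import Mathlib.CategoryTheory.Functor.KanExtension.Adjunction
import Mathlib.CategoryTheory.Sites.LocallyBijective
import Mathlib.CategoryTheory.Sites.Pullback

/-!
# The counit of pullback and pushforward along a closed immersion
-/

set_option autoImplicit false

universe u

open CategoryTheory CategoryTheory.Limits AlgebraicGeometry Opposite

namespace Groth.Agent.ProEtS.ClosedCounit

variable {Z X : Scheme.{u}} (i : Z ⟶ X) (F : _root_.ProEtS.AbP Z)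

/-- The presheaf pullback of the pushforward. -/
noncomputable abbrev pre : Z.ProEtᵒᵖ ⥤ AddCommGrpCat.{u + 1} :=
  (_root_.ProEtS.bcP i).op.lan.obj ((_root_.ProEtS.bcP i).op ⋙ F.obj)

/-- The presheaf counit. -/
noncomputable abbrev cu : pre i F ⟶ F.obj :=
  ((_root_.ProEtS.bcP i).op.lanAdjunction AddCommGrpCat.{u + 1}).counit.app F.obj

/-- The germ given by a map to a base change and a section there. -/
noncomputable def cls {W : Z.ProEt} {V : X.ProEt} (a : W ⟶ (_root_.ProEtS.bcP i).obj V)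
    (s : F.obj.obj (op ((_root_.ProEtS.bcP i).obj V))) : (pre i F).obj (op W) :=
  (pre i F).map a.op (((_root_.ProEtS.bcP i).op.lanUnit.app ((_root_.ProEtS.bcP i).op ⋙ F.obj)).app (op V) s)

theorem cu_cls {W : Z.ProEt} {V : X.ProEt} (a : W ⟶ (_root_.ProEtS.bcP i).obj V)
    (s : F.obj.obj (op ((_root_.ProEtS.bcP i).obj V))) :
    (cu i F).app (op W) (cls i F a s) = F.obj.map a.op s := by
  refine (NatTrans.naturality_apply (cu i F) a.op _).trans (congrArg (F.obj.map a.op) ?_)
  exact congrArg (fun m : (F.obj.obj (op ((_root_.ProEtS.bcP i).obj V))) ⟶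
    F.obj.obj (op ((_root_.ProEtS.bcP i).obj V)) => m s)
    ((_root_.ProEtS.bcP i).op.lanUnit_app_app_lanAdjunction_counit_app_app F.obj (op V))

theorem map_cls {W W' : Z.ProEt} (k : W' ⟶ W) {V : X.ProEt} (a : W ⟶ (_root_.ProEtS.bcP i).obj V)
    (s : F.obj.obj (op ((_root_.ProEtS.bcP i).obj V))) :
    (pre i F).map k.op (cls i F a s) = cls i F (k ≫ a) s :=
  (EpsElem.map_comp_apply (pre i F) k a _).symm

theorem cls_comp {W : Z.ProEt} {V V' : X.ProEt} (a : W ⟶ (_root_.ProEtS.bcP i).obj V') (g : V' ⟶ V)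
    (s : F.obj.obj (op ((_root_.ProEtS.bcP i).obj V))) :
    cls i F (a ≫ (_root_.ProEtS.bcP i).map g) s =
      cls i F a (F.obj.map ((_root_.ProEtS.bcP i).map g).op s) := by
  rw [cls, cls, EpsElem.map_comp_apply (pre i F)]
  congr 1
  exact (NatTrans.naturality_apply
    ((_root_.ProEtS.bcP i).op.lanUnit.app ((_root_.ProEtS.bcP i).op ⋙ F.obj)) g.op s).symm

set_option backward.isDefEq.respectTransparency.types false in
theorem exists_cls (W : Z.ProEt) (p : (pre i F).obj (op W)) :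
    ∃ (V : X.ProEt) (a : W ⟶ (_root_.ProEtS.bcP i).obj V)
      (s : F.obj.obj (op ((_root_.ProEtS.bcP i).obj V))), cls i F a s = p := by
  have : RepresentablyFlat (_root_.ProEtS.bcP i) := flat_of_preservesFiniteLimits _
  have : PreservesFilteredColimitsOfSize.{u, u + 1} (forget AddCommGrpCat.{u + 1}) :=
    preservesFilteredColimitsOfSize_shrink.{u+1, u+1, u, u+1} _
  obtain ⟨j, s, hs⟩ := Concrete.isColimit_exists_rep _
    (Functor.isPointwiseLeftKanExtensionLeftKanExtensionUnit (_root_.ProEtS.bcP i).op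
      ((_root_.ProEtS.bcP i).op ⋙ F.obj) (op W)) p
  exact ⟨j.left.unop, j.hom.unop, s, hs⟩

variable [IsClosedImmersion i]

set_option backward.isDefEq.respectTransparency.types false in
/-- Near every point an object over `Z` maps affinely to a base change. -/
theorem exists_affine {W : Z.ProEt} {V : X.ProEt} (a : W ⟶ (_root_.ProEtS.bcP i).obj V) (x : W.left) :
    ∃ (W₀ : W.left.Opens) (V₀ : X.ProEt) (g : V₀ ⟶ V)
      (a₀ : Scheme.ProEt.mk (W₀.ι ≫ W.hom) ⟶ (_root_.ProEtS.bcP i).obj V₀),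
      IsAffineOpen W₀ ∧ x ∈ W₀ ∧ IsAffine V₀.left ∧
      a₀ ≫ (_root_.ProEtS.bcP i).map g = MorphismProperty.Over.homMk W₀.ι ≫ a := by
  let b : W.left ⟶ V.left := a.left ≫ pullback.fst V.hom i
  obtain ⟨U, hU, hxU, -⟩ := exists_isAffineOpen_mem_and_subset (x := b x) (U := ⊤) trivial
  obtain ⟨W₀, hW₀, hxW, hle⟩ := exists_isAffineOpen_mem_and_subset (x := x) (U := b ⁻¹ᵁ U) hxU
  haveI : WeaklyEtale V.hom := V.prop
  let V₀ : X.ProEt := Scheme.ProEt.mk (U.ι ≫ V.hom)
  let g : V₀ ⟶ V := MorphismProperty.Over.homMk U.ι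
  let l : (W₀ : Scheme.{u}) ⟶ (U : Scheme.{u}) := W.left.homOfLE hle ≫ b ∣_ U
  have hl : l ≫ U.ι = W₀.ι ≫ b := by simp [l]
  have ha : a.left ≫ pullback.snd V.hom i = W.hom := Over.w a.hom
  have w : l ≫ U.ι ≫ V.hom = (W₀.ι ≫ W.hom) ≫ i := by
    rw [← Category.assoc, hl, ← ha]
    simp only [b, Category.assoc]
    exact congrArg (fun m => W₀.ι ≫ a.left ≫ m) pullback.condition
  let a₀ : Scheme.ProEt.mk (W₀.ι ≫ W.hom) ⟶ (_root_.ProEtS.bcP i).obj V₀ :=
    MorphismProperty.Over.homMk (pullback.lift l (W₀.ι ≫ W.hom) w) (pullback.lift_snd _ _ _)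
  refine ⟨W₀, V₀, g, a₀, hW₀, hxW, hU, MorphismProperty.Over.Hom.ext ?_⟩
  show pullback.lift l (W₀.ι ≫ W.hom) w ≫ ((_root_.ProEtS.bcP i).map g).left = W₀.ι ≫ a.left
  apply pullback.hom_ext
  · have e1 : ((_root_.ProEtS.bcP i).map g).left ≫ pullback.fst V.hom i =
        pullback.fst V₀.hom i ≫ U.ι := pullback.lift_fst _ _ _
    exact ((Category.assoc _ _ _).trans ((congrArg (_ ≫ ·) e1).trans ((Category.assoc _ _ _).symm.trans
      ((congrArg (· ≫ U.ι) (pullback.lift_fst _ _ _)).trans (hl.trans (Category.assoc _ _ _).symm)))) :)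
  · have e2 : ((_root_.ProEtS.bcP i).map g).left ≫ pullback.snd V.hom i = pullback.snd V₀.hom i :=
      pullback.lift_snd _ _ _
    exact ((Category.assoc _ _ _).trans ((congrArg (_ ≫ ·) e2).trans
      ((pullback.lift_snd _ _ _).trans ((congrArg (W₀.ι ≫ ·) ha.symm).trans
        (Category.assoc _ _ _).symm))) :)

set_option backward.isDefEq.respectTransparency.types false in
/-- Sieves containing restrictions of all affine local lifts are covering. -/
theorem mem_of_local {W : Z.ProEt} (T : Sieve W)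
    (h : ∀ x : W.left, ∃ (W₀ : W.left.Opens) (V₀ : X.ProEt)
      (a₀ : Scheme.ProEt.mk (W₀.ι ≫ W.hom) ⟶ (_root_.ProEtS.bcP i).obj V₀),
      IsAffineOpen W₀ ∧ x ∈ W₀ ∧ IsAffine V₀.left ∧
      ∀ (V' : X.ProEt) (g : V' ⟶ V₀) (k : (_root_.ProEtS.bcP i).obj V' ⟶ Scheme.ProEt.mk (W₀.ι ≫ W.hom)),
        k ≫ a₀ = (_root_.ProEtS.bcP i).map g → T (k ≫ MorphismProperty.Over.homMk W₀.ι)) :
    T ∈ Scheme.ProEt.topology Z W := by
  choose W₀ V₀ a₀ hW hx hV hT using h
  haveI : ∀ x, IsAffine (Scheme.ProEt.mk ((W₀ x).ι ≫ W.hom)).left := hW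
  choose V' g k hk hA hs using fun x =>
    haveI := hV x
    ClosedLift.exists_cover i (V₀ x) (Scheme.ProEt.mk ((W₀ x).ι ≫ W.hom)) (a₀ x)
  haveI : ∀ x, IsAffine ((W₀ x : W.left.Opens) : Scheme.{u}) := hW
  let p : ∀ x, ((_root_.ProEtS.bcP i).obj (V' x)).left ⟶ (W₀ x : Scheme.{u}) := fun x => (k x).left
  haveI : ∀ x, WeaklyEtale (p x) := fun x => EpsElem.weaklyEtale_left (k x)
  haveI : ∀ x, Surjective (p x) := hs
  haveI : ∀ x, QuasiCompact (p x) := fun x =>
    haveI := hA x
    inferInstance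
  exact Covers.mem_of_refine T W₀ (fun x => ⟨x, hx x⟩)
    (fun x => ((_root_.ProEtS.bcP i).obj (V' x)).left) p
    fun x => ⟨(_root_.ProEtS.bcP i).obj (V' x), _, 𝟙 _, hT x (V' x) (g x) (k x) (hk x),
      Category.id_comp _⟩

set_option backward.isDefEq.respectTransparency.types false in
theorem isLocallyInjective : Presheaf.IsLocallyInjective (Scheme.ProEt.topology Z) (cu i F) := by
  refine ⟨fun {Wop} p q hpq => ?_⟩
  obtain ⟨W⟩ := Wop
  have h0 : (cu i F).app (op W) (p - q) = 0 := by rw [map_sub, hpq, sub_self]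
  obtain ⟨V, a, s, hs⟩ := exists_cls i F W (p - q)
  rw [← hs, cu_cls] at h0
  refine mem_of_local i _ fun x => ?_
  obtain ⟨W₀, V₀, g, a₀, hW₀, hx, hV₀, he⟩ := exists_affine i a x
  refine ⟨W₀, V₀, a₀, hW₀, hx, hV₀, fun V' g' k hk => ?_⟩
  let j : Scheme.ProEt.mk (W₀.ι ≫ W.hom) ⟶ W := MorphismProperty.Over.homMk W₀.ι
  show (pre i F).map (k ≫ j).op p = (pre i F).map (k ≫ j).op q
  have hc : (k ≫ j) ≫ a = (_root_.ProEtS.bcP i).map (g' ≫ g) := by
    exact ((Category.assoc k j a).trans ((congrArg (k ≫ ·) he.symm).trans ((Category.assoc k a₀ _).symm.trans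
      ((congrArg (· ≫ _) hk).trans ((_root_.ProEtS.bcP i).map_comp g' g).symm))) :)
  have hz : F.obj.map ((_root_.ProEtS.bcP i).map (g' ≫ g)).op s = 0 := by
    rw [← hc, EpsElem.map_comp_apply, h0, map_zero]
  rw [← sub_eq_zero, ← map_sub, ← hs, map_cls, hc,
    ← Category.id_comp ((_root_.ProEtS.bcP i).map (g' ≫ g)), cls_comp, hz, cls, map_zero, map_zero]

set_option backward.isDefEq.respectTransparency.types false in
theorem isLocallySurjective : Presheaf.IsLocallySurjective (Scheme.ProEt.topology Z) (cu i F) := by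
  refine ⟨fun {W} s => mem_of_local i _ fun x => ?_⟩
  obtain ⟨U, hU, hxU, -⟩ := exists_isAffineOpen_mem_and_subset (x := (W.hom ≫ i) x) (U := ⊤) trivial
  haveI : WeaklyEtale U.ι := inferInstance
  obtain ⟨W₀, hW₀, hx, hle⟩ := exists_isAffineOpen_mem_and_subset (x := x) (U := (W.hom ≫ i) ⁻¹ᵁ U) hxU
  let V₀ : X.ProEt := Scheme.ProEt.mk U.ι
  let l : (W₀ : Scheme.{u}) ⟶ (U : Scheme.{u}) := W.left.homOfLE hle ≫ (W.hom ≫ i) ∣_ U
  have w : l ≫ U.ι = (W₀.ι ≫ W.hom) ≫ i := by
    exact (Category.assoc _ _ _).trans ((congrArg (fun m => W.left.homOfLE hle ≫ m)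
      (morphismRestrict_ι (W.hom ≫ i) U)).trans ((W.left.homOfLE_ι_assoc hle _).trans
        (Category.assoc _ _ _).symm))
  let a₀ : Scheme.ProEt.mk (W₀.ι ≫ W.hom) ⟶ (_root_.ProEtS.bcP i).obj V₀ :=
    MorphismProperty.Over.homMk (pullback.lift l (W₀.ι ≫ W.hom) w) (pullback.lift_snd _ _ _)
  refine ⟨W₀, V₀, a₀, hW₀, hx, hU, fun V' g k _ => ?_⟩
  let j : Scheme.ProEt.mk (W₀.ι ≫ W.hom) ⟶ W := MorphismProperty.Over.homMk W₀.ι
  refine ⟨cls i F (𝟙 _) (F.obj.map (k ≫ j).op s), ?_⟩
  rw [cu_cls, ← EpsElem.map_comp_apply, Category.id_comp]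

theorem W_cu : (Scheme.ProEt.topology Z).W (cu i F) := by
  haveI := isLocallyInjective i F
  haveI := isLocallySurjective i F
  exact (Scheme.ProEt.topology Z).W_of_isLocallyBijective _

theorem counit_eq {C : Type*} [Category* C] {D : Type*} [Category* D] (G : C ⥤ D) (A : Type*) [Category* A]
    (J : GrothendieckTopology C) (K : GrothendieckTopology D) [G.IsContinuous J K]
    [∀ F : Cᵒᵖ ⥤ A, G.op.HasLeftKanExtension F] [HasWeakSheafify K A] (F : Sheaf K A) :
    (Functor.sheafPullbackConstruction.sheafAdjunctionContinuous G A J K).counit.app F =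
      (presheafToSheaf K A).map ((G.op.lanAdjunction A).counit.app F.obj) ≫
        (sheafificationAdjunction K A).counit.app F := by
  simp [Functor.sheafPullbackConstruction.sheafAdjunctionContinuous, Adjunction.restrictFullyFaithful,
    Adjunction.comp_counit_app, Adjunction.homEquiv_counit]
  dsimp [Functor.FullyFaithful.homEquiv, Functor.FullyFaithful.id, fullyFaithfulSheafToPresheaf]
  refine (Category.id_comp _).trans ((Adjunction.homEquiv_counit _ _ _ _).trans ?_)
  rw [Adjunction.comp_counit_app]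
  refine (congrArg (fun m => m ≫ ((presheafToSheaf K A).map ((G.op.lanAdjunction A).counit.app F.obj) ≫
    (sheafificationAdjunction K A).counit.app F)) ?_).trans (Category.id_comp _)
  exact (congrArg (fun m => (G.op.lan ⋙ presheafToSheaf K A).map m) (Category.id_comp _)).trans
    ((G.op.lan ⋙ presheafToSheaf K A).map_id _)

set_option backward.isDefEq.respectTransparency.types false in
theorem isIso_counit [_root_.ProEtS.PCont i] :
    IsIso ((_root_.ProEtS.pullPushAdjP i).counit.app F) := by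
  let B := _root_.ProEtS.bcP i
  let J := Scheme.ProEt.topology Z
  let adj' := Functor.sheafPullbackConstruction.sheafAdjunctionContinuous B AddCommGrpCat.{u + 1}
    (Scheme.ProEt.topology X) J
  have hM : IsIso ((presheafToSheaf J AddCommGrpCat.{u + 1}).map (cu i F)) :=
    ((J.W_iff _).1 (W_cu i F) :)
  haveI : IsIso (adj'.counit.app F) := by
    have h : adj'.counit.app F = (presheafToSheaf J AddCommGrpCat.{u + 1}).map (cu i F) ≫
        (sheafificationAdjunction J AddCommGrpCat.{u + 1}).counit.app F :=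
      counit_eq B AddCommGrpCat.{u + 1} (Scheme.ProEt.topology X) J F
    haveI hh : IsIso ((sheafificationAdjunction J AddCommGrpCat.{u + 1}).counit.app F) := inferInstance
    rw [h]
    exact IsIso.comp_isIso' hM hh
  have h2 := Adjunction.leftAdjointUniq_hom_app_counit (_root_.ProEtS.pullPushAdjP i) adj' F
  rw [← h2]
  infer_instance

end Groth.Agent.ProEtS.ClosedCounit
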