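import Groth.Agent.ProEtS.Affine
import Groth.Agent.ProEtS.EpsElem
import Groth.Agent.ProEtS.Site
import Groth.Agent.ProEtW.WEFactor
import Groth.Agent.S0755
import Mathlib.AlgebraicGeometry.Morphisms.ClosedImmersion

/-!
# Objects over a closed subscheme are covered by restrictions of objects of the ambient scheme
-/

set_option autoImplicit false

universe u

open CategoryTheory CategoryTheory.Limits AlgebraicGeometry Opposite

namespace Groth.Agent.ProEtS.ClosedLift

theorem isPushout_of_surjective {A B C D : CommRingCat.{u}} (ι : A ⟶ C) (π : A ⟶ B) (q : C ⟶ D)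
    (m : B ⟶ D) (w : ι ≫ q = π ≫ m) (hπ : Function.Surjective π) (hq : Function.Surjective q)
    (hk : RingHom.ker q.hom ≤ (RingHom.ker π.hom).map ι.hom) : IsPushout ι π q m := by
  refine ⟨⟨w⟩, ⟨PushoutCocone.isColimitAux' _ fun s => ?_⟩⟩
  have hker : RingHom.ker q.hom ≤ RingHom.ker s.inl.hom := hk.trans (Ideal.map_le_iff_le_comap.2
    fun a ha => by
      show s.inl.hom (ι.hom a) = 0
      rw [show s.inl.hom (ι.hom a) = s.inr.hom (π.hom a) from
        congrArg (fun f : A ⟶ s.pt => f.hom a) s.condition, RingHom.mem_ker.1 ha, map_zero])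
  let l : D ⟶ s.pt := CommRingCat.ofHom (q.hom.liftOfSurjective hq ⟨s.inl.hom, hker⟩)
  have hl : q ≫ l = s.inl := CommRingCat.hom_ext (RingHom.liftOfSurjective_comp q.hom hq _)
  refine ⟨l, hl, ?_, fun {m'} h1 _ => ?_⟩
  · haveI : Epi π := ConcreteCategory.epi_of_surjective _ hπ
    rw [← cancel_epi π, ← s.condition, ← hl]
    exact ((Category.assoc _ _ _).symm.trans ((congrArg (· ≫ l) w.symm).trans (Category.assoc _ _ _)) :)
  · haveI : Epi q := ConcreteCategory.epi_of_surjective _ hq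
    exact (cancel_epi q).1 (h1.trans hl.symm)

/-- Weakly étale algebras over a quotient lift after a faithfully flat extension. -/
theorem exists_lift {A B R : Type u} [CommRing A] [CommRing B] [CommRing R] (π : A →+* B)
    (hπ : Function.Surjective π) [Algebra B R] [Algebra.WeaklyEtale B R] :
    ∃ (C D : Type u) (_ : CommRing C) (_ : CommRing D) (_ : Algebra A C) (_ : Algebra R D)
      (q : C →+* D), Module.FaithfullyFlat R D ∧ Algebra.WeaklyEtale R D ∧
        Algebra.WeaklyEtale A C ∧ Function.Surjective q ∧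
        RingHom.ker q ≤ (RingHom.ker π).map (algebraMap A C) ∧
        ∀ a, q (algebraMap A C a) = algebraMap R D (algebraMap B R (π a)) := by
  obtain ⟨D, _, _, _, _, hff, hwe, hfac⟩ := Groth.Agent.ProEtW.WEFactor.exists_ff_indEtale B R
  let e := RingHom.quotientKerEquivOfSurjective hπ
  let : Algebra (A ⧸ RingHom.ker π) B := e.toRingHom.toAlgebra
  let : Algebra (A ⧸ RingHom.ker π) D := ((algebraMap B D).comp e.toRingHom).toAlgebra
  haveI : IsScalarTower (A ⧸ RingHom.ker π) B D := .of_algebraMap_eq' rfl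
  haveI : Algebra.Etale (A ⧸ RingHom.ker π) B :=
    Algebra.Etale.of_equiv (A := A ⧸ RingHom.ker π)
      (AlgEquiv.ofRingEquiv (f := e) fun _ => rfl)
  have hD : EtPBC.IsIndEtale (A ⧸ RingHom.ker π) D := Groth.Agent.IndAlg.Etale.isInd_of_fac
    (Groth.Agent.IndAlg.Etale.fac_trans (Groth.Agent.IndAlg.fac_self ‹_›) hfac)
  obtain ⟨C, _, _, hC, ⟨eC⟩⟩ := Groth.Agent.S0755.result A (RingHom.ker π) D hD
  refine ⟨C, D, inferInstance, inferInstance, inferInstance, inferInstance,
    eC.toRingEquiv.toRingHom.comp (Ideal.Quotient.mk _), hff, hwe,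
    Groth.Agent.IndAlg.Etale.weaklyEtale (Groth.Agent.IndAlg.fac_of_isInd hC),
    eC.surjective.comp Ideal.Quotient.mk_surjective, fun x hx => ?_, fun a => ?_⟩
  · exact Ideal.Quotient.eq_zero_iff_mem.1 (eC.injective ((RingHom.mem_ker.1 hx).trans (map_zero eC).symm))
  · show eC (algebraMap (A ⧸ RingHom.ker π) (C ⧸ (RingHom.ker π).map (algebraMap A C))
      (Ideal.Quotient.mk _ a)) = _
    rw [eC.commutes]
    show algebraMap B D (e (Ideal.Quotient.mk _ a)) = _
    rw [IsScalarTower.algebraMap_apply B R D]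
    rfl

variable {Z X : Scheme.{u}} (i : Z ⟶ X) [IsClosedImmersion i]

set_option backward.isDefEq.respectTransparency.types false in
/-- Affine objects over the closed subscheme are covered by restrictions. -/
theorem exists_cover (V : X.ProEt) [IsAffine V.left] (W : Z.ProEt) [IsAffine W.left]
    (a : W ⟶ (_root_.ProEtS.bcP i).obj V) :
    ∃ (V' : X.ProEt) (g : V' ⟶ V) (h : (_root_.ProEtS.bcP i).obj V' ⟶ W),
      h ≫ a = (_root_.ProEtS.bcP i).map g ∧ IsAffine ((_root_.ProEtS.bcP i).obj V').left ∧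
        Surjective h.left := by
  let Y := ((_root_.ProEtS.bcP i).obj V).left
  let p : Y ⟶ V.left := pullback.fst V.hom i
  haveI : IsClosedImmersion p := MorphismProperty.pullback_fst _ _ ‹IsClosedImmersion i›
  obtain ⟨hY, hπ⟩ := (HasAffineProperty.iff_of_isAffine (P := @IsClosedImmersion) (f := p)).1 ‹_›
  haveI : IsAffine Y := hY
  let a₀ : W.left ⟶ Y := a.left
  let : Algebra ↥Γ(Y, ⊤) ↥Γ(W.left, ⊤) := a₀.appTop.hom.toAlgebra
  haveI : Algebra.WeaklyEtale ↥Γ(Y, ⊤) ↥Γ(W.left, ⊤) := by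
    haveI : WeaklyEtale a₀ := EpsElem.weaklyEtale_left a
    exact (Affine.weaklyEtale_SpecMap_iff _ _).1
      ((MorphismProperty.arrow_mk_iso_iff @WeaklyEtale (arrowIsoSpecΓOfIsAffine a₀)).1 ‹_›)
  obtain ⟨C, D, _, _, _, _, q, hff, hwD, hwC, hq, hk, hcomm⟩ :=
    exists_lift (R := ↥Γ(W.left, ⊤)) p.appTop.hom hπ
  let g₀ : Spec (.of C) ⟶ V.left := Spec.map (CommRingCat.ofHom (algebraMap ↥Γ(V.left, ⊤) C)) ≫ V.left.isoSpec.inv
  let h₀ : Spec (.of D) ⟶ W.left := Spec.map (CommRingCat.ofHom (algebraMap ↥Γ(W.left, ⊤) D)) ≫ W.left.isoSpec.inv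
  haveI : WeaklyEtale (Spec.map (CommRingCat.ofHom (algebraMap ↥Γ(V.left, ⊤) C))) :=
    (Affine.weaklyEtale_SpecMap_iff _ _).2 hwC
  haveI : WeaklyEtale g₀ := inferInstanceAs (WeaklyEtale (_ ≫ _))
  haveI : Surjective (Spec.map (CommRingCat.ofHom (algebraMap ↥Γ(W.left, ⊤) D))) :=
    ⟨PrimeSpectrum.comap_surjective_of_faithfullyFlat (A := ↥Γ(W.left, ⊤)) (B := D)⟩
  haveI : Surjective h₀ := inferInstanceAs (Surjective (_ ≫ _))
  haveI : WeaklyEtale V.hom := V.prop
  let V' : X.ProEt := Scheme.ProEt.mk (g₀ ≫ V.hom)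
  let g : V' ⟶ V := MorphismProperty.Over.homMk g₀
  have sq : IsPullback (Spec.map (CommRingCat.ofHom q)) (h₀ ≫ a₀) g₀ p := by
    have hpo := isPullback_SpecMap_of_isPushout _ _ _ _ (isPushout_of_surjective
      (CommRingCat.ofHom (algebraMap ↥Γ(V.left, ⊤) C)) p.appTop (CommRingCat.ofHom q)
      (a₀.appTop ≫ CommRingCat.ofHom (algebraMap ↥Γ(W.left, ⊤) D)) (CommRingCat.hom_ext (RingHom.ext hcomm)) hπ hq hk)
    refine hpo.of_iso (Iso.refl _) (Iso.refl _) Y.isoSpec.symm V.left.isoSpec.symm (by simp) ?_ (by simp [g₀]) ?_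
    · simp only [Iso.refl_hom, Category.id_comp, Iso.symm_hom, Spec.map_comp, h₀, Category.assoc,
        Scheme.isoSpec_inv_naturality]
    · simp only [Iso.symm_hom, Scheme.isoSpec_inv_naturality]
  have sq' : IsPullback (Spec.map (CommRingCat.ofHom q)) ((h₀ ≫ a₀) ≫ pullback.snd V.hom i)
      (g₀ ≫ V.hom) i := sq.paste_vert (IsPullback.of_hasPullback V.hom i)
  let e := sq'.isoPullback
  have hW : a₀ ≫ pullback.snd V.hom i = W.hom := Over.w a.hom
  have hsnd : e.inv ≫ h₀ ≫ W.hom = pullback.snd (g₀ ≫ V.hom) i := by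
    rw [← hW, ← Category.assoc h₀, sq'.isoPullback_inv_snd]
  let h : (_root_.ProEtS.bcP i).obj V' ⟶ W :=
    MorphismProperty.Over.homMk (e.inv ≫ h₀) ((Category.assoc _ _ _).trans hsnd :)
  refine ⟨V', g, h, ?_, IsAffine.of_isIso e.inv, inferInstanceAs (Surjective (e.inv ≫ h₀))⟩
  refine MorphismProperty.Over.Hom.ext ?_
  show (e.inv ≫ h₀) ≫ a₀ = ((_root_.ProEtS.bcP i).map g).left
  apply pullback.hom_ext
  · refine Eq.trans ?_ (pullback.lift_fst _ _ _).symm
    exact (((congrArg (· ≫ pullback.fst V.hom i) (Category.assoc e.inv h₀ a₀)).trans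
      (Category.assoc e.inv (h₀ ≫ a₀) _)).trans ((congrArg (e.inv ≫ ·) sq.w.symm).trans
      ((Category.assoc e.inv _ g₀).symm.trans (congrArg (· ≫ g₀) sq'.isoPullback_inv_fst))) :)
  · refine Eq.trans ?_ (pullback.lift_snd _ _ _).symm
    exact ((((Category.assoc (e.inv ≫ h₀) a₀ _).trans (congrArg ((e.inv ≫ h₀) ≫ ·) hW)).trans
      (Category.assoc e.inv h₀ W.hom)).trans hsnd :)

end Groth.Agent.ProEtS.ClosedLift
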