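import Groth.Agent.ProEtS.CovExists
import Groth.Agent.EtaleSite.CechDelta
import Groth.Agent.ProEtS.ExtZero

/-!
# Čech acyclic pro-étale sheaves
-/

set_option autoImplicit false
set_option backward.isDefEq.respectTransparency false

universe u

open CategoryTheory CategoryTheory.Limits AlgebraicGeometry Opposite

noncomputable section

namespace Groth.Agent.ProEtS.CovAcyclic

open Groth.Agent.ProEtS Restr Good CovCech
open Groth.Agent.EtaleSite.CechPre
open Groth.Agent.EtColim.CohColim (IsCompactAcyclic)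

variable {X : Scheme.{u}}

/-- Čech acyclicity on good objects. -/
structure IsAc (G : _root_.ProEtS.AbP X) : Prop where
  etale : ∀ V : X.ProEt, IsGood V → IsCompactAcyclic ((R V).obj G)
  cov : ∀ {V W : X.ProEt} (e : W ⟶ V), Cov e → IsGood V → IsAffine V.left → CechExact e G.obj

theorem isAc_shf (J : EtCoh.Ab X) [Injective J] : IsAc (EpsElem.shf J) where
  etale _ hV := hV.2.2 J ‹_›
  cov _ P hV _ := cechExact_of_injective P hV J

theorem isAc_of_iso {G G' : _root_.ProEtS.AbP X} (i : G ≅ G') (h : IsAc G) : IsAc G' where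
  etale V hV := isCompactAcyclic_of_iso ((R V).mapIso i) (h.etale V hV)
  cov := fun {V W} e P hV haff p x hx => by
    obtain ⟨y, hy⟩ := h.cov e P hV haff p (((cx (fam e)).map i.inv.hom).f (p + 1) x)
      ((ConcreteCategory.congr_hom (((cx (fam e)).map i.inv.hom).comm (p + 1) (p + 1 + 1)) x).trans
        ((congrArg (((cx (fam e)).map i.inv.hom).f (p + 1 + 1)) hx).trans (map_zero _)))
    refine ⟨((cx (fam e)).map i.hom.hom).f p y, ?_⟩
    refine (ConcreteCategory.congr_hom (((cx (fam e)).map i.hom.hom).comm p (p + 1)) y).trans ?_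
    refine (congrArg (((cx (fam e)).map i.hom.hom).f (p + 1)) hy).trans ?_
    rw [← ConcreteCategory.comp_apply, ← HomologicalComplex.comp_f, ← Functor.map_comp]
    have h' : i.inv.hom ≫ i.hom.hom = 𝟙 G'.obj := congrArg (fun m => m.hom) i.inv_hom_id
    rw [h', CategoryTheory.Functor.map_id]
    rfl

theorem exact_of_injective {C : Type (u + 1)} [Category.{u} C] [HasPullbacks C] {U : C}
    [HasFiniteProducts (Over U)] {ι : Type (u + 1)} (Uf : ι → Over U)
    (P : Cᵒᵖ ⥤ AddCommGrpCat.{u + 1}) [Injective P] (p : ℕ)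
    (x : (EtCech.cechComplex Uf P).X (p + 1))
    (hx : (EtCech.cechComplex Uf P).d (p + 1) (p + 1 + 1) x = 0) :
    ∃ y, (EtCech.cechComplex Uf P).d p (p + 1) y = x := by
  have h := (HomologicalComplex.exactAt_iff_isZero_homology _ _).2
    (isZero_cechH_injective Uf P p)
  rw [HomologicalComplex.exactAt_iff' _ p (p + 1) (p + 1 + 1) (by simp) (by simp),
    ShortComplex.ab_exact_iff] at h
  exact h x hx

theorem isAc_of_injective (J : _root_.ProEtS.AbP X) [Injective J] : IsAc J := by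
  haveI : Injective J.obj := Injective.injective_of_adjoint
    (sheafificationAdjunction (Scheme.ProEt.topology X) AddCommGrpCat.{u + 1}) J
  refine ⟨fun V _ => ?_, fun {V W} e _ _ _ p x hx => exact_of_injective (fam e) J.obj p x hx⟩
  intro U _ _ ι _ Uf _ _ _ p x hx
  obtain ⟨E⟩ := nonempty_cechComplex_iso (T V) Uf J.obj
  obtain ⟨y, hy⟩ := exact_of_injective (postFam (T V) Uf) J.obj p (E.inv.f (p + 1) x)
    ((ConcreteCategory.congr_hom (E.inv.comm (p + 1) (p + 1 + 1)) x).trans
      ((congrArg (E.inv.f (p + 1 + 1)) hx).trans (map_zero _)))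
  refine ⟨E.hom.f p y, ?_⟩
  refine (ConcreteCategory.congr_hom (E.hom.comm p (p + 1)) y).trans ?_
  refine (congrArg (E.hom.f (p + 1)) hy).trans ?_
  exact ConcreteCategory.congr_hom
    ((HomologicalComplex.eval _ _ (p + 1)).mapIso E).inv_hom_id x

/-- A covering of affine schemes given by a single map. -/
theorem mem_singleton {V W : X.ProEt} (e : W ⟶ V) [IsAffine V.left] [IsAffine W.left]
    [Surjective e.left] :
    Sieve.ofArrows (fun _ : Unit => W) (fun _ => e) ∈ Scheme.ProEt.topology X V :=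
  Site.generate_mem _ _ (ExtZero.mem_of_finite_affine (ι := Unit) (fun _ => e.left)
    (fun _ => EpsElem.weaklyEtale_left e)
    (fun v => ⟨(), e.left.surjective v⟩))

theorem isAffine_src {V W : X.ProEt} {e : W ⟶ V} (P : Cov e) : IsAffine W.left := by
  obtain ⟨hc⟩ := P.hc
  haveI : ∀ i, IsAffine (((P.D ⋙ T V) ⋙ toSch X).obj i) := fun i => P.affine i
  exact Scheme.isAffine_of_isLimit _ hc

section Quotient

variable {S : ShortComplex (_root_.ProEtS.AbP X)} (hS : S.ShortExact)

include hS in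
lemma injective_app (W : X.ProEt) : Function.Injective (S.f.hom.app (op W)) := by
  have := hS.mono_f
  haveI : Mono S.f.hom :=
    (sheafToPresheaf (Scheme.ProEt.topology X) AddCommGrpCat.{u + 1}).map_mono S.f
  exact (AddCommGrpCat.mono_iff_injective _).1
    (((evaluation _ AddCommGrpCat.{u + 1}).obj (op W)).map_mono S.f.hom)

include hS in
lemma exact_app (W : X.ProEt) (x : _root_.ProEtS.sectP S.X₂ W) (hx : S.g.hom.app (op W) x = 0) :
    ∃ y, S.f.hom.app (op W) y = x := by
  have hmono : Mono ((sheafToPresheaf (Scheme.ProEt.topology X) AddCommGrpCat.{u + 1}).map S.f) :=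
    have := hS.mono_f
    (sheafToPresheaf (Scheme.ProEt.topology X) AddCommGrpCat.{u + 1}).map_mono S.f
  exact (ShortComplex.ab_exact_iff _).1
    ((hS.exact.map_of_mono_of_preservesKernel (sheafToPresheaf (Scheme.ProEt.topology X) _) hS.mono_f
      inferInstance).map_of_mono_of_preservesKernel ((evaluation _ AddCommGrpCat.{u + 1}).obj (op W))
        hmono inferInstance) x hx

include hS in
/-- Sections over good affine objects lift along a quotient of an acyclic subsheaf. -/
theorem surjective_affine (h₁ : IsAc S.X₁) (V : X.ProEt) [IsAffine V.left] (hV : IsGood V) :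
    Function.Surjective (S.g.hom.app (op V)) := by
  intro s
  haveI := hS.epi_g
  obtain ⟨W, e, P, t, hW, ht⟩ := CovExists.exists_lift S.g V s
  haveI := hW
  haveI := P.surjective
  let c₀ : (EtCech.cechComplex (fam e) S.X₂.obj).X 0 :=
    mk (fam e) S.X₂.obj fun a => S.X₂.obj.map (π (fam e) a 0).op t
  have hd : ∀ b : Fin 2 → PUnit.{u + 2}, ∃ z, S.f.hom.app (op (obj (fam e) b)) z =
      comp (fam e) S.X₂.obj b ((EtCech.cechComplex (fam e) S.X₂.obj).d 0 (0 + 1) c₀) := by
    intro b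
    refine exact_app hS _ _ ?_
    have hk : ∀ k : Fin 2, S.g.hom.app (op (obj (fam e) b))
        (S.X₂.obj.map (face (fam e) b k).op (comp (fam e) S.X₂.obj (b ∘ k.succAbove) c₀)) =
          S.X₃.obj.map (∏ᶜ (fam e ∘ b)).hom.op s := fun k => by
      rw [comp_mk, ← EpsElem.map_comp_apply, face_π, NatTrans.naturality_apply]
      refine (congrArg (S.X₃.obj.map (π (fam e) b (k.succAbove 0)).op) ht).trans ?_
      exact (EpsElem.map_comp_apply S.X₃.obj _ e s).symm.trans
        (congrArg (fun q : obj (fam e) b ⟶ V => S.X₃.obj.map q.op s) (π_hom (fam e) b _))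
    rw [comp_d_apply, Fin.sum_univ_two]
    simp only [map_add, map_zsmul, hk]
    simp
  choose z hz using hd
  let zc : (EtCech.cechComplex (fam e) S.X₁.obj).X (0 + 1) := mk (fam e) S.X₁.obj z
  let χ : EtCech.cechComplex (fam e) S.X₁.obj ⟶ EtCech.cechComplex (fam e) S.X₂.obj :=
    (cx (fam e)).map S.f.hom
  have hχ : ∀ {n : ℕ} (a : Fin (n + 1) → PUnit.{u + 2}) (c : (EtCech.cechComplex (fam e) S.X₁.obj).X n),
      comp (fam e) S.X₂.obj a (χ.f n c) = S.f.hom.app (op (obj (fam e) a)) (comp (fam e) S.X₁.obj a c) :=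
    fun a c => EtaleSite.CechPre.comp_map (fam e) S.f.hom a c
  have hχd : ∀ (m n : ℕ) c, χ.f n ((EtCech.cechComplex (fam e) S.X₁.obj).d m n c) =
      (EtCech.cechComplex (fam e) S.X₂.obj).d m n (χ.f m c) := fun m n c =>
    (ConcreteCategory.congr_hom (χ.comm m n) c).symm
  have hfz : χ.f (0 + 1) zc = (EtCech.cechComplex (fam e) S.X₂.obj).d 0 (0 + 1) c₀ :=
    comp_ext _ _ fun b => by rw [hχ, comp_mk, hz]
  have hinj : ∀ m, Function.Injective (χ.f m) := fun m x y h => comp_ext _ _ fun a =>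
    injective_app hS _ ((hχ a x).symm.trans ((congrArg (comp (fam e) _ a) h).trans (hχ a y)))
  obtain ⟨y, hy⟩ := h₁.cov e P hV inferInstance 0 zc (hinj _ (by
    rw [hχd, hfz, map_zero]
    exact ConcreteCategory.congr_hom
      ((EtCech.cechComplex (fam e) S.X₂.obj).d_comp_d 0 (0 + 1) (0 + 1 + 1)) c₀))
  let c' : (EtCech.cechComplex (fam e) S.X₂.obj).X 0 := c₀ - χ.f 0 y
  have hc' : (EtCech.cechComplex (fam e) S.X₂.obj).d 0 (0 + 1) c' = 0 := by
    rw [map_sub, sub_eq_zero, ← hχd, hy, hfz]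
  let a₀ : Fin 1 → PUnit.{u + 2} := fun _ => ⟨⟩
  obtain ⟨σ, hσ⟩ := Pow.exists_lift (fam e) a₀ (S := W) (fun _ => 𝟙 W) (fun _ => rfl)
  let t' : _root_.ProEtS.sectP S.X₂ W := S.X₂.obj.map σ.op (comp (fam e) S.X₂.obj a₀ c')
  have key : ∀ {Z : X.ProEt} (l : Z ⟶ obj (fam e) a₀),
      S.X₂.obj.map l.op (comp (fam e) S.X₂.obj a₀ c') =
        S.X₂.obj.map (l ≫ π (fam e) a₀ 0).op t' := by
    intro Z l
    have hl : l = (l ≫ π (fam e) a₀ 0) ≫ σ := hom_ext (fam e) fun j => by
      obtain rfl : j = 0 := Subsingleton.elim (α := Fin 1) _ _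
      exact ((Category.assoc _ _ _).trans ((congrArg (_ ≫ ·) (hσ 0)).trans (Category.comp_id _))).symm
    exact (congrArg (fun q : Z ⟶ obj (fam e) a₀ => S.X₂.obj.map q.op _) hl).trans
      (EpsElem.map_comp_apply _ _ σ _)
  have hsh := ((isSheaf_iff_isSheaf_of_type _ _).1
    ((sheafCompose (Scheme.ProEt.topology X) (forget AddCommGrpCat.{u + 1})).obj S.X₂).property)
    _ (mem_singleton e)
  rw [← Presieve.isSheafFor_iff_generate, Presieve.isSheafFor_arrows_iff] at hsh
  obtain ⟨r, hr, -⟩ := hsh (fun _ : Unit => t') fun _ _ Z g₁ g₂ hg => by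
    let b : Fin 2 → PUnit.{u + 2} := fun _ => ⟨⟩
    obtain ⟨ω, hω⟩ := Pow.exists_lift (fam e) b (S := Z) (Fin.cases g₁ (fun _ => g₂))
      (Fin.cases rfl (fun _ => hg.symm))
    show S.X₂.obj.map g₁.op t' = S.X₂.obj.map g₂.op t'
    have h0 := key (ω ≫ face (fam e) b 1)
    have h1 := key (ω ≫ face (fam e) b 0)
    have e0 : (ω ≫ face (fam e) b 1) ≫ π (fam e) a₀ 0 = g₁ :=
      (Category.assoc _ _ _).trans ((congrArg (ω ≫ ·) (face_π (fam e) b 1 0)).trans (hω _))
    have e1 : (ω ≫ face (fam e) b 0) ≫ π (fam e) a₀ 0 = g₂ :=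
      (Category.assoc _ _ _).trans ((congrArg (ω ≫ ·) (face_π (fam e) b 0 0)).trans (hω _))
    rw [e0] at h0
    rw [e1] at h1
    refine h0.symm.trans (Eq.trans ?_ h1)
    rw [EpsElem.map_comp_apply, EpsElem.map_comp_apply]
    have h2 := congrArg (comp (fam e) S.X₂.obj b) hc'
    rw [comp_d_apply, Fin.sum_univ_two, map_zero] at h2
    simp only [Fin.val_zero, pow_zero, one_smul, Fin.val_one, pow_one, neg_smul,
      add_neg_eq_zero] at h2
    exact congrArg (S.X₂.obj.map ω.op) h2.symm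
  refine ⟨r, sub_eq_zero.1 (EpsElem.eq_zero_of_sieve S.X₃ _ _ (mem_singleton e) ?_)⟩
  rintro B f ⟨_, k, _, ⟨⟩, rfl⟩
  rw [EpsElem.map_comp_apply, map_sub, ← NatTrans.naturality_apply,
    show S.X₂.obj.map e.op r = t' from hr ()]
  have h0 : S.g.hom.app (op (obj (fam e) a₀))
      (S.f.hom.app (op (obj (fam e) a₀)) (comp (fam e) S.X₁.obj a₀ y)) = 0 := by
    show (S.f ≫ S.g).hom.app _ _ = _
    rw [S.zero]
    rfl
  have ht' : S.g.hom.app (op W) t' = S.X₃.obj.map e.op s := by
    refine (NatTrans.naturality_apply S.g.hom σ.op (comp (fam e) S.X₂.obj a₀ c')).trans ?_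
    rw [map_sub, hχ, map_sub, h0, sub_zero, comp_mk, NatTrans.naturality_apply]
    refine (congrArg (fun q => S.X₃.obj.map σ.op (S.X₃.obj.map (π (fam e) a₀ 0).op q)) ht).trans ?_
    exact (EpsElem.map_comp_apply S.X₃.obj σ (π (fam e) a₀ 0) _).symm.trans
      ((congrArg (fun q : W ⟶ W => S.X₃.obj.map q.op (S.X₃.obj.map e.op s)) (hσ 0)).trans
        (by rw [op_id, CategoryTheory.Functor.map_id]; rfl))
  rw [ht', sub_self, map_zero]

instance (V : X.ProEt) : (R V).IsRightAdjoint :=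
  ((T V).sheafAdjunctionContinuous AddCommGrpCat.{u + 1} V.left.smallEtaleTopology
    (Scheme.ProEt.topology X)).isRightAdjoint

instance (V : X.ProEt) : (R V).Additive where

include hS in
theorem shortExact_R (h₁ : IsAc S.X₁) (V : X.ProEt) (hV : IsGood V) :
    (S.map (R V)).ShortExact := by
  haveI := hS.mono_f
  have hm : Mono ((R V).map S.f) := inferInstance
  have he : Epi ((R V).map S.g) := by
    refine (Sheaf.isLocallySurjective_iff_epi' AddCommGrpCat.{u + 1} ((R V).map S.g)).1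
      ⟨fun {U} s => EtaleSite.mem_topology_of_forall_exists _ fun x => ?_⟩
    obtain ⟨A, hA, hxA, -⟩ := exists_isAffineOpen_mem_and_subset (X := U.left) (x := x) (U := ⊤) trivial
    have : Etale U.hom := U.prop
    let U' : V.left.Etale := Scheme.Etale.mk (A.ι ≫ U.hom)
    let i : U' ⟶ U := MorphismProperty.Over.homMk A.ι rfl trivial
    haveI : IsAffine U'.left := hA
    haveI : IsAffine ((T V).obj U').left := hA
    obtain ⟨t, ht⟩ := surjective_affine hS h₁ ((T V).obj U') (isGood_T hV U')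
      (((R V).obj S.X₃).obj.map i.op s)
    exact ⟨U', i, ⟨x, hxA⟩, ⟨t, ht⟩, rfl⟩
  exact { exact := hS.exact.map_of_mono_of_preservesKernel (R V) hS.mono_f inferInstance
          mono_f := hm
          epi_g := he }

include hS in
/-- Sections over good objects lift along a quotient of an acyclic subsheaf. -/
theorem surjective_good (h₁ : IsAc S.X₁) (V : X.ProEt) (hV : IsGood V) :
    Function.Surjective (S.g.hom.app (op V)) := by
  intro s
  haveI : CompactSpace ↥(EtCoh.top V.left).left := hV.1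
  haveI : QuasiSeparatedSpace ↥(EtCoh.top V.left).left := hV.2.1
  let i : V ≅ (T V).obj (EtCoh.top V.left) := MorphismProperty.Over.isoMk (Iso.refl V.left)
    ((Category.id_comp _).trans (Category.id_comp _).symm)
  obtain ⟨t, ht⟩ := EtColim.CohColim.surjective_sections (shortExact_R hS h₁ V hV)
    (h₁.etale V hV) (EtCoh.top V.left) (S.X₃.obj.map i.inv.op s)
  refine ⟨S.X₂.obj.map i.hom.op t, ?_⟩
  rw [NatTrans.naturality_apply]
  refine (congrArg (S.X₃.obj.map i.hom.op) ht).trans ?_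
  rw [← EpsElem.map_comp_apply, i.hom_inv_id, op_id, CategoryTheory.Functor.map_id]
  rfl

include hS in
set_option maxHeartbeats 1000000 in
/-- Quotients of acyclic sheaves are acyclic. -/
theorem isAc_quotient (h₁ : IsAc S.X₁) (h₂ : IsAc S.X₂) : IsAc S.X₃ := by
  refine ⟨fun V hV => EtColim.CohColim.IsCompactAcyclic.quotient (shortExact_R hS h₁ V hV)
    (h₁.etale V hV) (h₂.etale V hV), fun {V W} e P hV haff p x hx => ?_⟩
  haveI := haff
  haveI := isAffine_src P
  let χ : EtCech.cechComplex (fam e) S.X₁.obj ⟶ EtCech.cechComplex (fam e) S.X₂.obj :=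
    (cx (fam e)).map S.f.hom
  let ψ : EtCech.cechComplex (fam e) S.X₂.obj ⟶ EtCech.cechComplex (fam e) S.X₃.obj :=
    (cx (fam e)).map S.g.hom
  have hs : ∀ a : Fin (p + 1 + 1) → PUnit.{u + 2}, ∃ t,
      S.g.hom.app (op (obj (fam e) a)) t = comp (fam e) S.X₃.obj a x := fun a => by
    haveI : IsAffine (obj (fam e) a).left := Cov.isAffine_obj (e := e) a
    exact surjective_affine hS h₁ (obj (fam e) a) (P.isGood_obj a hV) _
  choose t ht using hs
  let b : (EtCech.cechComplex (fam e) S.X₂.obj).X (p + 1) := mk (fam e) _ t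
  have hcψ : ∀ {n : ℕ} (a : Fin (n + 1) → PUnit.{u + 2}) (c : (EtCech.cechComplex (fam e) S.X₂.obj).X n),
      comp (fam e) S.X₃.obj a (ψ.f n c) = S.g.hom.app (op (obj (fam e) a)) (comp (fam e) S.X₂.obj a c) :=
    fun a c => EtaleSite.CechPre.comp_map (fam e) S.g.hom a c
  have hcχ : ∀ {n : ℕ} (a : Fin (n + 1) → PUnit.{u + 2}) (c : (EtCech.cechComplex (fam e) S.X₁.obj).X n),
      comp (fam e) S.X₂.obj a (χ.f n c) = S.f.hom.app (op (obj (fam e) a)) (comp (fam e) S.X₁.obj a c) :=
    fun a c => EtaleSite.CechPre.comp_map (fam e) S.f.hom a c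
  have hψd : ∀ (m n : ℕ) c, ψ.f n ((EtCech.cechComplex (fam e) S.X₂.obj).d m n c) =
      (EtCech.cechComplex (fam e) S.X₃.obj).d m n (ψ.f m c) := fun m n c =>
    (ConcreteCategory.congr_hom (ψ.comm m n) c).symm
  have hχd : ∀ (m n : ℕ) c, χ.f n ((EtCech.cechComplex (fam e) S.X₁.obj).d m n c) =
      (EtCech.cechComplex (fam e) S.X₂.obj).d m n (χ.f m c) := fun m n c =>
    (ConcreteCategory.congr_hom (χ.comm m n) c).symm
  have hb : ψ.f (p + 1) b = x := comp_ext _ _ fun a => by rw [hcψ, comp_mk, ht]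
  have hz : ∀ a, ∃ z, S.f.hom.app (op (obj (fam e) a)) z =
      comp (fam e) S.X₂.obj a ((EtCech.cechComplex (fam e) S.X₂.obj).d (p + 1) (p + 1 + 1) b) :=
    fun a => by
      refine exact_app hS _ _ ?_
      rw [← hcψ, hψd, hb, hx, map_zero]
  choose z hz using hz
  let a₁ : (EtCech.cechComplex (fam e) S.X₁.obj).X (p + 1 + 1) := mk (fam e) _ z
  have ha₁ : χ.f _ a₁ = (EtCech.cechComplex (fam e) S.X₂.obj).d (p + 1) (p + 1 + 1) b :=
    comp_ext _ _ fun a => by rw [hcχ, comp_mk, hz]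
  have hinj : ∀ m, Function.Injective (χ.f m) := fun m x y h => comp_ext _ _ fun a =>
    injective_app hS _ ((hcχ a x).symm.trans ((congrArg (comp (fam e) _ a) h).trans (hcχ a y)))
  obtain ⟨a₀, ha₀⟩ := h₁.cov e P hV haff (p + 1) a₁ (hinj _ (by
    rw [hχd, ha₁, map_zero]
    exact ConcreteCategory.congr_hom
      ((EtCech.cechComplex (fam e) S.X₂.obj).d_comp_d (p + 1) (p + 1 + 1) (p + 1 + 1 + 1)) b))
  obtain ⟨c, hc⟩ := h₂.cov e P hV haff p (b - χ.f (p + 1) a₀) (by
    rw [map_sub, sub_eq_zero, ← hχd, ha₀, ha₁])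
  refine ⟨ψ.f p c, ?_⟩
  rw [← hψd, hc, map_sub, hb, sub_eq_self]
  refine comp_ext _ _ fun a => ?_
  rw [hcψ, hcχ, map_zero]
  show (S.f ≫ S.g).hom.app _ _ = _
  rw [S.zero]
  rfl

end Quotient

end Groth.Agent.ProEtS.CovAcyclic
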