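import Groth.Agent.EtaleSite.CechTransport
import Mathlib.AlgebraicGeometry.Limits
import Mathlib.AlgebraicGeometry.Morphisms.Affine

/-!
# Iterated fibre products: universal property in schemes and compatibility with limits
-/

set_option autoImplicit false
set_option backward.isDefEq.respectTransparency false

universe w v v' u u'

open CategoryTheory CategoryTheory.Limits AlgebraicGeometry Opposite

noncomputable section

namespace Groth.Agent.ProEtS.Pow

open Groth.Agent.EtaleSite.CechPre

variable {C : Type u} [Category.{v} C] {U : C} [HasFiniteProducts (Over U)] {ι : Type w}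
  (Uf : ι → Over U) {n : ℕ} (a : Fin (n + 1) → ι)

theorem exists_lift {S : C} (L : ∀ k, S ⟶ (Uf (a k)).left)
    (hL : ∀ k, L k ≫ (Uf (a k)).hom = L 0 ≫ (Uf (a 0)).hom) :
    ∃ l : S ⟶ obj Uf a, ∀ k, l ≫ π Uf a k = L k := by
  let t : Tup Uf S n := ⟨fun k => ⟨a k, L k⟩, hL⟩
  exact ⟨toObj Uf t, fun k => toObj_π Uf t k⟩

theorem isAffine_obj {B : Scheme.{u}} [IsAffine B] {κ : Type w} (Vf : κ → Over B)
    [∀ i, IsAffine (Vf i).left] {m : ℕ} (b : Fin (m + 1) → κ) : IsAffine (obj Vf b) := by
  let D : WidePullbackShape (Fin (m + 1)) ⥤ Scheme.{u} :=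
    WidePullbackShape.wideCospan B (fun k => (Vf (b k)).left) (fun k => (Vf (b k)).hom)
  haveI : ∀ i, IsAffine (D.obj i) := fun i => by
    cases i with
    | none => exact inferInstanceAs (IsAffine B)
    | some k => exact inferInstanceAs (IsAffine (Vf (b k)).left)
  let c : Cone D := WidePullbackShape.mkCone (∏ᶜ (Vf ∘ b)).hom (fun k => π Vf b k)
    (fun k => π_hom Vf b k)
  have hs : ∀ s : Cone D, ∃ l : s.pt ⟶ c.pt, ∀ k : Fin (m + 1),
      l ≫ π Vf b k = s.π.app (some k) := fun s =>
    exists_lift Vf b (fun k => s.π.app (some k)) (fun k =>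
      (s.w (WidePullbackShape.Hom.term k)).trans (s.w (WidePullbackShape.Hom.term 0)).symm)
  choose l hl using hs
  refine Scheme.isAffine_of_isLimit c { lift := l, fac := fun s j => ?_, uniq := fun s m hm => ?_ }
  · cases j with
    | none =>
      rw [← s.w (WidePullbackShape.Hom.term (0 : Fin _)), ← c.w (WidePullbackShape.Hom.term (0 : Fin _))]
      exact (Category.assoc _ _ _).symm.trans (congrArg (· ≫ D.map _) (hl s 0))
    | some k => exact hl s k
  · exact hom_ext Vf fun k => (hm (some k)).trans (hl s k).symm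

variable {D : Type u'} [Category.{v'} D] (G : C ⥤ D) [PreservesLimitsOfShape WalkingCospan G]
  [HasFiniteProducts (Over (G.obj U))]

theorem hom_ext_map {S : D} {g g' : S ⟶ G.obj (obj Uf a)}
    (h : ∀ k, g ≫ G.map (π Uf a k) = g' ≫ G.map (π Uf a k)) : g = g' := by
  refine (cancel_mono (objIso G Uf a).hom).1 (hom_ext (postFam G Uf) fun k => ?_)
  rw [Category.assoc, Category.assoc, objIso_π]
  exact h k

theorem exists_lift_map {S : D} (L : ∀ k, S ⟶ G.obj (Uf (a k)).left)
    (hL : ∀ k, L k ≫ G.map (Uf (a k)).hom = L 0 ≫ G.map (Uf (a 0)).hom) :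
    ∃ l : S ⟶ G.obj (obj Uf a), ∀ k, l ≫ G.map (π Uf a k) = L k := by
  obtain ⟨l, hl⟩ := exists_lift (postFam G Uf) a L hL
  exact ⟨l ≫ (objIso G Uf a).inv, fun k => by
    rw [← objIso_π, Category.assoc, Iso.inv_hom_id_assoc]; exact hl k⟩

end Groth.Agent.ProEtS.Pow
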