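import Groth.Agent.ProEtS.Good
import Groth.Agent.ProEtS.SectLim
import Groth.Agent.ProEtS.Pow

/-!
# Čech complexes of pro-étale coverings that are limits of étale coverings
-/

set_option autoImplicit false
set_option backward.isDefEq.respectTransparency false

universe u

open CategoryTheory CategoryTheory.Limits AlgebraicGeometry Opposite

noncomputable section

namespace Groth.Agent.ProEtS.CovCech

open Groth.Agent.ProEtS Groth.Agent.EtLimit EpsElem Restr Good
open Groth.Agent.EtaleSite.CechPre

variable {X : Scheme.{u}}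

/-- The projection functor to schemes. -/
abbrev toSch (X : Scheme.{u}) : X.ProEt ⥤ Scheme.{u} := Scheme.ProEt.forget X ⋙ Over.forget X

/-- `e` is a limit of étale surjections between affine schemes. -/
structure Cov {V W : X.ProEt} (e : W ⟶ V) : Type (u + 1) where
  /-- The index category. -/
  I : Type u
  [cat : SmallCategory I]
  [cofiltered : IsCofiltered I]
  /-- The stages. -/
  D : I ⥤ V.left.Etale
  affine : ∀ i, IsAffine (D.obj i).left
  surj : ∀ i, Surjective (D.obj i).hom
  surjective : Surjective e.left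
  /-- The projections. -/
  p : (Functor.const I).obj W ⟶ D ⋙ T V
  hc : Nonempty (IsLimit ((toSch X).mapCone (Cone.mk W p)))
  he : ∀ i, (p.app i).left ≫ (D.obj i).hom = e.left

attribute [instance] Cov.cat Cov.cofiltered Cov.affine

/-- The one-member family. -/
abbrev fam {C : Type*} [Category* C] {U U' : C} (e : U' ⟶ U) : PUnit.{u + 2} → Over U :=
  fun _ => Over.mk e

/-- The unique map to the final object. -/
abbrev toTop {A : Scheme.{u}} (W : A.Etale) : W ⟶ EtCoh.top A :=
  MorphismProperty.Over.homMk W.hom (Category.comp_id _) trivial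

theorem toTop_ext {A : Scheme.{u}} {W : A.Etale} (f g : W ⟶ EtCoh.top A) : f = g :=
  MorphismProperty.Over.Hom.ext (((Category.comp_id _).symm.trans (MorphismProperty.Over.w f)).trans
    ((Category.comp_id _).symm.trans (MorphismProperty.Over.w g)).symm)

instance (V : X.ProEt) : PreservesLimitsOfShape WalkingCospan (T V) := by
  have : PreservesLimitsOfShape WalkingCospan (_root_.ProEtS.compP V.hom) :=
    preservesPullbacks_compP V.hom
  exact inferInstanceAs (PreservesLimitsOfShape WalkingCospan (_ ⋙ _))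

namespace Cov

variable {V W : X.ProEt} {e : W ⟶ V} (P : Cov e)

/-- The family at a stage. -/
abbrev stg (i : P.I) : PUnit.{u + 2} → Over (EtCoh.top V.left) := fam (toTop (P.D.obj i))

variable {n : ℕ} (a : Fin (n + 1) → PUnit.{u + 2})

/-- The iterated fibre products of the stages. -/
def pow : P.I ⥤ V.left.Etale where
  obj i := obj (P.stg i) a
  map {i j} f := EtLimit.famMap (𝟙 _) (fun _ => P.D.map f) (fun _ => toTop_ext _ _) a
  map_id i := hom_ext (P.stg i) fun k => by
    rw [EtLimit.famMap_π, Category.id_comp, CategoryTheory.Functor.map_id]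
    exact Category.comp_id _
  map_comp {i j l} f g := hom_ext (P.stg l) fun k => by
    rw [EtLimit.famMap_π, Category.assoc, EtLimit.famMap_π, ← Category.assoc, EtLimit.famMap_π,
      Category.assoc, ← Functor.map_comp]

theorem pow_map_π {i j : P.I} (f : i ⟶ j) (k : Fin (n + 1)) :
    (P.pow a).map f ≫ π (P.stg j) a k = π (P.stg i) a k ≫ P.D.map f :=
  EtLimit.famMap_π (Uf := P.stg j) (Uf' := P.stg i) (𝟙 _) (fun _ => P.D.map f)
    (fun _ => toTop_ext _ _) a k

theorem exists_powπ (i : P.I) : ∃ l : obj (fam e) a ⟶ (T V).obj ((P.pow a).obj i),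
    ∀ k, l ≫ (T V).map (π (P.stg i) a k) = π (fam e) a k ≫ P.p.app i := by
  refine Pow.exists_lift_map (P.stg i) a (T V) (fun k => π (fam e) a k ≫ P.p.app i) fun k =>
    MorphismProperty.Over.Hom.ext ?_
  have hk : ∀ k, (π (fam e) a k).left ≫ e.left = (π (fam e) a 0).left ≫ e.left := fun k =>
    congrArg (fun q => q.left) ((π_hom (fam e) a k).trans (π_hom (fam e) a 0).symm)
  exact ((Category.assoc _ _ _).trans (congrArg (_ ≫ ·) (P.he i))).trans
    ((hk k).trans ((Category.assoc _ _ _).trans (congrArg (_ ≫ ·) (P.he i))).symm)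

/-- The projection from the iterated fibre product to a stage. -/
def powπ (i : P.I) : obj (fam e) a ⟶ (T V).obj ((P.pow a).obj i) :=
  (P.exists_powπ a i).choose

theorem powπ_π (i : P.I) (k : Fin (n + 1)) :
    P.powπ a i ≫ (T V).map (π (P.stg i) a k) = π (fam e) a k ≫ P.p.app i :=
  (P.exists_powπ a i).choose_spec k

/-- The iterated fibre product as a cone on those of the stages. -/
def powCone : Cone (P.pow a ⋙ T V) where
  pt := obj (fam e) a
  π :=
    { app := P.powπ a
      naturality := fun i j f => by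
        refine (Category.id_comp _).trans (Pow.hom_ext_map (P.stg j) a (T V) fun k => ?_)
        rw [powπ_π]
        refine Eq.symm ((Category.assoc _ _ _).trans ?_)
        rw [Functor.comp_map, ← (T V).map_comp, pow_map_π, (T V).map_comp, ← Category.assoc, powπ_π,
          Category.assoc]
        exact congrArg (π (fam e) a k ≫ ·) ((P.p.naturality f).symm.trans (Category.id_comp _)) }

theorem isLimit_powCone : Nonempty (IsLimit ((toSch X).mapCone (P.powCone a))) := by
  obtain ⟨hc⟩ := P.hc
  obtain ⟨i₀⟩ := IsCofiltered.nonempty (C := P.I)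
  refine ⟨IsLimit.ofExistsUnique fun s => ?_⟩
  have hw : ∀ (k : Fin (n + 1)) (i j : P.I) (f : i ⟶ j),
      (s.π.app i ≫ (π (P.stg i) a k).left) ≫ (P.D.map f).left =
        s.π.app j ≫ (π (P.stg j) a k).left := fun k i j f => by
    have h1 : (π (P.stg i) a k).left ≫ (P.D.map f).left =
        ((P.pow a).map f).left ≫ (π (P.stg j) a k).left :=
      (congrArg (fun q => q.left) (P.pow_map_π a f k)).symm
    rw [Category.assoc, h1, ← Category.assoc]
    exact congrArg (· ≫ _) (s.w f)
  let L : ∀ k : Fin (n + 1), s.pt ⟶ W.left := fun k => hc.lift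
    { pt := s.pt
      π := { app := fun i => s.π.app i ≫ (π (P.stg i) a k).left
             naturality := fun i j f => (Category.id_comp _).trans (hw k i j f).symm } }
  have hL : ∀ (k : Fin (n + 1)) (i : P.I), L k ≫ (P.p.app i).left =
      s.π.app i ≫ (π (P.stg i) a k).left := fun k i => hc.fac _ i
  obtain ⟨l, hl⟩ := Pow.exists_lift_map (fam e) a (toSch X) L fun k => by
    have : ∀ k, L k ≫ e.left = s.π.app i₀ ≫ (∏ᶜ (P.stg i₀ ∘ a)).hom.left := fun k => by
      rw [← P.he i₀, ← Category.assoc, hL, Category.assoc]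
      exact congrArg (s.π.app i₀ ≫ ·) (congrArg (fun q => q.left) (π_hom (P.stg i₀) a k))
    exact (this k).trans (this 0).symm
  refine ⟨l, fun i => ?_, fun l' hl' => ?_⟩
  · refine Pow.hom_ext_map (P.stg i) a (T V ⋙ toSch X) fun k => ?_
    refine (Category.assoc _ _ _).trans ?_
    rw [show ((toSch X).mapCone (P.powCone a)).π.app i ≫ (T V ⋙ toSch X).map (π (P.stg i) a k) =
      (toSch X).map (π (fam e) a k) ≫ (P.p.app i).left from
        congrArg (fun q => q.left) (P.powπ_π a i k), ← Category.assoc]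
    exact (congrArg (· ≫ (P.p.app i).left) (hl k)).trans (hL k i)
  · refine Pow.hom_ext_map (fam e) a (toSch X) fun k => hc.hom_ext fun i => ?_
    refine Eq.trans ?_ ((congrArg (· ≫ (P.p.app i).left) (hl k)).trans (hL k i)).symm
    rw [← hl' i, Category.assoc, Category.assoc]
    exact congrArg (l' ≫ ·) (congrArg (fun q => q.left) (P.powπ_π a i k)).symm

instance isAffine_pow [IsAffine V.left] (i : P.I) : IsAffine ((P.pow a).obj i).left := by
  let G := Scheme.Etale.forget V.left ⋙ Over.forget V.left
  haveI : IsAffine (G.obj (EtCoh.top V.left)) := inferInstanceAs (IsAffine V.left)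
  haveI : ∀ k, IsAffine (postFam G (P.stg i) k).left := fun _ => P.affine i
  haveI := Pow.isAffine_obj (postFam G (P.stg i)) a
  exact IsAffine.of_isIso (objIso G (P.stg i) a).hom

instance [IsAffine V.left] (i j : P.I) (f : i ⟶ j) : IsAffineHom ((P.pow a).map f).left :=
  inferInstance


theorem isAffine_obj [IsAffine V.left] [IsAffine W.left] : IsAffine (obj (fam e) a).left := by
  haveI : IsAffine ((toSch X).obj V) := inferInstanceAs (IsAffine V.left)
  haveI : ∀ k, IsAffine (postFam (toSch X) (fam e) k).left := fun _ => inferInstanceAs (IsAffine W.left)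
  haveI := Pow.isAffine_obj (postFam (toSch X) (fam e)) a
  exact IsAffine.of_isIso (objIso (toSch X) (fam e) a).hom

include P in
theorem isGood_obj [IsAffine V.left] (hV : IsGood V) : IsGood (obj (fam e) a) := by
  obtain ⟨hc⟩ := P.isLimit_powCone a
  exact isGood_limit hV (P.pow a) (P.powCone a) hc

end Cov

/-- Exactness of the Čech complex of a one-member family in positive degrees. -/
def CechExact {C : Type*} [Category* C] [∀ U : C, HasFiniteProducts (Over U)] {U U' : C}
    (e : U' ⟶ U) (G : Cᵒᵖ ⥤ AddCommGrpCat.{u + 1}) : Prop :=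
  ∀ (p : ℕ) (x : (EtCech.cechComplex (fam e) G).X (p + 1)),
    (EtCech.cechComplex (fam e) G).d (p + 1) (p + 1 + 1) x = 0 →
      ∃ y, (EtCech.cechComplex (fam e) G).d p (p + 1) y = x

/-- Inverse images of injectives have exact Čech complexes on coverings of good affine objects. -/
theorem cechExact_of_injective {V W : X.ProEt} {e : W ⟶ V} (P : Cov e) [IsAffine V.left]
    (hV : IsGood V) (J : EtCoh.Ab X) [Injective J] : CechExact e (shf J).obj := by
  intro p x hx
  let G := ((R V).obj (shf J)).obj
  let φ : ∀ (i : P.I) (n : ℕ), (EtCech.cechComplex (P.stg i) G).X n →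
      (EtCech.cechComplex (fam e) (shf J).obj).X n := fun i n y =>
    mk (fam e) _ fun b => (shf J).obj.map (P.powπ b i).op (comp (P.stg i) G b y)
  have hφ : ∀ (i : P.I) (n : ℕ) (y : (EtCech.cechComplex (P.stg i) G).X n),
      (EtCech.cechComplex (fam e) (shf J).obj).d n (n + 1) (φ i n y) =
        φ i (n + 1) ((EtCech.cechComplex (P.stg i) G).d n (n + 1) y) := fun i n y => by
    refine comp_ext _ _ fun b => ?_
    rw [comp_d_apply, comp_mk, comp_d_apply, map_sum]
    refine Finset.sum_congr rfl fun k _ => ?_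
    rw [comp_mk, map_zsmul]
    refine congrArg _ ?_
    have hk : face (fam e) b k ≫ P.powπ (b ∘ k.succAbove) i =
        P.powπ b i ≫ (T V).map (face (P.stg i) b k) := by
      refine Pow.hom_ext_map (P.stg i) (b ∘ k.succAbove) (T V) fun j => ?_
      rw [Category.assoc, Category.assoc, ← (T V).map_comp, face_π, P.powπ_π, P.powπ_π,
        ← Category.assoc, face_π]
    exact (EpsElem.map_comp_apply (shf J).obj _ _ _).symm.trans
      ((congrArg (fun q : obj (fam e) b ⟶ (T V).obj ((P.pow (b ∘ k.succAbove)).obj i) =>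
        (shf J).obj.map q.op _) hk).trans (EpsElem.map_comp_apply (shf J).obj _ _ _))
  let a₁ : Fin (p + 1 + 1) → PUnit.{u + 2} := fun _ => ⟨⟩
  let a₂ : Fin (p + 1 + 1 + 1) → PUnit.{u + 2} := fun _ => ⟨⟩
  obtain ⟨hc₁⟩ := P.isLimit_powCone a₁
  obtain ⟨hc₂⟩ := P.isLimit_powCone a₂
  haveI : ∀ {m : ℕ} (b : Fin (m + 1) → PUnit.{u + 2}) (i j : P.I) (f : i ⟶ j),
      IsAffineHom (((P.pow b) ⋙ T V).map f).left := fun b i j f =>
    inferInstanceAs (IsAffineHom ((P.pow b).map f).left)
  haveI : ∀ {m : ℕ} (b : Fin (m + 1) → PUnit.{u + 2}) (i : P.I),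
      CompactSpace ↥(((P.pow b) ⋙ T V).obj i).left := fun b i =>
    inferInstanceAs (CompactSpace ((P.pow b).obj i).left)
  haveI : ∀ {m : ℕ} (b : Fin (m + 1) → PUnit.{u + 2}) (i : P.I),
      QuasiSeparatedSpace ↥(((P.pow b) ⋙ T V).obj i).left := fun b i =>
    inferInstanceAs (QuasiSeparatedSpace ((P.pow b).obj i).left)
  obtain ⟨i, z, hz⟩ := SectLim.exists_stage J _ (P.powCone a₁) hc₁
    (comp (fam e) (shf J).obj a₁ x)
  let x₁ : (EtCech.cechComplex (P.stg i) G).X (p + 1) := mk _ G fun _ => z
  have hx₁ : φ i (p + 1) x₁ = x := comp_ext _ _ fun b => by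
    rw [comp_mk, comp_mk]; exact hz
  obtain ⟨j, f, hf⟩ := SectLim.exists_eq_zero J _ (P.powCone a₂) hc₂
    (comp (P.stg i) G a₂ ((EtCech.cechComplex (P.stg i) G).d (p + 1) (p + 1 + 1) x₁)) (by
      have h := congrArg (comp (fam e) (shf J).obj a₂) (((congrArg _ hx₁).symm.trans (hφ i _ x₁)).symm.trans hx)
      rw [comp_mk, map_zero] at h
      exact h)
  let x₂ : (EtCech.cechComplex (P.stg j) G).X (p + 1) :=
    EtLimit.famPull (𝟙 _) (fun _ => P.D.map f) (fun _ => toTop_ext _ _) G x₁
  have hd : (EtCech.cechComplex (P.stg j) G).d (p + 1) (p + 1 + 1) x₂ = 0 := by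
    rw [EtLimit.famPull_d]
    refine comp_ext _ _ fun b => ?_
    refine ((comp_mk (P.stg j) G _ b).trans ?_).trans (map_zero _).symm
    exact hf
  have hx₂ : φ j (p + 1) x₂ = x := by
    rw [← hx₁]
    refine comp_ext _ _ fun b => ?_
    rw [comp_mk, comp_mk]
    refine (congrArg _ (comp_mk (P.stg j) G _ b)).trans ?_
    exact (EpsElem.map_comp_apply (shf J).obj (P.powπ b j) ((T V).map ((P.pow b).map f)) _).symm.trans
      (congrArg (fun q : obj (fam e) b ⟶ (T V).obj ((P.pow b).obj i) => (shf J).obj.map q.op _)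
        ((P.powCone b).w f))
  haveI : CompactSpace ↥(EtCoh.top V.left).left := inferInstanceAs (CompactSpace V.left)
  haveI : QuasiSeparatedSpace ↥(EtCoh.top V.left).left :=
    inferInstanceAs (QuasiSeparatedSpace V.left)
  obtain ⟨y, hy⟩ := hV.2.2 J ‹_› (EtCoh.top V.left) PUnit.{u + 2} (P.stg j)
    (fun _ => inferInstanceAs (CompactSpace (P.D.obj j).left))
    (fun _ => inferInstanceAs (QuasiSeparatedSpace (P.D.obj j).left))
    (fun v => ⟨⟨⟩, (P.surj j).surj v⟩) p x₂ hd
  exact ⟨φ j p y, (hφ j p y).trans ((congrArg _ hy).trans hx₂)⟩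

end Groth.Agent.ProEtS.CovCech
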