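import Groth.Agent.ProEtS.CovCech
import Groth.Agent.ProEtS.Covers
import Groth.Agent.ProEtS.Affine
import Groth.Agent.ProEtW.WEFactor

/-!
# Coverings by limits of affine étale coverings are cofinal
-/

set_option autoImplicit false
set_option backward.isDefEq.respectTransparency false

universe u

open CategoryTheory CategoryTheory.Limits AlgebraicGeometry Opposite

noncomputable section

namespace Groth.Agent.ProEtS.CovExists

open Groth.Agent.ProEtS Restr CovCech

variable {X : Scheme.{u}}

/-- A faithfully flat ind-étale algebra gives a covering. -/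
theorem exists_cov (V : X.ProEt) [IsAffine V.left] (B : Type u) [CommRing B]
    [Algebra ↥Γ(V.left, ⊤) B] [Module.FaithfullyFlat ↥Γ(V.left, ⊤) B]
    (hB : IndAlg.Fac (IndAlg.Etale.Et ↥Γ(V.left, ⊤)) B) :
    ∃ (W : X.ProEt) (e : W ⟶ V) (a : Spec (CommRingCat.of B) ≅ W.left) (_ : Cov e),
      IsAffine W.left ∧
      a.hom ≫ e.left = Spec.map (CommRingCat.ofHom (algebraMap ↥Γ(V.left, ⊤) B)) ≫ V.left.isoSpec.inv := by
  let A := ↥Γ(V.left, ⊤)
  have hw : Algebra.WeaklyEtale A B := IndAlg.Etale.weaklyEtale hB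
  obtain ⟨J, _, _, Dia, c, hc, hQ, ⟨ei⟩⟩ := IndAlg.Etale.isInd_of_fac hB
  let f : Spec (CommRingCat.of B) ⟶ V.left :=
    Spec.map (CommRingCat.ofHom (algebraMap A B)) ≫ V.left.isoSpec.inv
  haveI : WeaklyEtale (Spec.map (CommRingCat.ofHom (algebraMap A B))) :=
    (Affine.weaklyEtale_SpecMap_iff A B).2 hw
  haveI : Surjective (Spec.map (CommRingCat.ofHom (algebraMap A B))) :=
    ⟨fun x => PrimeSpectrum.comap_surjective_of_faithfullyFlat (A := A) (B := B) x⟩
  haveI : Surjective f := inferInstance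
  haveI : WeaklyEtale (f ≫ V.hom) :=
    MorphismProperty.comp_mem (W := @WeaklyEtale) _ _ (show WeaklyEtale f from inferInstance) V.prop
  let W : X.ProEt := Scheme.ProEt.mk (f ≫ V.hom)
  let e : W ⟶ V := MorphismProperty.Over.homMk f rfl trivial
  let g : ∀ j, Spec (Dia.obj j).right ⟶ V.left := fun j =>
    Spec.map (Dia.obj j).hom ≫ V.left.isoSpec.inv
  have hg : ∀ j, Etale (g j) := fun j => by
    let := (Dia.obj j).hom.hom.toAlgebra
    have h : Algebra.Etale A (Dia.obj j).right := hQ j
    have : Etale (Spec.map (Dia.obj j).hom) :=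
      (HasRingHomProperty.Spec_iff (P := @Etale)).2 (RingHom.etale_algebraMap.2 h)
    infer_instance
  have hgnat : ∀ {j k : J} (φ : j ⟶ k), Spec.map (Dia.map φ).right ≫ g j = g k := fun {j k} φ => by
    show Spec.map (Dia.map φ).right ≫ Spec.map (Dia.obj j).hom ≫ _ = Spec.map (Dia.obj k).hom ≫ _
    rw [← Category.assoc, ← Spec.map_comp, Under.w]
  let D : Jᵒᵖ ⥤ V.left.Etale :=
    { obj := fun j => haveI := hg j.unop; Scheme.Etale.mk (g j.unop)
      map := fun φ => MorphismProperty.Over.homMk (Spec.map (Dia.map φ.unop).right)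
        (hgnat φ.unop) trivial
      map_id := fun j => MorphismProperty.Over.Hom.ext (by
        show Spec.map (Dia.map (𝟙 j.unop)).right = 𝟙 _
        rw [Dia.map_id, Under.id_right, Spec.map_id])
      map_comp := fun {i j k} φ ψ => MorphismProperty.Over.Hom.ext (by
        show Spec.map (Dia.map (ψ.unop ≫ φ.unop)).right = _ ≫ _
        rw [Dia.map_comp, Under.comp_right, Spec.map_comp]
        rfl) }
  let π : ∀ j, Spec (CommRingCat.of B) ⟶ Spec (Dia.obj j).right := fun j =>
    Spec.map (c.ι.app j ≫ ei.hom).right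
  have hπ : ∀ j, π j ≫ g j = f := fun j => by
    show Spec.map _ ≫ Spec.map (Dia.obj j).hom ≫ _ = Spec.map _ ≫ _
    rw [← Category.assoc, ← Spec.map_comp, Under.w]
    rfl
  let p : (Functor.const Jᵒᵖ).obj W ⟶ D ⋙ T V :=
    { app := fun j => MorphismProperty.Over.homMk (π j.unop)
        (((Category.assoc _ _ _).symm.trans (congrArg (· ≫ V.hom) (hπ j.unop))) :) trivial
      naturality := fun i j φ => (Category.id_comp _).trans (MorphismProperty.Over.Hom.ext (by
        show Spec.map _ = Spec.map _ ≫ Spec.map _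
        rw [← Spec.map_comp, ← Under.comp_right, ← Category.assoc, c.w]) ) }
  refine ⟨W, e, Iso.refl _,
    { I := Jᵒᵖ
      D := D
      affine := fun j => inferInstanceAs (IsAffine (Spec _))
      surj := fun j => ?_
      surjective := inferInstanceAs (Surjective f)
      p := p
      hc := ?_
      he := fun j => hπ j.unop },
    inferInstanceAs (IsAffine (Spec _)), Category.id_comp _⟩
  · show Surjective (g j.unop)
    haveI : Surjective (π j.unop ≫ g j.unop) := by rw [hπ]; infer_instance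
    exact Surjective.of_comp (π j.unop) (g j.unop)
  · let c₁ := c.extend ei.hom
    have h₁ : IsColimit c₁ := IsColimit.extendIso ei.hom hc
    haveI : IsConnected J := IsFiltered.isConnected J
    have h₂ := isColimitOfPreserves (Under.forget (CommRingCat.of A)) h₁
    have h₃ := isLimitOfPreserves Scheme.Spec h₂.op
    exact ⟨IsLimit.ofIsoLimit h₃ (Cone.ext (Iso.refl _) fun j => (Category.id_comp _).symm)⟩

/-- Sections lift along epimorphisms on a covering. -/
theorem exists_lift {G H : _root_.ProEtS.AbP X} (φ : G ⟶ H) [Epi φ] (V : X.ProEt) [IsAffine V.left]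
    (s : H.obj.obj (op V)) :
    ∃ (W : X.ProEt) (e : W ⟶ V) (_ : Cov e) (t : G.obj.obj (op W)),
      IsAffine W.left ∧ φ.hom.app (op W) t = H.obj.map e.op s := by
  obtain ⟨W₀, g₀, hg₀, hW₀, hwc⟩ := Covers.exists_cover_affine_weaklyContractible V
  haveI : WeaklyEtale g₀.left := EpsElem.weaklyEtale_left g₀
  haveI : Surjective g₀.left := ⟨fun v => by
    obtain ⟨V', g, v', ⟨Y, h, f, ⟨⟩, hg⟩, rfl⟩ := EpsElem.exists_mem hg₀ v
    exact ⟨h.left v', by rw [← hg]; rfl⟩⟩
  let A := ↥Γ(V.left, ⊤)
  let B := ↥Γ(W₀.left, ⊤)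
  letI : Algebra A B := g₀.left.appTop.hom.toAlgebra
  have e0 : Spec.map g₀.left.appTop = W₀.left.isoSpec.inv ≫ g₀.left ≫ V.left.isoSpec.hom := by
    rw [← Scheme.isoSpec_hom_naturality, Iso.inv_hom_id_assoc]
  haveI : Algebra.WeaklyEtale A B := (Affine.weaklyEtale_SpecMap_iff A B).1 (by
    show WeaklyEtale (Spec.map g₀.left.appTop)
    rw [e0]
    infer_instance)
  have hsurj : Surjective (Spec.map g₀.left.appTop) := by rw [e0]; infer_instance
  haveI : Module.Flat A B := Algebra.WeaklyEtale.flat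
  haveI : Module.FaithfullyFlat A B :=
    Module.FaithfullyFlat.of_comap_surjective fun x => hsurj.surj x
  obtain ⟨D, _, _, _, _, hBD, _, hfac⟩ := ProEtW.WEFactor.exists_ff_indEtale A B
  haveI := hBD
  haveI : Module.FaithfullyFlat A D := Module.FaithfullyFlat.trans A B D
  obtain ⟨W, e, a, P, hW, ha⟩ := exists_cov V D hfac
  let bl : W.left ⟶ W₀.left :=
    a.inv ≫ Spec.map (CommRingCat.ofHom (algebraMap B D)) ≫ W₀.left.isoSpec.inv
  have hbl : bl ≫ g₀.left = e.left := by
    refine (Category.assoc _ _ _).trans ?_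
    rw [Iso.inv_comp_eq, ha, Category.assoc, ← Scheme.isoSpec_inv_naturality, ← Category.assoc,
      ← Spec.map_comp]
    congr 2
    ext x
    exact (IsScalarTower.algebraMap_apply A B D x).symm
  let b : W ⟶ W₀ := MorphismProperty.Over.homMk bl
    (((congrArg (bl ≫ ·) (MorphismProperty.Over.w g₀)).symm.trans ((Category.assoc _ _ _).symm.trans
      ((congrArg (· ≫ V.hom) hbl).trans (MorphismProperty.Over.w e)))) :) trivial
  haveI : Sheaf.IsLocallySurjective φ :=
    (Sheaf.isLocallySurjective_iff_epi' AddCommGrpCat.{u + 1} φ).2 ‹_›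
  let ψ := (sheafCompose (Scheme.ProEt.topology X) (forget AddCommGrpCat.{u + 1})).map φ
  haveI : Sheaf.IsLocallySurjective ψ :=
    ⟨fun s => Presheaf.imageSieve_mem (Scheme.ProEt.topology X) φ.hom s⟩
  obtain ⟨t₀, ht₀⟩ := hwc _ _ ψ ((Sheaf.isLocallySurjective_iff_epi ψ).1 inferInstance)
    (H.obj.map g₀.op s)
  refine ⟨W, e, P, G.obj.map b.op t₀, hW, ?_⟩
  rw [NatTrans.naturality_apply, show φ.hom.app (op W₀) t₀ = H.obj.map g₀.op s from ht₀,
    ← EpsElem.map_comp_apply, show b ≫ g₀ = e from MorphismProperty.Over.Hom.ext hbl]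

end Groth.Agent.ProEtS.CovExists
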