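import Groth.Agent.ProEtS.CovAcyclic
import Groth.Agent.ProEtS.BigRestrict
import Groth.Agent.EtaleSite.Flasque
import Groth.Agent.S0717

/-!
# Cohomology of `ε⁻¹`
-/

set_option autoImplicit false
set_option backward.isDefEq.respectTransparency false

universe u

open CategoryTheory CategoryTheory.Limits AlgebraicGeometry Opposite CategoryTheory.Abelian

noncomputable section

namespace Groth.Agent.ProEtS.EpsCoh

open Groth.Agent.ProEtS Restr Good CovAcyclic

variable {X : Scheme.{u}}

section Exact

variable (X) [_root_.ProEtS.EpsCont X]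

instance additive_epsPull : (_root_.ProEtS.epsPull X).Additive :=
  (_root_.ProEtS.epsAdj X).left_adjoint_additive

theorem preservesMono_epsPull : (_root_.ProEtS.epsPull X).PreservesMonomorphisms := by
  let G := _root_.ProEtS.eps X
  haveI : RepresentablyFlat G := flat_of_preservesFiniteLimits _
  haveI := BigRestrict.lan_preservesMono G (BigRestrict.exact_of_flat G)
  haveI : (Functor.sheafPullbackConstruction.sheafPullback G AddCommGrpCat.{u + 1}
      X.smallEtaleTopology (Scheme.ProEt.topology X)).PreservesMonomorphisms := by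
    haveI : (sheafToPresheaf X.smallEtaleTopology AddCommGrpCat.{u + 1}).PreservesMonomorphisms :=
      inferInstance
    haveI : (presheafToSheaf (Scheme.ProEt.topology X)
        AddCommGrpCat.{u + 1}).PreservesMonomorphisms := inferInstance
    exact ⟨fun m _ => inferInstanceAs (Mono ((presheafToSheaf (Scheme.ProEt.topology X)
        AddCommGrpCat.{u + 1}).map (G.op.lan.map ((sheafToPresheaf X.smallEtaleTopology
        AddCommGrpCat.{u + 1}).map m))))⟩
  exact Functor.preservesMonomorphisms.of_iso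
    (Functor.sheafPullbackConstruction.sheafPullbackIso G AddCommGrpCat.{u + 1}
      X.smallEtaleTopology (Scheme.ProEt.topology X)).symm

instance preservesFiniteColimits_epsPull : PreservesFiniteColimits (_root_.ProEtS.epsPull X) :=
  haveI : PreservesColimitsOfSize.{0, 0} (_root_.ProEtS.epsPull X) :=
    (_root_.ProEtS.epsAdj X).leftAdjoint_preservesColimits
  PreservesColimitsOfSize.preservesFiniteColimits _

instance preservesFiniteLimits_epsPull : PreservesFiniteLimits (_root_.ProEtS.epsPull X) := by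
  have := preservesMono_epsPull X
  rw [Functor.preservesFiniteLimits_iff_forall_exact_map_and_mono]
  intro S hS
  have := hS.mono_f
  exact ⟨hS.exact.map_of_epi_of_preservesCokernel _ hS.epi_g inferInstance,
    (_root_.ProEtS.epsPull X).map_mono S.f⟩

instance preservesFiniteLimits_epsPush : PreservesFiniteLimits (_root_.ProEtS.epsPush X) :=
  haveI : PreservesLimitsOfSize.{0, 0} (_root_.ProEtS.epsPush X) :=
    (_root_.ProEtS.epsAdj X).rightAdjoint_preservesLimits
  PreservesLimitsOfSize.preservesFiniteLimits _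

/-- The two constructions of `ε⁻¹`. -/
def shfIso (F : EtCoh.Ab X) : EpsElem.shf F ≅ (_root_.ProEtS.epsPull X).obj F :=
  ((Functor.sheafPullbackConstruction.sheafPullbackIso (_root_.ProEtS.eps X) AddCommGrpCat.{u + 1}
    X.smallEtaleTopology (Scheme.ProEt.topology X)).app F).symm

theorem isAc_epsPull (J : EtCoh.Ab X) [Injective J] : IsAc ((_root_.ProEtS.epsPull X).obj J) :=
  isAc_of_iso (shfIso X J) (isAc_shf J)

end Exact

/-- The embedding of a sheaf in an injective one. -/
abbrev injSeq {C : Type*} [Category* C] [Abelian C] [EnoughInjectives C] (G : C) : ShortComplex C :=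
  ShortComplex.mk (Injective.ι G) (cokernel.π _) (cokernel.condition _)

theorem injSeq_shortExact {C : Type*} [Category* C] [Abelian C] [EnoughInjectives C] (G : C) :
    (injSeq G).ShortExact :=
  have : Epi (injSeq G).g := coequalizer.π_epi
  { exact := ShortComplex.exact_cokernel _ }

theorem isAc_injSeq_X₃ {G : _root_.ProEtS.AbP X} (hG : IsAc G) : IsAc (injSeq G).X₃ :=
  have : Injective (injSeq G).X₂ := inferInstanceAs (Injective (Injective.under G))
  isAc_quotient (injSeq_shortExact G) hG (isAc_of_injective _)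

theorem isGood_eps (U : X.Etale) [CompactSpace ↥U.left] [QuasiSeparatedSpace ↥U.left] :
    IsGood ((_root_.ProEtS.eps X).obj U) := by
  haveI : Etale ((_root_.ProEtS.eps X).obj U).hom := U.prop
  haveI : CompactSpace ↥((_root_.ProEtS.eps X).obj U).left := inferInstanceAs (CompactSpace U.left)
  haveI : QuasiSeparatedSpace ↥((_root_.ProEtS.eps X).obj U).left :=
    inferInstanceAs (QuasiSeparatedSpace U.left)
  exact isGood_of_etale _

/-- The final object. -/
def topPIsTerminal (X : Scheme.{u}) : IsTerminal (_root_.ProEtS.topP X) :=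
  IsTerminal.isTerminalOfObj (Scheme.ProEt.forget X) (_root_.ProEtS.topP X) Over.mkIdTerminal

/-- Acyclic sheaves have no cohomology on affine schemes. -/
theorem subsingleton_HP [IsAffine X] :
    ∀ (q : ℕ) {G : _root_.ProEtS.AbP X}, IsAc G → Subsingleton (_root_.ProEtS.HP X G (q + 1)) := by
  haveI : CompactSpace ↥(EtCoh.top X).left := inferInstanceAs (CompactSpace X)
  haveI : QuasiSeparatedSpace ↥(EtCoh.top X).left := inferInstanceAs (QuasiSeparatedSpace X)
  have hgood : IsGood (_root_.ProEtS.topP X) := isGood_eps (EtCoh.top X)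
  intro q
  induction q with
  | zero =>
    intro G hG
    have hS := injSeq_shortExact G
    haveI : Injective (injSeq G).X₂ := inferInstanceAs (Injective (Injective.under G))
    refine subsingleton_of_forall_eq 0 fun x => ?_
    obtain ⟨x₃, rfl⟩ := Ext.covariant_sequence_exact₁ _ hS x
      (Ext.eq_zero_of_injective _) (rfl : 0 + 1 = 0 + 1)
    obtain ⟨s, hs⟩ := surjective_good hS hG _ hgood (Sheaf.H.equiv₀ _ (topPIsTerminal X) x₃)
    have hx : x₃ = Sheaf.H.map (injSeq G).g 0
        ((Sheaf.H.equiv₀ _ (topPIsTerminal X)).symm s) :=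
      (Sheaf.H.equiv₀ _ (topPIsTerminal X)).injective (by
        rw [← Sheaf.H.equiv₀_naturality, AddEquiv.apply_symm_apply, hs])
    rw [hx, Sheaf.H.map_apply, Ext.comp_assoc_of_second_deg_zero, ShortComplex.ShortExact.comp_extClass,
      Ext.comp_zero]
  | succ q ih =>
    intro G hG
    have hS := injSeq_shortExact G
    haveI : Injective (injSeq G).X₂ := inferInstanceAs (Injective (Injective.under G))
    refine subsingleton_of_forall_eq 0 fun x => ?_
    obtain ⟨x₃, rfl⟩ := Ext.covariant_sequence_exact₁ _ hS x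
      (Ext.eq_zero_of_injective _) (rfl : q + 1 + 1 = q + 1 + 1)
    have := ih (isAc_injSeq_X₃ hG)
    rw [Subsingleton.elim x₃ 0, Ext.zero_comp]

variable (X) [_root_.ProEtS.EpsCont X]

/-- Acyclic sheaves are acyclic for `ε_*`. -/
theorem isZero_RepsPush_of_isAc (q : ℕ) (G : _root_.ProEtS.AbP X) (hG : IsAc G) :
    IsZero ((_root_.ProEtS.RepsPush X (q + 1)).obj G) := by
  refine EtaleSite.Flasque.isZero_rightDerived_of_class (_root_.ProEtS.epsPush X) IsAc
    (fun G hG => ?_) q G hG
  refine ⟨injSeq G, injSeq_shortExact G, rfl, inferInstanceAs (Injective (Injective.under G)),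
    isAc_injSeq_X₃ hG, ?_⟩
  refine (Sheaf.isLocallySurjective_iff_epi' AddCommGrpCat.{u + 1}
    ((_root_.ProEtS.epsPush X).map (injSeq G).g)).1
    ⟨fun {U} s => EtaleSite.mem_topology_of_forall_exists _ fun x => ?_⟩
  obtain ⟨A, hA, hxA, -⟩ := exists_isAffineOpen_mem_and_subset (X := U.left) (x := x) (U := ⊤) trivial
  have : Etale U.hom := U.prop
  let U' : X.Etale := Scheme.Etale.mk (A.ι ≫ U.hom)
  let i : U' ⟶ U := MorphismProperty.Over.homMk A.ι rfl trivial
  haveI : IsAffine U'.left := hA
  obtain ⟨t, ht⟩ := surjective_good (injSeq_shortExact G) hG _ (isGood_eps U')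
    (((_root_.ProEtS.epsPush X).obj (injSeq G).X₃).obj.map i.op s)
  exact ⟨U', i, ⟨x, hxA⟩, ⟨t, ht⟩, rfl⟩

/-- `R^q ε_* ε⁻¹ = 0` for `q > 0`. -/
theorem isZero_RepsPush_epsPull : ∀ (q : ℕ) (F : EtCoh.Ab X),
    IsZero ((_root_.ProEtS.RepsPush X (q + 1)).obj ((_root_.ProEtS.epsPull X).obj F)) := by
  let L := _root_.ProEtS.epsPull X
  let R := _root_.ProEtS.epsPush X
  let les := RDerLES.derivedLES R
  intro q
  induction q with
  | zero =>
    intro F
    have hS := injSeq_shortExact F
    have hS' : ((injSeq F).map L).ShortExact := hS.map_of_exact L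
    haveI : Injective (injSeq F).X₂ := inferInstanceAs (Injective (Injective.under F))
    have hz : IsZero ((R.rightDerived (0 + 1)).obj ((injSeq F).map L).X₂) :=
      isZero_RepsPush_of_isAc X 0 _ (isAc_epsPull X (injSeq F).X₂)
    haveI hu : ∀ G, IsIso ((_root_.ProEtS.epsAdj X).unit.app G) := fun G => S0717.result X G
    haveI : Epi (injSeq F).g := hS.epi_g
    haveI he : Epi (R.map ((injSeq F).map L).g) := by
      have h : Epi ((_root_.ProEtS.epsAdj X).unit.app (injSeq F).X₂ ≫ R.map (L.map (injSeq F).g)) := by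
        erw [← (_root_.ProEtS.epsAdj X).unit.naturality (injSeq F).g]
        exact epi_comp _ _
      exact @epi_of_epi _ _ _ _ _ _ _ h
    have : Epi ((R.rightDerived 0).map ((injSeq F).map L).g) := by
      have : (R.rightDerived 0).map ((injSeq F).map L).g =
          (R.rightDerivedZeroIsoSelf).hom.app _ ≫ R.map ((injSeq F).map L).g ≫
            (R.rightDerivedZeroIsoSelf).inv.app _ := by
        simp
      rw [this]
      infer_instance
    have hδ : les.δ _ hS' 0 1 rfl = 0 :=
      (cancel_epi ((R.rightDerived 0).map ((injSeq F).map L).g)).1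
        ((les.comp_δ _ hS' 0 1 rfl).trans comp_zero.symm)
    exact (les.exact₁ _ hS' 0 1 rfl).isZero_of_both_zeros hδ (hz.eq_of_tgt _ _)
  | succ n ih =>
    intro F
    have hS := injSeq_shortExact F
    have hS' : ((injSeq F).map L).ShortExact := hS.map_of_exact L
    haveI : Injective (injSeq F).X₂ := inferInstanceAs (Injective (Injective.under F))
    exact (les.exact₁ _ hS' (n + 1) (n + 1 + 1) rfl).isZero_of_both_zeros
      ((ih (injSeq F).X₃).eq_of_src _ _)
      ((isZero_RepsPush_of_isAc X (n + 1) _ (isAc_epsPull X (injSeq F).X₂)).eq_of_tgt _ _)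

/-- `ε_*` followed by global sections is global sections. -/
def pushGsecIso : _root_.ProEtS.epsPush X ⋙ EtCore.gsec X ≅
    (sheafSections (Scheme.ProEt.topology X) AddCommGrpCat.{u + 1}).obj (op (_root_.ProEtS.topP X)) :=
  NatIso.ofComponents
    (fun G => G.obj.mapIso (IsTerminal.uniqueUpToIso (topPIsTerminal X)
      (IsTerminal.isTerminalObj (_root_.ProEtS.eps X) _ (EtCore.topIsTerminal X))).op)
    (fun {G G'} φ => (φ.hom.naturality _).symm)

/-- `ε⁻¹` of a constant sheaf is constant. -/
def constIso : constantSheaf X.smallEtaleTopology AddCommGrpCat.{u + 1} ⋙ _root_.ProEtS.epsPull X ≅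
    constantSheaf (Scheme.ProEt.topology X) AddCommGrpCat.{u + 1} :=
  ((EtCore.constAdj X).comp (_root_.ProEtS.epsAdj X)).leftAdjointUniq
    ((constantSheafAdj (Scheme.ProEt.topology X) AddCommGrpCat.{u + 1}
      (topPIsTerminal X)).ofNatIsoRight (pushGsecIso X).symm)

/-- The unit as an isomorphism. -/
theorem nonempty_addEquiv (F : EtCoh.Ab X) (i : ℕ) :
    Nonempty (EtCoh.H X F i ≃+ _root_.ProEtS.HP X ((_root_.ProEtS.epsPull X).obj F) i) := by
  let adj := _root_.ProEtS.epsAdj X
  haveI : IsIso (adj.unit.app F) := S0717.result X F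
  let C := (constantSheaf X.smallEtaleTopology AddCommGrpCat.{u + 1}).obj (AddCommGrpCat.of (ULift.{u + 1} ℤ))
  let G := (_root_.ProEtS.epsPull X).obj F
  let e₁ : AddMonoidHom (Ext C ((_root_.ProEtS.epsPush X).obj G) i) (Ext ((_root_.ProEtS.epsPull X).obj C) G i) :=
    AddMonoidHom.mk' (EtaleSite.AdjExt.toExt adj C G i) (fun a b => by
      simp [EtaleSite.AdjExt.toExt, Ext.mapExactFunctor_add, Ext.add_comp])
  have h₁ : Function.Bijective e₁ :=
    EtaleSite.AdjExt.toExt_bijective adj i C G fun q hq => by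
      obtain ⟨k, rfl⟩ : ∃ k, q = k + 1 := ⟨q - 1, by omega⟩
      exact isZero_RepsPush_epsPull X k F
  let j := (constIso X).app (AddCommGrpCat.of (ULift.{u + 1} ℤ))
  let e₀ : AddMonoidHom (Ext C F i) (Ext C ((_root_.ProEtS.epsPush X).obj G) i) :=
    (Ext.mk₀ (adj.unit.app F)).postcomp C (add_zero i)
  have h₀ : Function.Bijective e₀ := by
    refine Function.bijective_iff_has_inverse.2
      ⟨(Ext.mk₀ (inv (adj.unit.app F))).postcomp C (add_zero i), fun a => ?_, fun a => ?_⟩
    · show (a.comp (Ext.mk₀ (adj.unit.app F)) (add_zero i)).comp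
        (Ext.mk₀ (inv (adj.unit.app F))) (add_zero i) = a
      rw [Ext.comp_assoc_of_third_deg_zero, Ext.mk₀_comp_mk₀, IsIso.hom_inv_id, Ext.comp_mk₀_id]
    · show (a.comp (Ext.mk₀ (inv (adj.unit.app F))) (add_zero i)).comp
        (Ext.mk₀ (adj.unit.app F)) (add_zero i) = a
      rw [Ext.comp_assoc_of_third_deg_zero, Ext.mk₀_comp_mk₀, IsIso.inv_hom_id, Ext.comp_mk₀_id]
  let e₂ : AddMonoidHom (Ext ((_root_.ProEtS.epsPull X).obj C) G i) (_root_.ProEtS.HP X G i) :=
    (Ext.mk₀ j.inv).precomp G (zero_add i)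
  have h₂ : Function.Bijective e₂ := by
    refine Function.bijective_iff_has_inverse.2
      ⟨(Ext.mk₀ j.hom).precomp G (zero_add i), fun a => ?_, fun a => ?_⟩
    · show (Ext.mk₀ j.hom).comp ((Ext.mk₀ j.inv).comp a (zero_add i)) (zero_add i) = a
      rw [← Ext.comp_assoc_of_second_deg_zero, Ext.mk₀_comp_mk₀, j.hom_inv_id, Ext.mk₀_id_comp]
    · show (Ext.mk₀ j.inv).comp ((Ext.mk₀ j.hom).comp a (zero_add i)) (zero_add i) = a
      rw [← Ext.comp_assoc_of_second_deg_zero, Ext.mk₀_comp_mk₀, j.inv_hom_id, Ext.mk₀_id_comp]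
  exact ⟨(AddEquiv.ofBijective e₀ h₀).trans ((AddEquiv.ofBijective e₁ h₁).trans
    (AddEquiv.ofBijective e₂ h₂))⟩

end Groth.Agent.ProEtS.EpsCoh
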