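import Groth.Agent.ProEtS.EpsCoh

/-!
# Affine objects presented by affine étale schemes over the base
-/

set_option autoImplicit false
set_option backward.isDefEq.respectTransparency false

universe u

open CategoryTheory CategoryTheory.Limits AlgebraicGeometry Opposite

noncomputable section

namespace Groth.Agent.ProEtS.EtPres

open Groth.Agent.ProEtS

variable {X : Scheme.{u}}

/-- A presentation of an object as a limit of affine étale schemes over the base. -/
structure Pres (W : X.ProEt) : Type (u + 1) where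
  /-- The index category. -/
  I : Type u
  [cat : SmallCategory I]
  [cofiltered : IsCofiltered I]
  /-- The stages. -/
  D : I ⥤ X.Etale
  affine : ∀ i, IsAffine (D.obj i).left
  /-- The projections. -/
  p : (Functor.const I).obj W ⟶ D ⋙ _root_.ProEtS.eps X
  hc : Nonempty (IsLimit ((CovCech.toSch X).mapCone (Cone.mk W p)))

attribute [instance] Pres.cat Pres.cofiltered Pres.affine

/-- An ind-étale algebra over an affine étale scheme gives a presented object. -/
theorem exists_pres (U : X.Etale) [IsAffine U.left] (B : Type u) [CommRing B]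
    [Algebra ↥Γ(U.left, ⊤) B] (hB : IndAlg.Fac (IndAlg.Etale.Et ↥Γ(U.left, ⊤)) B) :
    ∃ (W : X.ProEt) (e : W ⟶ (_root_.ProEtS.eps X).obj U) (a : Spec (CommRingCat.of B) ≅ W.left)
      (_ : Pres W), IsAffine W.left ∧
      a.hom ≫ e.left = Spec.map (CommRingCat.ofHom (algebraMap ↥Γ(U.left, ⊤) B)) ≫ U.left.isoSpec.inv := by
  let A := ↥Γ(U.left, ⊤)
  obtain ⟨J, _, _, Dia, c, hc, hQ, ⟨ei⟩⟩ := IndAlg.Etale.isInd_of_fac hB
  let f : Spec (CommRingCat.of B) ⟶ U.left :=
    Spec.map (CommRingCat.ofHom (algebraMap A B)) ≫ U.left.isoSpec.inv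
  haveI : WeaklyEtale (Spec.map (CommRingCat.ofHom (algebraMap A B))) :=
    (Affine.weaklyEtale_SpecMap_iff A B).2 (IndAlg.Etale.weaklyEtale hB)
  haveI : Etale U.hom := U.prop
  haveI : WeaklyEtale (f ≫ U.hom) :=
    MorphismProperty.comp_mem (W := @WeaklyEtale) _ _ (show WeaklyEtale f from inferInstance)
      (show WeaklyEtale U.hom from inferInstance)
  let W : X.ProEt := Scheme.ProEt.mk (f ≫ U.hom)
  let e : W ⟶ (_root_.ProEtS.eps X).obj U := MorphismProperty.Over.homMk f rfl trivial
  let g : ∀ j, Spec (Dia.obj j).right ⟶ U.left := fun j =>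
    Spec.map (Dia.obj j).hom ≫ U.left.isoSpec.inv
  have hg : ∀ j, Etale (g j ≫ U.hom) := fun j => by
    let := (Dia.obj j).hom.hom.toAlgebra
    have h : Algebra.Etale A (Dia.obj j).right := hQ j
    have : Etale (Spec.map (Dia.obj j).hom) :=
      (HasRingHomProperty.Spec_iff (P := @Etale)).2 (RingHom.etale_algebraMap.2 h)
    have : Etale (g j) := inferInstance
    exact MorphismProperty.comp_mem (W := @Etale) _ _ this U.prop
  have hgnat : ∀ {j k : J} (φ : j ⟶ k), Spec.map (Dia.map φ).right ≫ g j = g k := fun {j k} φ => by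
    show Spec.map (Dia.map φ).right ≫ Spec.map (Dia.obj j).hom ≫ _ = Spec.map (Dia.obj k).hom ≫ _
    rw [← Category.assoc, ← Spec.map_comp, Under.w]
  let D : Jᵒᵖ ⥤ X.Etale :=
    { obj := fun j => haveI := hg j.unop; Scheme.Etale.mk (g j.unop ≫ U.hom)
      map := fun φ => MorphismProperty.Over.homMk (Spec.map (Dia.map φ.unop).right)
        (((Category.assoc _ _ _).symm.trans (congrArg (· ≫ U.hom) (hgnat φ.unop))) :) trivial
      map_id := fun j => MorphismProperty.Over.Hom.ext (by
        show Spec.map (Dia.map (𝟙 j.unop)).right = 𝟙 _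
        rw [Dia.map_id, Under.id_right, Spec.map_id])
      map_comp := fun {i j k} φ ψ => MorphismProperty.Over.Hom.ext (by
        show Spec.map (Dia.map (ψ.unop ≫ φ.unop)).right = _ ≫ _
        rw [Dia.map_comp, Under.comp_right, Spec.map_comp]
        rfl) }
  let π : ∀ j, Spec (CommRingCat.of B) ⟶ Spec (Dia.obj j).right := fun j =>
    Spec.map (c.ι.app j ≫ ei.hom).right
  have hπ : ∀ j, π j ≫ g j = f := fun j => by
    show Spec.map _ ≫ Spec.map (Dia.obj j).hom ≫ _ = Spec.map _ ≫ _
    rw [← Category.assoc, ← Spec.map_comp, Under.w]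
    rfl
  let p : (Functor.const Jᵒᵖ).obj W ⟶ D ⋙ _root_.ProEtS.eps X :=
    { app := fun j => MorphismProperty.Over.homMk (π j.unop)
        (((Category.assoc _ _ _).symm.trans (congrArg (· ≫ U.hom) (hπ j.unop))) :) trivial
      naturality := fun i j φ => (Category.id_comp _).trans (MorphismProperty.Over.Hom.ext (by
        show Spec.map _ = Spec.map _ ≫ Spec.map _
        rw [← Spec.map_comp, ← Under.comp_right, ← Category.assoc, c.w]) ) }
  refine ⟨W, e, Iso.refl _,
    { I := Jᵒᵖ
      D := D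
      affine := fun j => inferInstanceAs (IsAffine (Spec _))
      p := p
      hc := ?_ },
    inferInstanceAs (IsAffine (Spec _)), Category.id_comp _⟩
  let c₁ := c.extend ei.hom
  have h₁ : IsColimit c₁ := IsColimit.extendIso ei.hom hc
  haveI : IsConnected J := IsFiltered.isConnected J
  have h₂ := isColimitOfPreserves (Under.forget (CommRingCat.of A)) h₁
  have h₃ := isLimitOfPreserves Scheme.Spec h₂.op
  exact ⟨IsLimit.ofIsoLimit h₃ (Cone.ext (Iso.refl _) fun j => (Category.id_comp _).symm)⟩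

/-- Every point of every object is in the image of a presented affine object. -/
theorem exists_pres_point (V : X.ProEt) (v : V.left) :
    ∃ (W : X.ProEt) (_ : Pres W) (b : W ⟶ V) (V₀ : X.ProEt) (g : V₀ ⟶ V) (c : W ⟶ V₀)
      (_ : Etale g.left) (w : W.left), IsAffine W.left ∧ IsAffine V₀.left ∧ Surjective c.left ∧
        c ≫ g = b ∧ b.left w = v := by
  obtain ⟨O, hO, hvO, -⟩ := exists_isAffineOpen_mem_and_subset (X := X) (x := V.hom v) (U := ⊤) trivial
  let U : X.Etale := Scheme.Etale.mk O.ι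
  haveI : IsAffine U.left := hO
  obtain ⟨A, hA, hvA, hAO⟩ := exists_isAffineOpen_mem_and_subset (X := V.left) (x := v)
    (U := V.hom ⁻¹ᵁ O) hvO
  haveI : WeaklyEtale (A.ι ≫ V.hom) :=
    MorphismProperty.comp_mem (W := @WeaklyEtale) _ _ (show WeaklyEtale _ from inferInstance) V.prop
  let V₀ : X.ProEt := Scheme.ProEt.mk (A.ι ≫ V.hom)
  let g : V₀ ⟶ V := MorphismProperty.Over.homMk A.ι rfl trivial
  haveI : IsAffine V₀.left := hA
  have hr : Set.range (A.ι ≫ V.hom) ⊆ Set.range O.ι := by
    rintro _ ⟨z, rfl⟩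
    rw [Scheme.Opens.range_ι]
    exact hAO z.2
  let l : V₀.left ⟶ U.left := IsOpenImmersion.lift O.ι (A.ι ≫ V.hom) hr
  have hl : l ≫ O.ι = A.ι ≫ V.hom := IsOpenImmersion.lift_fac _ _ _
  haveI : WeaklyEtale (l ≫ O.ι) := by rw [hl]; infer_instance
  haveI : WeaklyEtale l := WeaklyEtale.of_comp l O.ι
  let R := ↥Γ(U.left, ⊤)
  let B := ↥Γ(V₀.left, ⊤)
  letI : Algebra R B := l.appTop.hom.toAlgebra
  have e0 : Spec.map l.appTop = V₀.left.isoSpec.inv ≫ l ≫ U.left.isoSpec.hom := by
    rw [← Scheme.isoSpec_hom_naturality, Iso.inv_hom_id_assoc]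
  haveI : Algebra.WeaklyEtale R B := (Affine.weaklyEtale_SpecMap_iff R B).1 (by
    show WeaklyEtale (Spec.map l.appTop)
    rw [e0]
    infer_instance)
  obtain ⟨D, _, _, _, _, hBD, _, hfac⟩ := ProEtW.WEFactor.exists_ff_indEtale R B
  haveI := hBD
  obtain ⟨W, e, a, P, hW, ha⟩ := exists_pres U D hfac
  haveI : Surjective (Spec.map (CommRingCat.ofHom (algebraMap B D))) :=
    ⟨fun x => PrimeSpectrum.comap_surjective_of_faithfullyFlat (A := B) (B := D) x⟩
  let bl : W.left ⟶ V₀.left :=
    a.inv ≫ Spec.map (CommRingCat.ofHom (algebraMap B D)) ≫ V₀.left.isoSpec.inv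
  have hsurj : Surjective bl := inferInstance
  have hbl : bl ≫ l = e.left := by
    refine (Category.assoc _ _ _).trans ?_
    rw [Iso.inv_comp_eq, ha, Category.assoc, ← Scheme.isoSpec_inv_naturality, ← Category.assoc,
      ← Spec.map_comp]
    congr 2
    ext x
    exact (IsScalarTower.algebraMap_apply R B D x).symm
  let c : W ⟶ V₀ := MorphismProperty.Over.homMk bl
    (((congrArg (bl ≫ ·) hl).symm.trans ((Category.assoc _ _ _).symm.trans
      ((congrArg (· ≫ O.ι) hbl).trans (MorphismProperty.Over.w e)))) :) trivial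
  obtain ⟨w, hw⟩ := hsurj.surj (⟨v, hvA⟩ : A)
  refine ⟨W, P, c ≫ g, V₀, g, c, inferInstanceAs (Etale A.ι), w, hW, hA, hsurj, rfl, ?_⟩
  show A.ι (bl w) = v
  rw [hw]
  rfl

/-- Presented objects cover. -/
theorem mem_topology (V : X.ProEt) (S : Sieve V)
    (h : ∀ (W : X.ProEt) (_ : Pres W) (b : W ⟶ V), S b) : S ∈ Scheme.ProEt.topology X V := by
  choose W P b V₀ g c hg w hW hV₀ hc hcg hw using exists_pres_point V
  refine GrothendieckTopology.transitive _ (Site.generate_mem V₀ g
    (Scheme.etalePrecoverage_le_proetalePrecoverage _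
      ((Scheme.ofArrows_mem_precoverage_iff @Etale (X := fun v => (V₀ v).left)
        (f := fun v => (g v).left)).2 ⟨fun v => ⟨v, (c v).left (w v),
          (congrArg (fun m : W v ⟶ V => m.left (w v)) (hcg v)).trans (hw v)⟩, hg⟩))) S ?_
  rintro Z _ ⟨Z', k, _, ⟨v⟩, rfl⟩
  rw [Sieve.pullback_comp]
  refine GrothendieckTopology.pullback_stable _ k ?_
  haveI := hW v; haveI := hV₀ v; haveI := hc v
  refine GrothendieckTopology.superset_covering _ ?_ (CovAcyclic.mem_singleton (c v))
  rintro T _ ⟨_, m, _, ⟨⟩, rfl⟩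
  show S ((m ≫ c v) ≫ g v)
  rw [Category.assoc, hcg]
  exact S.downward_closed (h _ (P v) (b v)) m

end Groth.Agent.ProEtS.EtPres
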