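import Groth.Agent.ProEtS.Restr
import Groth.Agent.EtLimit.Acyclic
import Groth.Agent.EtaleSite.CechTransport

/-!
# Objects of the pro-étale site on which inverse images of injectives are compactly acyclic
-/

set_option autoImplicit false
set_option backward.isDefEq.respectTransparency false

universe u

open CategoryTheory CategoryTheory.Limits AlgebraicGeometry Opposite

noncomputable section

namespace Groth.Agent.ProEtS.Good

open Groth.Agent.ProEtS Groth.Agent.EtLimit Groth.Agent.EtLimit.FHom EpsElem Restr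
open Groth.Agent.EtColim.CohColim Groth.Agent.EtColim.CechColim Groth.Agent.EtaleSite

section Acyclic

variable {A B : Scheme.{u}}

theorem isCompactAcyclic_of_iso {G G' : EtCoh.Ab A} (e : G ≅ G') (h : IsCompactAcyclic G) :
    IsCompactAcyclic G' := by
  intro U _ _ ι _ Uf hc hq hU p x hx
  obtain ⟨y, hy⟩ := h U ι Uf hc hq hU p (chmap Uf e.inv (p + 1) x) (by
    rw [← chmap_d, hx, map_zero])
  refine ⟨chmap Uf e.hom p y, ?_⟩
  rw [← chmap_d, hy, ← chmap_comp, e.inv_hom_id]
  exact CechPre.comp_ext Uf _ fun a => by rw [comp_chmap]; rfl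

/-- Direct images along affine morphisms preserve compact acyclicity. -/
theorem isCompactAcyclic_push (f : A ⟶ B) [IsAffineHom f] {G : EtCoh.Ab A}
    (h : IsCompactAcyclic G) : IsCompactAcyclic ((EtCoh.push f).obj G) := by
  intro U _ _ ι _ Uf hc hq hU p x hx
  obtain ⟨_, _⟩ := compact_qs_bc f U
  obtain ⟨E⟩ := CechPre.nonempty_cechComplex_iso (EtCoh.bc f) Uf G.obj
  have hf : ∀ k, CompactSpace ((EtCoh.bc f).obj (Uf k).left).left ∧
      QuasiSeparatedSpace ((EtCoh.bc f).obj (Uf k).left).left := fun k => by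
    have := hc k; have := hq k
    exact compact_qs_bc f _
  obtain ⟨y, hy⟩ := h ((EtCoh.bc f).obj U) ι (CechPre.postFam (EtCoh.bc f) Uf)
    (fun k => (hf k).1) (fun k => (hf k).2) (fun z => by
      obtain ⟨k, v, hv⟩ := hU (bcFst f U z)
      obtain ⟨w, hw⟩ := exists_bc_point f (Uf k).hom z v hv
      exact ⟨k, w, hw⟩) p (E.inv.f (p + 1) x)
    ((ConcreteCategory.congr_hom (E.inv.comm (p + 1) (p + 1 + 1)) x).trans
      ((congrArg (E.inv.f (p + 1 + 1)) hx).trans (map_zero _)))
  refine ⟨E.hom.f p y, ?_⟩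
  refine (ConcreteCategory.congr_hom (E.hom.comm p (p + 1)) y).trans ?_
  refine (congrArg (E.hom.f (p + 1)) hy).trans ?_
  exact ConcreteCategory.congr_hom
    ((HomologicalComplex.eval _ _ (p + 1)).mapIso E).inv_hom_id x

/-- Inverse images along étale morphisms preserve compact acyclicity. -/
theorem isCompactAcyclic_pull (q : A ⟶ B) [Etale q] {G : EtCoh.Ab B}
    (h : IsCompactAcyclic G) : IsCompactAcyclic ((EtCoh.pull q).obj G) := by
  haveI : EtShriek.JCont q := inferInstance
  refine isCompactAcyclic_of_iso ((pullIsoRestrAlong q).app G).symm ?_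
  haveI : PreservesLimitsOfShape WalkingCospan (EtShriek.compEtale q) := by
    have : PreservesLimitsOfShape WalkingCospan (Over.map q) := by
      have : PreservesLimitsOfShape WalkingCospan (Over.map q ⋙ Over.forget B) :=
        inferInstanceAs (PreservesLimitsOfShape WalkingCospan (Over.forget A))
      exact preservesLimitsOfShape_of_reflects_of_preserves (Over.map q) (Over.forget B)
    have h' : PreservesLimitsOfShape WalkingCospan
        (EtShriek.compEtale q ⋙ Scheme.Etale.forget B) := by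
      let e : EtShriek.compEtale q ⋙ Scheme.Etale.forget B ≅ Scheme.Etale.forget A ⋙ Over.map q :=
        NatIso.ofComponents (fun _ => Over.isoMk (Iso.refl _))
      exact preservesLimitsOfShape_of_natIso e.symm
    exact preservesLimitsOfShape_of_reflects_of_preserves (EtShriek.compEtale q)
      (Scheme.Etale.forget B)
  intro U hU₁ hU₂ ι _ Uf hc hq hU p x hx
  haveI : CompactSpace ((EtShriek.compEtale q).obj U).left := hU₁
  haveI : QuasiSeparatedSpace ((EtShriek.compEtale q).obj U).left := hU₂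
  obtain ⟨E⟩ := CechPre.nonempty_cechComplex_iso (EtShriek.compEtale q) Uf G.obj
  obtain ⟨y, hy⟩ := h ((EtShriek.compEtale q).obj U) ι (CechPre.postFam (EtShriek.compEtale q) Uf)
    hc hq hU p (E.inv.f (p + 1) x)
    ((ConcreteCategory.congr_hom (E.inv.comm (p + 1) (p + 1 + 1)) x).trans
      ((congrArg (E.inv.f (p + 1 + 1)) hx).trans (map_zero _)))
  refine ⟨E.hom.f p y, ?_⟩
  refine (ConcreteCategory.congr_hom (E.hom.comm p (p + 1)) y).trans ?_
  refine (congrArg (E.hom.f (p + 1)) hy).trans ?_
  exact ConcreteCategory.congr_hom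
    ((HomologicalComplex.eval _ _ (p + 1)).mapIso E).inv_hom_id x

variable {I : Type u} [SmallCategory I] {D : I ⥤ Scheme.{u}} (S : Sys D) {c : Cone D}
  (c' : Cocone (S.pullDiag c)) [IsCofiltered I] (hc : IsLimit c)
  [∀ (i j : I) (a : i ⟶ j), IsAffineHom (D.map a)]
  [∀ i, CompactSpace (D.obj i)] [∀ i, QuasiSeparatedSpace (D.obj i)] (hc' : IsColimit c')

include hc hc' in
/-- The limit of a system of compactly acyclic sheaves is compactly acyclic. -/
theorem isCompactAcyclic_limit (hS : ∀ i, IsCompactAcyclic (S.E i)) : IsCompactAcyclic c'.pt := by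
  intro U _ _ ι _ Uf hcι hqι hU p x hx
  obtain ⟨q, U', Uf', e, w', h₁, h₂, h₃, h₄, hcov, hw⟩ :=
    Sys.exists_stage_family hc U Uf hcι hqι hU
  let π := c.π.app q
  refine exact_of_iso c'.pt.obj (Uf' := CechPre.postFam (EtCoh.bc π) Uf') e w'
    (fun k => hw k) p (fun x' hx' => ?_) x hx
  obtain ⟨E⟩ := CechPre.nonempty_cechComplex_iso (EtCoh.bc π) Uf' c'.pt.obj
  obtain ⟨hcol⟩ := S.nonempty_isColimit_pushCocone c' hc hc' q
  have hac := isCompactAcyclic_colimit hcol fun m =>
    isCompactAcyclic_push (D.map m.unop.hom) (hS m.unop.left)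
  obtain ⟨y, hy⟩ := hac U' ι Uf' h₃ h₄ hcov p ((E.hom.f (p + 1)) x') (by
    refine (ConcreteCategory.congr_hom (E.hom.comm (p + 1) (p + 1 + 1)) x').trans ?_
    exact (congrArg (E.hom.f (p + 1 + 1)) hx').trans (map_zero _))
  refine ⟨E.inv.f p y, ?_⟩
  refine (ConcreteCategory.congr_hom (E.inv.comm p (p + 1)) y).trans ?_
  refine (congrArg (E.inv.f (p + 1)) hy).trans ?_
  exact ConcreteCategory.congr_hom
    ((HomologicalComplex.eval _ _ (p + 1)).mapIso E).hom_inv_id x'

end Acyclic

variable {X : Scheme.{u}}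

/-- Qcqs objects on which restrictions of inverse images of injectives are compactly acyclic. -/
def IsGood (V : X.ProEt) : Prop :=
  CompactSpace ↥V.left ∧ QuasiSeparatedSpace ↥V.left ∧
    ∀ J : EtCoh.Ab X, Injective J → IsCompactAcyclic ((R V).obj (shf J))

theorem isGood_of_etale (V : X.ProEt) [Etale V.hom] [CompactSpace ↥V.left]
    [QuasiSeparatedSpace ↥V.left] : IsGood V := by
  refine ⟨inferInstance, inferInstance, fun J _ => isCompactAcyclic_of_iso (sectIso J V) ?_⟩
  have : Injective ((EtCoh.pull V.hom).obj J) := EtSupp.ExtZero.injective_pull V.hom J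
  exact isCompactAcyclic_of_injective _

/-- An étale qcqs object over a good object is good. -/
theorem isGood_T {V : X.ProEt} (hV : IsGood V) (W : V.left.Etale) [CompactSpace ↥W.left]
    [QuasiSeparatedSpace ↥W.left] : IsGood ((T V).obj W) := by
  refine ⟨inferInstanceAs (CompactSpace W.left), inferInstanceAs (QuasiSeparatedSpace W.left),
    fun J hJ => isCompactAcyclic_of_iso (sectIso J ((T V).obj W)) ?_⟩
  have : Etale W.hom := W.prop
  refine isCompactAcyclic_of_iso
    (((EtCoh.pull W.hom).mapIso (sectIso J V).symm) ≪≫ κ W.hom V.hom rfl J) ?_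
  exact isCompactAcyclic_pull W.hom (hV.2.2 J hJ)

/-- A limit of étale qcqs objects over a good object is good. -/
theorem isGood_limit {V : X.ProEt} (hV : IsGood V) {I : Type u} [SmallCategory I] [IsCofiltered I]
    (D : I ⥤ V.left.Etale) [∀ (i j : I) (a : i ⟶ j), IsAffineHom (D.map a).left]
    [∀ i, CompactSpace ↥(D.obj i).left] [∀ i, QuasiSeparatedSpace ↥(D.obj i).left]
    (c : Cone (D ⋙ T V))
    (hc : IsLimit ((Scheme.ProEt.forget X ⋙ Over.forget X).mapCone c)) : IsGood c.pt := by
  obtain ⟨j⟩ := IsCofiltered.nonempty (C := I)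
  let S₀ := (D ⋙ T V) ⋙ Scheme.ProEt.forget X ⋙ Over.forget X
  haveI : ∀ (i k : I) (a : i ⟶ k), IsAffineHom (S₀.map a) := fun i k a =>
    inferInstanceAs (IsAffineHom (D.map a).left)
  haveI : ∀ i, CompactSpace (S₀.obj i) := fun i => inferInstanceAs (CompactSpace (D.obj i).left)
  haveI : ∀ i, QuasiSeparatedSpace (S₀.obj i) := fun i =>
    inferInstanceAs (QuasiSeparatedSpace (D.obj i).left)
  let m : c.pt.left ⟶ S₀.obj j := (c.π.app j).left
  haveI : IsAffineHom m := isAffineHom_π_app _ _ hc (i := j)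
  haveI : CompactSpace ↥c.pt.left := QuasiCompact.compactSpace_of_compactSpace m
  haveI : QuasiSeparatedSpace ↥c.pt.left := quasiSeparatedSpace_of_quasiSeparated m
  refine ⟨inferInstance, inferInstance, fun J hJ => isCompactAcyclic_of_iso (sectIso J c.pt) ?_⟩
  let G : EtCoh.Ab (S₀.obj j) := (EtCoh.pull ((T V).obj (D.obj j)).hom).obj J
  have hG : IsCompactAcyclic G :=
    isCompactAcyclic_of_iso (sectIso J _).symm ((isGood_T hV (D.obj j)).2.2 J hJ)
  refine isCompactAcyclic_of_iso
    (κ m ((T V).obj (D.obj j)).hom (MorphismProperty.Over.w (c.π.app j)) J) ?_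
  let D' : Over j ⥤ Scheme.{u} := Over.forget j ⋙ S₀
  haveI : ∀ (i k : Over j) (a : i ⟶ k), IsAffineHom (D'.map a) :=
    fun i k a => inferInstanceAs (IsAffineHom (S₀.map a.left))
  haveI : ∀ i, CompactSpace (D'.obj i) := fun i => inferInstanceAs (CompactSpace (S₀.obj i.left))
  haveI : ∀ i, QuasiSeparatedSpace (D'.obj i) := fun i =>
    inferInstanceAs (QuasiSeparatedSpace (S₀.obj i.left))
  have hc₂ := (Functor.Initial.isLimitWhiskerEquiv (Over.forget j) _).symm hc
  refine isCompactAcyclic_limit (Sys.ofSheaf D' (Over.mkIdTerminal (X := j)) G)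
    (Sys.ofSheafCocone D' (Over.mkIdTerminal (X := j)) G
      (((Scheme.ProEt.forget X ⋙ Over.forget X).mapCone c).whisker (Over.forget j))) hc₂
    (Sys.isColimitOfSheafCocone D' (Over.mkIdTerminal (X := j)) G _) (fun i => ?_)
  let t : i ⟶ Over.mk (𝟙 j) := (Over.mkIdTerminal (X := j)).from i
  haveI : Etale (D'.map t) :=
    EpsElem.etale_left (D.map t.left)
  exact isCompactAcyclic_pull (D'.map t) hG

end Groth.Agent.ProEtS.Good
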