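import Groth.Agent.ProEtS.Affine
import Groth.Agent.ProEtS.Covers
import Groth.Agent.ProEtS.EpsElem
import Groth.Agent.AlgSpEN.HColim.Site
import Groth.Agent.AlgSpEN.HColim.Transfer
import Groth.Prelude.Def_ProEtS

/-!
# Pro-étale cohomology and filtered colimits
-/

set_option autoImplicit false
set_option backward.isDefEq.respectTransparency false
set_option backward.isDefEq.respectTransparency.types false

universe u

open CategoryTheory CategoryTheory.Limits AlgebraicGeometry Opposite

noncomputable section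

namespace Groth.Agent.ProEtS.HColim

open Groth.Agent.ProEtS Groth.Agent.AlgSpEN

variable {X : Scheme.{u}}

/-- The projection to schemes. -/
abbrev toSch (X : Scheme.{u}) : X.ProEt ⥤ Scheme.{u} := Scheme.ProEt.forget X ⋙ Over.forget X

/-- A finite jointly surjective family of qcqs objects over a quasi-separated object covers. -/
theorem mem_of_finite {U : X.ProEt} [QuasiSeparatedSpace ↥U.left] {ι : Type} [Finite ι]
    (V : ι → X.ProEt) (g : ∀ i, V i ⟶ U) [∀ i, CompactSpace ↥(V i).left]
    (hw : ∀ i, WeaklyEtale (g i).left) (hc : ∀ x, ∃ i, x ∈ Set.range (g i).left) :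
    Sieve.ofArrows V g ∈ Scheme.ProEt.topology X U := by
  refine Site.generate_mem V g ?_
  have hm : Presieve.ofArrows (fun i => (V i).left) (fun i => (g i).left) ∈
      Scheme.precoverage @WeaklyEtale U.left :=
    (Scheme.ofArrows_mem_precoverage_iff _).2 ⟨hc, hw⟩
  let 𝒰 : Scheme.Cover.{0} (Scheme.precoverage @WeaklyEtale) U.left :=
    { I₀ := ι, X := fun i => (V i).left, f := fun i => (g i).left, mem₀ := hm }
  haveI : ∀ k, CompactSpace ↥(𝒰.X k) := fun k => inferInstanceAs (CompactSpace ↥(V k).left)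
  haveI : ∀ k, QuasiCompact (𝒰.f k) := fun k => inferInstance
  haveI : Finite 𝒰.I₀ := ‹_›
  exact ⟨(Scheme.presieve₀_mem_qcPrecoverage_iff (E := 𝒰.toPreZeroHypercover)).2
    (QuasiCompactCover.of_finite (𝒰 := 𝒰)), hm⟩

/-- A covering sieve of a quasi-compact object contains a finite affine jointly surjective family. -/
theorem exists_affine_cover {U : X.ProEt} [CompactSpace ↥U.left] {S : Sieve U}
    (hS : S ∈ Scheme.ProEt.topology X U) :
    ∃ (n : ℕ) (V : Fin n → X.ProEt) (g : ∀ i, V i ⟶ U),
      (∀ i, IsAffine (V i).left) ∧ (∀ i, S (g i)) ∧ (∀ i, WeaklyEtale (g i).left) ∧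
      ∀ x, ∃ i, x ∈ Set.range (g i).left := by
  rw [Site.mem_topology_iff, Scheme.proetaleTopology,
    Precoverage.mem_toGrothendieck_iff_of_isStableUnderComposition] at hS
  obtain ⟨R, hR, hle⟩ := hS
  obtain ⟨𝒰, _, rfl⟩ := Scheme.mem_propQCPrecoverage_iff_exists_quasiCompactCover.1 hR
  obtain ⟨𝒱, f, hfin, -⟩ := QuasiCompactCover.exists_hom 𝒰
  have hmem : ∀ j, Site.under S (𝒱.f j) := fun j => by
    have h0 : Site.under S (f.h₀ j ≫ 𝒰.f (f.s₀ j)) :=
      (Site.under S).downward_closed (hle _ _ (Presieve.ofArrows.mk (f.s₀ j))) _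
    rwa [f.w₀ j] at h0
  choose V g k hg hk using hmem
  have hw : ∀ j, WeaklyEtale (𝒱.f j) := 𝒱.map_prop
  let W : 𝒱.I₀ → X.ProEt := fun j => Scheme.ProEt.mk (𝒱.f j ≫ U.hom)
  let a : ∀ j, W j ⟶ U := fun j => MorphismProperty.Over.homMk (𝒱.f j) rfl trivial
  obtain ⟨n, ⟨e⟩⟩ := @Finite.exists_equiv_fin 𝒱.I₀ hfin
  refine ⟨n, fun i => W (e.symm i), fun i => a (e.symm i),
    fun i => inferInstanceAs (IsAffine (Spec _)), fun i => ?_, fun i => hw _, fun x => ?_⟩
  swap
  · refine ⟨e (𝒱.idx x), ?_⟩
    exact (fun j hj => hj ▸ 𝒱.covers x : ∀ j, j = 𝒱.idx x → x ∈ Set.range (𝒱.f j)) _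
      (e.symm_apply_apply _)
  show S (a (e.symm i))
  generalize e.symm i = j
  let b : W j ⟶ V j := MorphismProperty.Over.homMk (k j)
    (((congrArg (k j ≫ ·) (Over.w (g j).hom)).symm.trans
      ((Category.assoc _ _ _).symm.trans (congrArg (· ≫ U.hom) (hk j)))) :) trivial
  have : a j = b ≫ g j := by
    apply (Scheme.ProEt.forget X).map_injective
    exact Over.OverMorphism.ext (hk j).symm
  rw [this]
  exact S.downward_closed (hg j) b

/-- Fibre products of affine schemes over quasi-separated schemes are qcqs. -/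
theorem qcqs_pullback {A B S : Scheme.{u}} [IsAffine A] [IsAffine B] [QuasiSeparatedSpace ↥S]
    (a : A ⟶ S) (b : B ⟶ S) :
    CompactSpace ↥(pullback a b) ∧ QuasiSeparatedSpace ↥(pullback a b) := by
  haveI : QuasiCompact b := inferInstance
  haveI : IsSeparated b := inferInstance
  have h : CompactSpace ↥(pullback a b) := QuasiCompact.compactSpace_of_compactSpace (pullback.fst a b)
  have : (pullback a b).IsSeparated :=
    ⟨by rw [show terminal.from (pullback a b) = pullback.fst a b ≫ terminal.from _ from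
      terminal.hom_ext _ _]; infer_instance⟩
  exact ⟨h, inferInstance⟩

/-- A small model of the small pro-étale site. -/
abbrev C' (X : Scheme.{u}) : Type (u + 1) := ULiftHom.{u + 1} X.ProEt

/-- The topology of the small model. -/
abbrev J' (X : Scheme.{u}) : GrothendieckTopology (C' X) :=
  (ULiftHom.equiv (C := X.ProEt)).inverse.inducedTopology (Scheme.ProEt.topology X)

/-- The underlying object. -/
abbrev dn (V : C' X) : X.ProEt := ULiftHom.down.obj V

theorem mem_J' {V : C' X} (T : Sieve V) :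
    T ∈ J' X V ↔ T.functorPushforward ULiftHom.down ∈ Scheme.ProEt.topology X (dn V) :=
  Functor.mem_inducedTopology_iff_of_isCoverDense _ _ _

theorem mem_J'_of_finite {V : C' X} [QuasiSeparatedSpace ↥(dn V).left] (T : Sieve V) {ι : Type}
    [Finite ι] (W : ι → C' X) (g : ∀ i, W i ⟶ V) [∀ i, CompactSpace ↥(dn (W i)).left]
    (hc : ∀ x, ∃ i, x ∈ Set.range (ULiftHom.down.map (g i)).left)
    (hT : ∀ i, T (g i)) : T ∈ J' X V := by
  rw [mem_J']
  refine GrothendieckTopology.superset_covering _ ?_ (mem_of_finite (fun i => dn (W i))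
    (fun i => ULiftHom.down.map (g i)) (fun i => EpsElem.weaklyEtale_left _) hc)
  rw [Sieve.ofArrows, Sieve.generate_le_iff]
  rintro _ _ ⟨i⟩
  exact Sieve.image_mem_functorPushforward _ _ (hT i)

theorem isQCSite (V : C' X) [CompactSpace ↥(dn V).left] [QuasiSeparatedSpace ↥(dn V).left] :
    ToposFin.IsQCSite (J' X) V := by
  intro T hT
  obtain ⟨n, W, g, hW, hg, -, hc⟩ := exists_affine_cover ((mem_J' T).1 hT)
  choose Y f k hf hk using hg
  refine ⟨n, fun i => ULiftHom.objUp (W i), fun i => ULiftHom.up.map (k i) ≫ f i,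
    fun i => T.downward_closed (hf i) _, ?_⟩
  haveI : ∀ i, IsAffine (dn (ULiftHom.objUp (W i))).left := fun i => hW i
  refine mem_J'_of_finite _ (fun i => ULiftHom.objUp (W i)) _ (fun x => ?_)
    (fun i => Sieve.ofArrows_mk _ _ i)
  obtain ⟨i, hi⟩ := hc x
  refine ⟨i, ?_⟩
  have e : ULiftHom.down.map (ULiftHom.up.map (k i) ≫ f i) = g i := by
    rw [Functor.map_comp]; exact (hk i).symm
  rw [e]
  exact hi

theorem qsite [CompactSpace ↥X] [QuasiSeparatedSpace ↥X] [HasPullbacks (C' X)]
    [HasBinaryProducts (C' X)] :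
    AlgSpEN.HColim.QSite (J' X) (fun V => IsAffine (dn V).left)
      (fun V => CompactSpace (dn V).left ∧ QuasiSeparatedSpace (dn V).left) where
  sub V hV := ⟨inferInstance, inferInstance⟩
  cover V := by
    rw [mem_J']
    refine Covers.mem_of_refine _ (fun i : (dn V).left.affineOpens => i.1)
      (Covers.affineOpens_cover _) _ (fun i => 𝟙 _) fun i => ?_
    have : IsAffine (i.1 : Scheme.{u}) := i.2
    let W : X.ProEt := Scheme.ProEt.mk (i.1.ι ≫ (dn V).hom)
    let g : W ⟶ dn V := MorphismProperty.Over.homMk i.1.ι rfl trivial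
    refine ⟨W, g, 𝟙 _, ?_, rfl⟩
    exact ⟨ULiftHom.objUp W, ULiftHom.up.map g, 𝟙 _,
      ⟨_, 𝟙 _, ULiftHom.up.map g, (show IsAffine W.left from this), Category.id_comp _⟩, (Category.id_comp g).symm⟩
  qc V hV := by
    have := hV.1
    have := hV.2
    exact isQCSite V
  pb U V W f g hU hV hW := by
    have : (ULiftHom.down (C := X.ProEt)).IsEquivalence := ULiftHom.equiv.isEquivalence_inverse
    have := hU.1
    have := hU.2
    have sq := ((IsPullback.of_hasPullback f g).map ULiftHom.down).map (toSch X)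
    let P := pullback ((toSch X).map (ULiftHom.down.map f)) ((toSch X).map (ULiftHom.down.map g))
    haveI : IsAffine ((toSch X).obj (dn V)) := hV
    haveI : IsAffine ((toSch X).obj (dn W)) := hW
    haveI : QuasiSeparatedSpace ↥((toSch X).obj (dn U)) := hU.2
    have hP := qcqs_pullback ((toSch X).map (ULiftHom.down.map f)) ((toSch X).map (ULiftHom.down.map g))
    have := hP.1
    have := hP.2
    let e' : P ≅ (dn (pullback f g)).left := sq.isoPullback.symm
    exact ⟨e'.schemeIsoToHomeo.compactSpace,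
      (quasiSeparatedSpace_congr e'.schemeIsoToHomeo).1 inferInstance⟩
  prod V W hV hW := by
    have : (ULiftHom.down (C := X.ProEt)).IsEquivalence := ULiftHom.equiv.isEquivalence_inverse
    let e : (dn (V ⨯ W)).left ≅ pullback (dn V).hom (dn W).hom :=
      (toSch X).mapIso (PreservesLimitPair.iso ULiftHom.down V W) ≪≫
        (Over.forget X).mapIso (PreservesLimitPair.iso (Scheme.ProEt.forget X) (dn V) (dn W)) ≪≫
        Over.prodLeftIsoPullback _ _
    haveI : IsAffine (dn V).left := hV
    haveI : IsAffine (dn W).left := hW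
    haveI : IsAffine ((𝟭 Scheme.{u}).obj (dn V).left) := hV
    haveI : IsAffine ((𝟭 Scheme.{u}).obj (dn W).left) := hW
    haveI : QuasiSeparatedSpace ↥((Functor.fromPUnit X).obj (dn V).right) :=
      inferInstanceAs (QuasiSeparatedSpace ↥X)
    have hP := qcqs_pullback (dn V).hom (dn W).hom
    have := hP.1
    have := hP.2
    exact ⟨e.symm.schemeIsoToHomeo.compactSpace,
      (quasiSeparatedSpace_congr e.symm.schemeIsoToHomeo).1 inferInstance⟩
  terminal := by
    obtain ⟨t, ht⟩ := isCompact_univ.elim_finite_subcover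
      (fun i : X.affineOpens => (i.1 : Set ↥X)) (fun i => i.1.isOpen)
      (fun x _ => Set.mem_iUnion.2 (Covers.affineOpens_cover X x))
    obtain ⟨n, ⟨e⟩⟩ := Finite.exists_equiv_fin t
    refine ⟨n, fun k => ULiftHom.objUp (Scheme.ProEt.mk ((e.symm k).1.1.ι : _ ⟶ X)),
      fun k => (e.symm k).1.2, fun V => ?_⟩
    rw [mem_J']
    refine Covers.mem_of_refine _ (fun i : t => (dn V).hom ⁻¹ᵁ i.1.1) (fun x => ?_) _
      (fun i => 𝟙 _) fun i => ?_
    · obtain ⟨i, hi, hx⟩ := Set.mem_iUnion₂.1 (ht (Set.mem_univ ((dn V).hom x)))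
      exact ⟨⟨i, hi⟩, hx⟩
    let O : (dn V).left.Opens := (dn V).hom ⁻¹ᵁ i.1.1
    let W : X.ProEt := Scheme.ProEt.mk (O.ι ≫ (dn V).hom)
    let g : W ⟶ dn V := MorphismProperty.Over.homMk O.ι rfl trivial
    refine ⟨W, g, 𝟙 _, ?_, rfl⟩
    refine ⟨ULiftHom.objUp W, ULiftHom.up.map g, 𝟙 _,
      ⟨_, 𝟙 _, ULiftHom.up.map g, ?_, Category.id_comp _⟩, (Category.id_comp g).symm⟩
    refine ⟨e i, ⟨ULiftHom.up.map (MorphismProperty.Over.homMk
      (IsOpenImmersion.lift (e.symm (e i)).1.1.ι (O.ι ≫ (dn V).hom) ?_)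
      (IsOpenImmersion.lift_fac _ _ _) trivial)⟩⟩
    rw [Scheme.Opens.range_ι, e.symm_apply_apply]
    rintro _ ⟨z, rfl⟩
    exact z.2

/-- Cohomology of a qcqs scheme commutes with filtered colimits. -/
theorem preservesFilteredColimits (X : Scheme.{u}) [CompactSpace ↥X] [QuasiSeparatedSpace ↥X] (n : ℕ)
    (Λ : Type (u + 1)) [SmallCategory Λ] [IsFiltered Λ] :
    PreservesColimitsOfShape Λ (_root_.ProEtS.HPF X n) := by
  have : (ULiftHom.down (C := X.ProEt)).IsEquivalence := ULiftHom.equiv.isEquivalence_inverse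
  have : HasPullbacks (C' X) := Adjunction.hasLimitsOfShape_of_equivalence (ULiftHom.down (C := X.ProEt))
  have : HasBinaryProducts (C' X) := Adjunction.hasLimitsOfShape_of_equivalence (ULiftHom.down (C := X.ProEt))
  exact AlgSpEN.HColim.preservesColimitsOfShape_functorH_of_equiv (Scheme.ProEt.topology X) (J' X)
    ULiftHom.equiv n (AlgSpEN.HColim.preservesColimitsOfShape_functorH qsite Λ n)

open CoproductsFromFiniteFiltered in
/-- An additive functor preserving filtered colimits preserves coproducts. -/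
theorem preservesCoproducts_of_filtered {A B : Type*} [Category A] [Category B] [Preadditive A]
    [Preadditive B] [HasFiniteBiproducts A] (F : A ⥤ B) [F.Additive] {α : Type*}
    [HasColimitsOfShape (Finset (Discrete α)) A]
    (h : PreservesColimitsOfShape (Finset (Discrete α)) F) :
    PreservesColimitsOfShape (Discrete α) F := by
  refine ⟨fun {K} => preservesColimit_of_preserves_colimit_cocone
    (liftToFinsetColimitCocone K).isColimit ?_⟩
  let G := liftToFinsetObj K
  have hc : IsColimit (F.mapCocone (colimit.cocone G)) := isColimitOfPreserves F (colimit.isColimit G)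
  haveI : PreservesFiniteBiproducts F := inferInstance
  haveI : PreservesFiniteCoproducts F :=
    ⟨fun _ => preservesCoproductsOfShape_of_preservesBiproductsOfShape F⟩
  have hs : ∀ S : Finset (Discrete α), IsColimit (F.mapCocone
      (colimit.cocone (Discrete.functor fun x : S => K.obj x))) :=
    fun S => isColimitOfPreserves F (colimit.isColimit _)
  let leg : ∀ (s : Cocone (K ⋙ F)) (S : Finset (Discrete α)),
      F.obj (G.obj S) ⟶ s.pt := fun s S => (hs S).desc
        { pt := s.pt, ι := Discrete.natTrans fun x => s.ι.app x.as.1 }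
  have hleg : ∀ (s : Cocone (K ⋙ F)) (S : Finset (Discrete α)) (x : S),
      F.map (Sigma.ι (fun x : S => K.obj x) x) ≫ leg s S = s.ι.app x.1 := fun s S x =>
    (hs S).fac _ ⟨x⟩
  let C₀ : Cocone (K ⋙ F) → Cocone (G ⋙ F) := fun s =>
    { pt := s.pt
      ι :=
        { app := leg s
          naturality := fun S T φ => (hs S).hom_ext fun ⟨x⟩ => by
            show F.map (Sigma.ι (fun x : S => K.obj x) x) ≫ F.map (G.map φ) ≫ leg s T =
              F.map (Sigma.ι (fun x : S => K.obj x) x) ≫ leg s S ≫ 𝟙 _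
            rw [← Functor.map_comp_assoc, Category.comp_id, hleg]
            erw [Sigma.ι_desc]
            exact hleg s T _ } }
  exact
    { desc := fun s => hc.desc (C₀ s)
      fac := fun s j => by
        show F.map (Sigma.ι (fun x : ({j} : Finset (Discrete α)) => K.obj x) ⟨j, by simp⟩ ≫
          colimit.ι G {j}) ≫ hc.desc (C₀ s) = _
        rw [Functor.map_comp, Category.assoc]
        erw [hc.fac (C₀ s) {j}]
        exact hleg s _ _
      uniq := fun s m hm => hc.hom_ext fun S => (hs S).hom_ext fun ⟨x⟩ => by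
        refine Eq.trans ?_ (congrArg (F.map (Sigma.ι (fun x : S => K.obj x) x) ≫ ·)
          (hc.fac (C₀ s) S).symm)
        refine Eq.trans ?_ (hleg s S x).symm
        refine Eq.trans ?_ (hm x.1)
        show F.map (Sigma.ι (fun x : S => K.obj x) x) ≫ F.map (colimit.ι G S) ≫ m = F.map _ ≫ m
        rw [← Functor.map_comp_assoc]
        congr 2
        show Sigma.ι (fun x : S => K.obj x) x ≫ colimit.ι G S =
          Sigma.ι (fun y : ({x.1} : Finset (Discrete α)) => K.obj y) ⟨x.1, by simp⟩ ≫ colimit.ι G {x.1}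
        rw [← colimit.w G (homOfLE (x := {x.1}) (y := S) (by simp))]
        erw [Sigma.ι_desc_assoc] }

end Groth.Agent.ProEtS.HColim
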