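import Groth.Agent.ProEtS.Sheafify
import Mathlib.CategoryTheory.Functor.KanExtension.Adjunction
import Mathlib.CategoryTheory.Limits.Types.Filtered

/-!
The presheaf pullback along base change of pro-etale sites turns clopen decompositions into products.
-/

universe u

open CategoryTheory CategoryTheory.Limits AlgebraicGeometry Opposite

namespace Groth.Agent.ProEtS.LanGlue

open Groth.Agent.ProEtS

variable {X Y : Scheme.{u}}

set_option backward.isDefEq.respectTransparency.types false in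
/-- Finite families of objects of the small pro-etale site have a disjoint union. -/
theorem exists_sigma {ι : Type u} (V : ι → Y.ProEt) :
    ∃ (S : Y.ProEt) (a : ∀ i, V i ⟶ S), (∀ i, IsOpenImmersion (a i).left) ∧
      (∀ i j, i ≠ j → Disjoint (Set.range (a i).left) (Set.range (a j).left)) ∧
      ∀ x, ∃ i, x ∈ Set.range (a i).left := by
  let Z : ι → Scheme.{u} := fun i => (V i).left
  let d : ∐ Z ⟶ Y := Sigma.desc fun i => (V i).hom
  have : WeaklyEtale d := IsZariskiLocalAtSource.sigmaDesc fun i => (V i).prop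
  refine ⟨Scheme.ProEt.mk d, fun i => MorphismProperty.Over.homMk (Sigma.ι Z i) (Sigma.ι_desc _ i) trivial,
    fun i => inferInstanceAs (IsOpenImmersion (Sigma.ι Z i)), fun i j hij => Set.disjoint_left.2 ?_,
    fun x => ⟨(sigmaOpenCover Z).idx x, (sigmaOpenCover Z).covers x⟩⟩
  rintro x ⟨y, rfl⟩ ⟨z, hz⟩
  obtain ⟨h1, -⟩ := Sigma.mk.inj_iff.1 ((sigmaι_eq_iff Z j i z y).1 hz)
  exact hij h1.symm

set_option backward.isDefEq.respectTransparency.types false in
theorem glues_lan (f : X ⟶ Y) (F : Sheaf (Scheme.ProEt.topology Y) (Type (u + 1))) (W : X.ProEt) :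
    Sheafify.Glues ((_root_.ProEtS.bcP f).op.lan.obj F.obj) W := by
  have : RepresentablyFlat (_root_.ProEtS.bcP f) := flat_of_preservesFiniteLimits _
  intro n O _ hd hu x
  let B := _root_.ProEtS.bcP f
  let P := B.op.lan.obj F.obj
  let η : F.obj ⟶ B.op ⋙ P := B.op.lanUnit.app F.obj
  have hp := Functor.isPointwiseLeftKanExtensionLeftKanExtensionUnit B.op F.obj
  have hsurj : ∀ (Z : X.ProEt) (p : P.obj (op Z)), ∃ (V : Y.ProEt) (a : Z ⟶ B.obj V)
      (s : F.obj.obj (op V)), P.map a.op (η.app (op V) s) = p := by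
    intro Z p
    obtain ⟨j, s, hs⟩ := Types.jointly_surjective _ (hp (op Z)) p
    exact ⟨j.left.unop, j.hom.unop, s, hs⟩
  have heq : ∀ (Z : X.ProEt) (V₁ V₂ : Y.ProEt) (a₁ : Z ⟶ B.obj V₁) (a₂ : Z ⟶ B.obj V₂)
      (s₁ : F.obj.obj (op V₁)) (s₂ : F.obj.obj (op V₂)),
      P.map a₁.op (η.app (op V₁) s₁) = P.map a₂.op (η.app (op V₂) s₂) →
      ∃ (V : Y.ProEt) (a : Z ⟶ B.obj V) (g₁ : V ⟶ V₁) (g₂ : V ⟶ V₂),
        a ≫ B.map g₁ = a₁ ∧ a ≫ B.map g₂ = a₂ ∧ F.obj.map g₁.op s₁ = F.obj.map g₂.op s₂ := by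
    intro Z V₁ V₂ a₁ a₂ s₁ s₂ h
    obtain ⟨k, g₁, g₂, hk⟩ := (Types.FilteredColimit.isColimit_eq_iff _ (hp (op Z))
      (i := CostructuredArrow.mk (Y := op V₁) a₁.op) (j := CostructuredArrow.mk (Y := op V₂) a₂.op)).1 h
    exact ⟨k.left.unop, k.hom.unop, g₁.left.unop, g₂.left.unop,
      congrArg Quiver.Hom.unop (CostructuredArrow.w g₁), congrArg Quiver.Hom.unop (CostructuredArrow.w g₂), hk⟩
  have hnat : ∀ {V V' : Y.ProEt} (g : V' ⟶ V) (s : F.obj.obj (op V)),
      η.app (op V') (F.obj.map g.op s) = P.map (B.map g).op (η.app (op V) s) := fun g s =>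
    NatTrans.naturality_apply η g.op s
  let ι := ULift.{u} (Fin n)
  let Z : ι → X.ProEt := fun k => Scheme.ProEt.mk ((O k.down).ι ≫ W.hom)
  let a : ∀ k, Z k ⟶ W := fun k => MorphismProperty.Over.homMk (O k.down).ι
  have hr : ∀ k, Set.range (a k).left = (O k.down : Set ↥W.left) := fun k => Scheme.Opens.range_ι _
  have hcolim := Sheafify.isColimitCofan Z a (fun k => inferInstanceAs (IsOpenImmersion (O k.down).ι))
    (fun i j hij => by rw [hr, hr]; exact hd fun h => hij (ULift.ext _ _ h))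
    (fun x => by
      obtain ⟨k, hk⟩ := Set.mem_iUnion.1 (Set.eq_univ_iff_forall.1 hu x)
      exact ⟨⟨k⟩, hr ⟨k⟩ ▸ hk⟩)
  have hcomp : ∀ {A A' A'' : X.ProEt} (u : A ⟶ A') (v : A' ⟶ A'') (p : P.obj (op A'')),
      P.map (u ≫ v).op p = P.map u.op (P.map v.op p) := fun u v p => by
    rw [op_comp, Functor.map_comp]; rfl
  choose V b s hs using fun k : ι => hsurj _ (x k.down)
  obtain ⟨S, c, hco, hcd, hcc⟩ := exists_sigma V
  obtain ⟨σ, hσ, -⟩ := WC.existsUnique_glue F V c hco hcd hcc s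
  let β : W ⟶ B.obj S := Cofan.IsColimit.desc hcolim fun k => b k ≫ B.map (c k)
  have hβ : ∀ k, a k ≫ β = b k ≫ B.map (c k) := fun k => Cofan.IsColimit.fac hcolim _ k
  have hmain : ∀ k : ι, P.map (a k).op (P.map β.op (η.app (op S) σ)) = x k.down := by
    intro k
    rw [← hcomp, hβ, hcomp, ← hnat, hσ k, hs]
  refine ⟨P.map β.op (η.app (op S) σ), fun k => hmain ⟨k⟩, fun y hy => ?_⟩
  obtain ⟨S', β', σ', rfl⟩ := hsurj _ y
  choose V' e g g' he he' hgg using fun k : ι => heq (Z k) S' S (a k ≫ β') (a k ≫ β) σ' σ (by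
    rw [hcomp, hcomp, hmain k]
    exact hy k.down)
  obtain ⟨S'', c', hco', hcd', hcc'⟩ := exists_sigma V'
  have hcolim' := Sheafify.isColimitCofan V' c' hco' hcd' hcc'
  let G : S'' ⟶ S' := Cofan.IsColimit.desc hcolim' g
  let G' : S'' ⟶ S := Cofan.IsColimit.desc hcolim' g'
  have hG : ∀ k, c' k ≫ G = g k := fun k => Cofan.IsColimit.fac hcolim' _ k
  have hG' : ∀ k, c' k ≫ G' = g' k := fun k => Cofan.IsColimit.fac hcolim' _ k
  let γ : W ⟶ B.obj S'' := Cofan.IsColimit.desc hcolim fun k => e k ≫ B.map (c' k)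
  have hγ : ∀ k, a k ≫ γ = e k ≫ B.map (c' k) := fun k => Cofan.IsColimit.fac hcolim _ k
  have h1 : γ ≫ B.map G = β' := Cofan.IsColimit.hom_ext hcolim _ _ fun k => by
    show a k ≫ _ = a k ≫ _
    rw [← Category.assoc, hγ, Category.assoc, ← Functor.map_comp, hG, he]
  have h2 : γ ≫ B.map G' = β := Cofan.IsColimit.hom_ext hcolim _ _ fun k => by
    show a k ≫ _ = a k ≫ _
    rw [← Category.assoc, hγ, Category.assoc, ← Functor.map_comp, hG', he']
  have hF : F.obj.map G.op σ' = F.obj.map G'.op σ := by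
    refine (WC.existsUnique_glue F V' c' hco' hcd' hcc'
      fun k => F.obj.map (g' k).op σ).unique (fun k => ?_) fun k => ?_
    · rw [← hgg k, ← hG k, op_comp, Functor.map_comp]; rfl
    · rw [← hG' k, op_comp, Functor.map_comp]; rfl
  show P.map β'.op (η.app (op S') σ') = P.map β.op (η.app (op S) σ)
  rw [← h1, ← h2, hcomp, hcomp, ← hnat, ← hnat, hF]

end Groth.Agent.ProEtS.LanGlue
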