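import Groth.Agent.ProEtS.ClosedCounit
import Groth.Agent.ProEtW.PairLift
import Mathlib.AlgebraicGeometry.Morphisms.Flat

/-!
# Initial neighbourhoods of affine w-contractible objects over a closed subscheme
-/

set_option autoImplicit false

universe u

open CategoryTheory CategoryTheory.Limits AlgebraicGeometry Opposite

namespace Groth.Agent.ProEtS.LiftObj

variable {Z X : Scheme.{u}} (i : Z ⟶ X)

/-- An affine w-contractible object over `Z` lying over an affine open of `X`. -/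
structure Good (W : Z.ProEt) : Prop where
  affine : IsAffine W.left
  wc : EtPBC.IsWContractible ↥Γ(W.left, ⊤)
  small : ∃ U : X.Opens, IsAffineOpen U ∧ ∀ w : W.left, i (W.hom w) ∈ U

/-- Morphisms to `V` correspond to morphisms to its base change. -/
def IsInitialNhd (W : Z.ProEt) (W' : X.ProEt) (a : W ⟶ (_root_.ProEtS.bcP i).obj W') : Prop :=
  ∀ (V : X.ProEt) (b : W ⟶ (_root_.ProEtS.bcP i).obj V),
    ∃! g : W' ⟶ V, a ≫ (_root_.ProEtS.bcP i).map g = b

set_option backward.isDefEq.respectTransparency.types false in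
/-- Morphisms out of an affine scheme agreeing on a closed subscheme meeting the closures of all points. -/
theorem eq_of_agree {P V S R : Scheme.{u}} (v : V ⟶ S) [WeaklyEtale v] (c : R ⟶ P)
    (hc : ∀ x : P, ∃ y : R, x ⤳ c y) (g g' : P ⟶ V) (w : g ≫ v = g' ≫ v) (h : c ≫ g = c ≫ g') :
    g = g' := by
  let Δ := pullback.diagonal v
  let k := pullback.lift g g' w
  let p := pullback.snd Δ k
  haveI : Flat p := MorphismProperty.pullback_snd _ _ (inferInstance : Flat Δ)
  haveI : Surjective p := ⟨fun x => by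
    obtain ⟨y, hy⟩ := hc x
    have hk : c ≫ k = (c ≫ g) ≫ Δ := by
      apply pullback.hom_ext
      · simp [k, Δ]
        exact congrArg (c ≫ ·) (pullback.lift_fst _ _ _)
      · simp [k, Δ, h]
        exact congrArg (c ≫ ·) (pullback.lift_snd _ _ _)
    have hmem : c y ∈ Set.range p := ⟨pullback.lift (c ≫ g) c hk.symm y,
      congrArg (fun m : R ⟶ P => m y) (pullback.lift_snd (c ≫ g) c hk.symm)⟩
    obtain ⟨z, hz⟩ := hmem
    obtain ⟨z', -, hz'⟩ := Flat.generalizingMap p (hz ▸ hy : x ⤳ p z)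
    exact ⟨z', hz'⟩⟩
  haveI : Epi p := Flat.epi_of_flat_of_surjective p
  have e : pullback.fst Δ k ≫ Δ = p ≫ k := pullback.condition
  have e1 := congrArg (· ≫ pullback.fst v v) e
  have e2 := congrArg (· ≫ pullback.snd v v) e
  simp only [Category.assoc, Δ, k, pullback.lift_fst, pullback.lift_snd, pullback.diagonal_fst,
    pullback.diagonal_snd, Category.comp_id] at e1 e2
  exact (cancel_epi p).1 (e1.symm.trans e2)

set_option backward.isDefEq.respectTransparency.types false in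
theorem exists_affine_factor {Q W : Scheme.{u}} [IsAffine W] (hW : EtPBC.IsWContractible ↥Γ(W, ⊤))
    (c : W ⟶ Q) :
    ∃ (n : ℕ) (O : Fin n → Q.Opens) (_ : ∀ k, IsAffineOpen (O k)) (s : W ⟶ ∐ fun k => (O k : Scheme.{u})),
      s ≫ Sigma.desc (fun k => (O k).ι) = c := by
  choose O hO hxO using fun x : W => exists_isAffineOpen_mem_and_subset (x := c x) (U := ⊤) trivial
  choose A hA hxA hle using fun x : W =>
    exists_isAffineOpen_mem_and_subset (x := x) (U := c ⁻¹ᵁ O x) (hxO x).1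
  obtain ⟨t, ht⟩ := isCompact_univ.elim_finite_subcover (fun x : W => (A x : Set W))
    (fun x => (A x).isOpen) fun x _ => Set.mem_iUnion.2 ⟨x, hxA x⟩
  let n := t.card
  let x : Fin n → W := fun k => (t.equivFin.symm k).1
  haveI : ∀ k, IsAffine (A (x k) : Scheme.{u}) := fun k => hA _
  let p : (∐ fun k => (A (x k) : Scheme.{u})) ⟶ W := Sigma.desc fun k => (A (x k)).ι
  haveI : WeaklyEtale p := IsZariskiLocalAtSource.sigmaDesc fun k => inferInstance
  haveI : Surjective p := ⟨fun y => by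
    obtain ⟨z, hz, hyz⟩ := Set.mem_iUnion₂.1 (ht (Set.mem_univ y))
    have hk : x (t.equivFin ⟨z, hz⟩) = z := by simp [x]
    obtain ⟨y', hy'⟩ : y ∈ Set.range (A (x (t.equivFin ⟨z, hz⟩))).ι := by
      rw [Scheme.Opens.range_ι, hk]; exact hyz
    refine ⟨Sigma.ι (fun k => (A (x k) : Scheme.{u})) _ y', ?_⟩
    rw [← hy', ← Scheme.Hom.comp_apply, Sigma.ι_desc]⟩
  obtain ⟨σ, hσ⟩ := Affine.exists_section p hW
  let l : ∀ k, (A (x k) : Scheme.{u}) ⟶ (O (x k) : Scheme.{u}) := fun k =>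
    W.homOfLE (hle (x k)) ≫ c ∣_ O (x k)
  refine ⟨n, fun k => O (x k), fun k => hO _, σ ≫ Limits.Sigma.map l, ?_⟩
  have : Limits.Sigma.map l ≫ Sigma.desc (fun k => (O (x k)).ι) = p ≫ c := by
    apply Sigma.hom_ext
    intro k
    simp [p, l]
  rw [Category.assoc, this, reassoc_of% hσ]

variable [IsClosedImmersion i]

set_option backward.isDefEq.respectTransparency.types false in
/-- Good objects have initial neighbourhoods. -/
theorem exists_initial {W : Z.ProEt} (hW : Good i W) :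
    ∃ (W' : X.ProEt) (a : W ⟶ (_root_.ProEtS.bcP i).obj W'), IsAffine W'.left ∧
      IsIso a ∧ IsInitialNhd i W W' a := by
  haveI := hW.affine
  obtain ⟨U, hU, hWU⟩ := hW.small
  haveI : WeaklyEtale W.hom := W.prop
  let V₀ : X.ProEt := Scheme.ProEt.mk U.ι
  haveI hV₀ : IsAffine V₀.left := hU
  have hr : Set.range (W.hom ≫ i) ⊆ Set.range U.ι := by
    rw [Scheme.Opens.range_ι]
    rintro _ ⟨w, rfl⟩
    exact hWU w
  let l₀ : W.left ⟶ (U : Scheme.{u}) := IsOpenImmersion.lift U.ι (W.hom ≫ i) hr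
  have hl₀ : l₀ ≫ U.ι = W.hom ≫ i := IsOpenImmersion.lift_fac _ _ _
  let a₀ : W ⟶ (_root_.ProEtS.bcP i).obj V₀ := MorphismProperty.Over.homMk
    (pullback.lift l₀ W.hom hl₀)
    (pullback.lift_snd _ _ _)
  let Y := ((_root_.ProEtS.bcP i).obj V₀).left
  let p : Y ⟶ V₀.left := pullback.fst V₀.hom i
  haveI : IsClosedImmersion p := MorphismProperty.pullback_fst _ _ ‹IsClosedImmersion i›
  obtain ⟨hY, hπ⟩ := (HasAffineProperty.iff_of_isAffine (P := @IsClosedImmersion) (f := p)).1 ‹_›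
  haveI : IsAffine Y := hY
  let b₀ : W.left ⟶ Y := a₀.left
  let : Algebra ↥Γ(Y, ⊤) ↥Γ(W.left, ⊤) := b₀.appTop.hom.toAlgebra
  haveI : Algebra.WeaklyEtale ↥Γ(Y, ⊤) ↥Γ(W.left, ⊤) := by
    haveI : WeaklyEtale b₀ := EpsElem.weaklyEtale_left a₀
    exact (Affine.weaklyEtale_SpecMap_iff _ _).1
      ((MorphismProperty.arrow_mk_iso_iff @WeaklyEtale (arrowIsoSpecΓOfIsAffine b₀)).1 ‹_›)
  obtain ⟨C, _, _, q, hwC, hq, hk, hcomm, hhens⟩ :=
    ProEtW.PairLift.exists_henselian_lift p.appTop.hom hπ (R := ↥Γ(W.left, ⊤)) hW.wc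
  let g₀ : Spec (.of C) ⟶ V₀.left :=
    Spec.map (CommRingCat.ofHom (algebraMap ↥Γ(V₀.left, ⊤) C)) ≫ V₀.left.isoSpec.inv
  haveI : WeaklyEtale (Spec.map (CommRingCat.ofHom (algebraMap ↥Γ(V₀.left, ⊤) C))) :=
    (Affine.weaklyEtale_SpecMap_iff _ _).2 hwC
  haveI : WeaklyEtale g₀ := inferInstanceAs (WeaklyEtale (_ ≫ _))
  haveI : WeaklyEtale V₀.hom := V₀.prop
  let W' : X.ProEt := Scheme.ProEt.mk (g₀ ≫ V₀.hom)
  let cl : W.left ⟶ Spec (.of C) := W.left.isoSpec.hom ≫ Spec.map (CommRingCat.ofHom q)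
  have sq : IsPullback cl b₀ g₀ p := by
    have hpo := isPullback_SpecMap_of_isPushout _ _ _ _ (ClosedLift.isPushout_of_surjective
      (CommRingCat.ofHom (algebraMap ↥Γ(V₀.left, ⊤) C)) p.appTop (CommRingCat.ofHom q)
      b₀.appTop (CommRingCat.hom_ext (RingHom.ext hcomm)) hπ hq hk.le)
    refine hpo.of_iso W.left.isoSpec.symm (Iso.refl _) Y.isoSpec.symm V₀.left.isoSpec.symm ?_ ?_ ?_ ?_
    · simp [cl]
    · simp only [Iso.symm_hom, Scheme.isoSpec_inv_naturality]
    · simp [g₀]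
    · simp only [Iso.symm_hom, Scheme.isoSpec_inv_naturality]
  have sq' : IsPullback cl (b₀ ≫ pullback.snd V₀.hom i) (g₀ ≫ V₀.hom) i :=
    sq.paste_vert (IsPullback.of_hasPullback V₀.hom i)
  let e := sq'.isoPullback
  have hsnd : e.hom ≫ pullback.snd (g₀ ≫ V₀.hom) i = W.hom :=
    sq'.isoPullback_hom_snd.trans (Over.w a₀.hom)
  let a : W ⟶ (_root_.ProEtS.bcP i).obj W' :=
    (MorphismProperty.Over.isoMk (show W.left ≅ ((_root_.ProEtS.bcP i).obj W').left from e) hsnd).hom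
  have ha : a.left ≫ pullback.fst W'.hom i = cl := sq'.isoPullback_hom_fst
  refine ⟨W', a, inferInstanceAs (IsAffine (Spec (.of C))), inferInstanceAs (IsIso (Iso.hom _)), ?_⟩
  intro V b
  haveI : WeaklyEtale V.hom := V.prop
  let β : W.left ⟶ V.left := b.left ≫ pullback.fst V.hom i
  -- reformulation
  have hiff : ∀ g : W' ⟶ V, a ≫ (_root_.ProEtS.bcP i).map g = b ↔ cl ≫ g.left = β := by
    intro g
    have e1 : ((_root_.ProEtS.bcP i).map g).left ≫ pullback.fst V.hom i =
        pullback.fst W'.hom i ≫ g.left := pullback.lift_fst _ _ _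
    constructor
    · intro h
      rw [← ha]
      exact ((Category.assoc _ _ _).trans ((congrArg (a.left ≫ ·) e1).symm.trans
        ((Category.assoc _ _ _).symm.trans (congrArg (fun m : W ⟶ (_root_.ProEtS.bcP i).obj V =>
          m.left ≫ pullback.fst V.hom i) h))) :)
    · intro h
      refine MorphismProperty.Over.Hom.ext (pullback.hom_ext ?_ ?_)
      · exact ((Category.assoc _ _ _).trans ((congrArg (a.left ≫ ·) e1).trans
          ((Category.assoc _ _ _).symm.trans ((congrArg (· ≫ g.left) ha).trans h))) :)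
      · exact ((Over.w (a ≫ (_root_.ProEtS.bcP i).map g).hom).trans (Over.w b.hom).symm :)
  have hclosed : ∀ x : Spec (.of C), ∃ y : W.left, x ⤳ cl y := by
    intro x
    obtain ⟨m, hm, hxm⟩ := Ideal.exists_le_maximal x.asIdeal x.isPrime.ne_top
    have hmq : RingHom.ker q ≤ m := hhens.jac.trans (sInf_le ⟨bot_le, hm⟩)
    obtain ⟨r, hr⟩ : (⟨m, hm.isPrime⟩ : PrimeSpectrum C) ∈ Set.range (PrimeSpectrum.comap q) := by
      rw [range_comap_of_surjective _ _ hq]
      exact hmq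
    refine ⟨W.left.isoSpec.inv r, ?_⟩
    have : cl (W.left.isoSpec.inv r) = (⟨m, hm.isPrime⟩ : PrimeSpectrum C) := by
      rw [← hr, ← Scheme.Hom.comp_apply]
      simp only [cl, Iso.inv_hom_id_assoc]
      rfl
    rw [this]
    exact (PrimeSpectrum.le_iff_specializes x ⟨m, hm.isPrime⟩).1 hxm
  -- existence
  let v := pullback.snd V.hom W'.hom
  haveI : WeaklyEtale v := MorphismProperty.pullback_snd _ _ ‹WeaklyEtale V.hom›
  have wc : β ≫ V.hom = cl ≫ W'.hom :=
    ((Category.assoc _ _ _).trans ((congrArg (b.left ≫ ·) pullback.condition).trans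
      ((Category.assoc _ _ _).symm.trans ((congrArg (· ≫ i) (Over.w b.hom)).trans
        ((congrArg (· ≫ i) (Over.w a₀.hom).symm).trans sq'.w.symm)))) :)
  let c : W.left ⟶ pullback V.hom W'.hom := pullback.lift β cl wc
  obtain ⟨n, O, hO, s, hs⟩ := exists_affine_factor hW.wc c
  haveI : ∀ k, IsAffine (O k : Scheme.{u}) := hO
  let E := ∐ fun k => (O k : Scheme.{u})
  let π₁ : E ⟶ Spec (.of C) := Sigma.desc (fun k => (O k).ι) ≫ v
  have hd : WeaklyEtale (Sigma.desc fun k => (O k).ι) :=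
    IsZariskiLocalAtSource.sigmaDesc fun k => inferInstance
  have hv : WeaklyEtale v := MorphismProperty.pullback_snd _ _ ‹WeaklyEtale V.hom›
  haveI : WeaklyEtale π₁ := MorphismProperty.comp_mem @WeaklyEtale _ _ hd hv
  obtain ⟨φ, hφ⟩ := Spec.map_surjective (E.isoSpec.inv ≫ π₁)
  obtain ⟨ψ, hψ⟩ := Spec.map_surjective (W.left.isoSpec.inv ≫ s ≫ E.isoSpec.hom)
  let : Algebra C ↥Γ(E, ⊤) := φ.hom.toAlgebra
  let : Algebra C ↥Γ(W.left, ⊤) := q.toAlgebra
  haveI : Algebra.WeaklyEtale C ↥Γ(E, ⊤) := by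
    refine (Affine.weaklyEtale_SpecMap_iff _ _).1 ?_
    show WeaklyEtale (Spec.map φ)
    rw [hφ]
    infer_instance
  have hsπ : s ≫ π₁ = cl :=
    ((Category.assoc _ _ _).symm.trans ((congrArg (· ≫ v) hs).trans (pullback.lift_snd _ _ _)) :)
  have hψφ : φ ≫ ψ = CommRingCat.ofHom q := Spec.map_injective (by
    rw [Spec.map_comp, hφ, hψ]
    simp [hsπ, cl])
  haveI : HenselianRing C (RingHom.ker (algebraMap C ↥Γ(W.left, ⊤))) := hhens
  obtain ⟨η, hη⟩ := ProEtW.PairLift.exists_lift (C := C) (B := ↥Γ(E, ⊤)) hW.wc hq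
    { ψ.hom with commutes' := fun x => congr($hψφ x) }
  let ξ : Spec (.of C) ⟶ E := Spec.map (CommRingCat.ofHom η.toRingHom) ≫ E.isoSpec.inv
  have hξ : ξ ≫ π₁ = 𝟙 _ := by
    have h1 : φ ≫ CommRingCat.ofHom η.toRingHom = 𝟙 (CommRingCat.of C) := by
      ext x
      exact η.commutes x
    simp only [ξ, Category.assoc, ← hφ, ← Spec.map_comp, h1, Spec.map_id]
  have hclξ : cl ≫ ξ = s := by
    have h1 : CommRingCat.ofHom η.toRingHom ≫ CommRingCat.ofHom q = ψ := by
      ext x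
      exact hη x
    rw [← cancel_mono E.isoSpec.hom]
    simp only [ξ, cl, Category.assoc, Iso.inv_hom_id, Category.comp_id, ← Spec.map_comp, h1, hψ,
      Iso.hom_inv_id_assoc]
  let g₁ : Spec (.of C) ⟶ V.left := (ξ ≫ Sigma.desc fun k => (O k).ι) ≫ pullback.fst V.hom W'.hom
  have hg₁ : g₁ ≫ V.hom = W'.hom :=
    ((Category.assoc _ _ _).trans ((congrArg (_ ≫ ·) pullback.condition).trans
      ((Category.assoc _ _ _).symm.trans ((congrArg (· ≫ W'.hom) ((Category.assoc _ _ _).trans hξ)).trans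
        (Category.id_comp _)))) :)
  let g : W' ⟶ V := MorphismProperty.Over.homMk g₁ hg₁
  have hclg : cl ≫ g₁ = β :=
    ((Category.assoc _ _ _).symm.trans ((congrArg (· ≫ pullback.fst V.hom W'.hom)
      (((Category.assoc _ _ _).symm.trans ((congrArg (· ≫ _) hclξ).trans hs)))).trans
        (pullback.lift_fst _ _ _)) :)
  refine ⟨g, (hiff g).2 hclg, fun g' hg' => MorphismProperty.Over.Hom.ext ?_⟩
  exact eq_of_agree V.hom cl hclosed g'.left g₁
    ((Over.w g'.hom).trans hg₁.symm) (((hiff g').1 hg').trans hclg.symm)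

end Groth.Agent.ProEtS.LiftObj
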