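import Groth.Agent.ProEtS.Covers
import Mathlib.CategoryTheory.Sites.Point.OfIsCofiltered
import Mathlib.CategoryTheory.Sites.Point.Conservative

/-!
# Points of the small pro-étale site

A point of an affine weakly contractible object gives a point of the site: take the colimit of the
sections over its clopen neighbourhoods.
-/

set_option autoImplicit false

universe u

open CategoryTheory CategoryTheory.Limits AlgebraicGeometry Opposite

namespace Groth.Agent.ProEtS.Points

variable {X : Scheme.{u}}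

/-- Clopen neighbourhoods of a point. -/
def Nhd (U : X.ProEt) (x : U.left) : Type u :=
  {W : U.left.Opens // IsClosed (W : Set U.left) ∧ x ∈ W}

variable {U : X.ProEt} {x : U.left}

instance : Preorder (Nhd U x) := Subtype.preorder _

instance : Nonempty (Nhd U x) := ⟨⟨⊤, isClosed_univ, trivial⟩⟩

/-- Intersection of clopen neighbourhoods. -/
def Nhd.inf (W W' : Nhd U x) : Nhd U x := ⟨W.1 ⊓ W'.1, W.2.1.inter W'.2.1, W.2.2, W'.2.2⟩

instance : IsDirected (Nhd U x) (· ≥ ·) :=
  ⟨fun W W' => ⟨W.inf W', inf_le_left (a := W.1) (b := W'.1), inf_le_right (a := W.1) (b := W'.1)⟩⟩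

instance : IsCofiltered (Nhd U x) := isCofiltered_of_directed_ge_nonempty _

instance : InitiallySmall.{u + 1} (Nhd U x) :=
  haveI : EssentiallySmall.{u + 1} (Nhd U x) := essentiallySmallSelf.{u + 1} (Nhd U x)
  initiallySmall_of_essentiallySmall _

/-- An open piece of an object of the site. -/
noncomputable abbrev piece (U : X.ProEt) (W : U.left.Opens) : X.ProEt := Scheme.ProEt.mk (W.ι ≫ U.hom)

/-- The inclusion of an open piece. -/
noncomputable abbrev pieceι (U : X.ProEt) (W : U.left.Opens) : piece U W ⟶ U :=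
  MorphismProperty.Over.homMk W.ι

/-- Inclusions between open pieces. -/
noncomputable abbrev pieceMap (U : X.ProEt) {W W' : U.left.Opens} (h : W ≤ W') :
    piece U W ⟶ piece U W' :=
  MorphismProperty.Over.homMk (U.left.homOfLE h)
    (by show U.left.homOfLE h ≫ W'.ι ≫ U.hom = W.ι ≫ U.hom; rw [Scheme.homOfLE_ι_assoc]) trivial

theorem hom_ext {A B : X.ProEt} {f g : A ⟶ B} (h : f.left = g.left) : f = g :=
  (Scheme.ProEt.forget X).map_injective (Over.OverMorphism.ext h)

theorem pieceMap_ι {W W' : U.left.Opens} (h : W ≤ W') : pieceMap U h ≫ pieceι U W' = pieceι U W :=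
  hom_ext (U.left.homOfLE_ι h)

theorem mono_piece {A : X.ProEt} {W : U.left.Opens} {f g : A ⟶ piece U W}
    (h : f ≫ pieceι U W = g ≫ pieceι U W) : f = g :=
  hom_ext ((cancel_mono W.ι).mp (congrArg (fun m : A ⟶ U => m.left) h))

/-- The diagram of clopen neighbourhoods. -/
noncomputable def nhdFunctor (U : X.ProEt) (x : U.left) : Nhd U x ⥤ X.ProEt where
  obj W := piece U W.1
  map h := pieceMap U (leOfHom h)
  map_id W := hom_ext (U.left.homOfLE_rfl W.1)
  map_comp f g := hom_ext (U.left.homOfLE_homOfLE (leOfHom f) (leOfHom g)).symm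

theorem point_cond (U : X.ProEt) [IsAffine U.left] (h : EtPBC.IsWContractible ↥Γ(U.left, ⊤)) (x : U.left)
    ⦃Y : X.ProEt⦄ (R : Sieve Y) (hR : R ∈ Scheme.ProEt.topology X Y) ⦃W : Nhd U x⦄
    (f : (nhdFunctor U x).obj W ⟶ Y) :
    ∃ (Y' : X.ProEt) (g : Y' ⟶ Y) (_ : R g) (V : Nhd U x) (q : V ⟶ W)
      (a : (nhdFunctor U x).obj V ⟶ Y'), a ≫ g = (nhdFunctor U x).map q ≫ f := by
  let Wc : U.left.Opens := ⟨(W.1 : Set U.left)ᶜ, W.2.1.isOpen_compl⟩
  let T : Sieve U := Sieve.pushforward (pieceι U W.1) (R.pullback f) ⊔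
    Sieve.generate (Presieve.singleton (pieceι U Wc))
  have hT : T ∈ Scheme.ProEt.topology X U := by
    refine GrothendieckTopology.transitive _ (WC.ofArrows_mem_of_isOpenImmersion (ι := ULift.{u} Bool)
      (fun b => piece U (cond b.down W.1 Wc)) (fun b => pieceι U (cond b.down W.1 Wc))
      (fun b => inferInstanceAs (IsOpenImmersion (cond b.down W.1 Wc).ι)) (fun z => ?_)) _ ?_
    · by_cases hz : z ∈ W.1
      · exact ⟨⟨true⟩, ⟨⟨z, hz⟩, rfl⟩⟩
      · exact ⟨⟨false⟩, ⟨⟨z, hz⟩, rfl⟩⟩
    rintro Z l ⟨Z', c, d, ⟨⟨b⟩⟩, rfl⟩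
    rw [Sieve.pullback_comp]
    refine GrothendieckTopology.pullback_stable _ c ?_
    cases b
    · refine GrothendieckTopology.superset_covering _ (fun A m _ => ?_) ((Scheme.ProEt.topology X).top_mem _)
      exact Or.inr ⟨_, m, _, ⟨⟩, rfl⟩
    · refine GrothendieckTopology.superset_covering _ (fun A m hm => ?_)
        (GrothendieckTopology.pullback_stable _ f hR)
      exact Or.inl ⟨m, rfl, hm⟩
  obtain ⟨n, O, hclo, -, hcov, hmem⟩ := Affine.exists_clopen_refinement U h hT
  obtain ⟨k, hk⟩ := Set.mem_iUnion.mp (hcov.ge (Set.mem_univ x))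
  rcases hmem k with ⟨m, hm, hR'⟩ | ⟨Z, m, l, hl, hm⟩
  · let V : Nhd U x := W.inf ⟨O k, (hclo k).1, hk⟩
    refine ⟨piece U (O k), m ≫ f, hR', V, homOfLE (show V.1 ≤ W.1 from inf_le_left),
      pieceMap U (show V.1 ≤ O k from inf_le_right), ?_⟩
    rw [← Category.assoc]
    congr 1
    refine mono_piece ?_
    rw [Category.assoc, hm]
    exact (pieceMap_ι _).trans (pieceMap_ι _).symm
  · cases hl
    have h1 := congrArg (fun a : piece U (O k) ⟶ U => a.left ⟨x, hk⟩) hm
    have h2 : (m.left ⟨x, hk⟩).1 = x := h1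
    exact absurd W.2.2 (show x ∈ Wc from h2 ▸ (m.left ⟨x, hk⟩).2)

/-- The point attached to a point of an affine weakly contractible object. -/
noncomputable def point (U : X.ProEt) [IsAffine U.left] (h : EtPBC.IsWContractible ↥Γ(U.left, ⊤))
    (x : U.left) : GrothendieckTopology.Point.{u + 1} (Scheme.ProEt.topology X) :=
  GrothendieckTopology.Point.ofIsCofiltered.{u + 1} (nhdFunctor U x) (point_cond U h x)

/-- The index type of the points. -/
def Index (X : Scheme.{u}) : Type (u + 1) :=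
  Σ U : {U : X.ProEt // IsAffine U.left ∧ EtPBC.IsWContractible ↥Γ(U.left, ⊤)}, ↥U.1.left

/-- The family of points. -/
noncomputable def family (i : Index X) : GrothendieckTopology.Point.{u + 1} (Scheme.ProEt.topology X) :=
  haveI := i.1.2.1
  point i.1.1 i.1.2.2 i.2

theorem hasEnoughPoints (X : Scheme.{u}) :
    GrothendieckTopology.HasEnoughPoints.{u + 1} (Scheme.ProEt.topology X) := by
  refine ⟨⟨ObjectProperty.ofObj (family (X := X)), inferInstance, .mk' fun Y S hS => ?_⟩⟩
  obtain ⟨V, g, hmem, hV⟩ := Covers.exists_wc_family Y (fun i : Y.left.affineOpens => i.1) (fun i => i.2)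
    (Covers.affineOpens_cover Y.left)
  refine GrothendieckTopology.transitive _ hmem _ ?_
  rintro Z l ⟨Z', c, d, ⟨i⟩, rfl⟩
  rw [Sieve.pullback_comp]
  refine GrothendieckTopology.pullback_stable _ c ?_
  haveI := (hV i).1
  have key : ∀ x : (V i).left, ∃ W : Nhd (V i) x, S (pieceι (V i) W.1 ≫ g i) := by
    intro x
    let top : Nhd (V i) x := ⟨⊤, isClosed_univ, trivial⟩
    let idx : Index X := ⟨⟨V i, hV i⟩, x⟩
    obtain ⟨Y', g', hg', y, hy⟩ := hS ⟨family idx, ObjectProperty.ofObj_apply family idx⟩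
      (GrothendieckTopology.Point.ofIsCofiltered.fiberMk.{u + 1} (p := nhdFunctor (V i) x) (U := top)
        (pieceι (V i) ⊤ ≫ g i))
    obtain ⟨W, a, rfl⟩ := GrothendieckTopology.Point.ofIsCofiltered.fiberMk_jointly_surjective y
    let Wi : Nhd (V i) x := W.inf top
    have e1 : GrothendieckTopology.Point.ofIsCofiltered.fiberMk.{u + 1} (p := nhdFunctor (V i) x)
        ((nhdFunctor (V i) x).map (homOfLE (show Wi ≤ W from inf_le_left (a := W.1) (b := top.1))) ≫ a ≫ g') =
      GrothendieckTopology.Point.ofIsCofiltered.fiberMk.{u + 1}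
        ((nhdFunctor (V i) x).map (homOfLE (show Wi ≤ top from inf_le_right (a := W.1) (b := top.1))) ≫
          pieceι (V i) ⊤ ≫ g i) := by
      rw [GrothendieckTopology.Point.ofIsCofiltered.fiberMk_map_comp,
        GrothendieckTopology.Point.ofIsCofiltered.fiberMk_map_comp]
      exact (GrothendieckTopology.Point.ofIsCofiltered.fiber_map_fiberMk.{u + 1} (p := nhdFunctor (V i) x) (U := W) a g').symm.trans hy
    obtain ⟨W', q, hq⟩ := GrothendieckTopology.Point.ofIsCofiltered.exists_of_fiberMk_eq_fiberMk e1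
    refine ⟨W', ?_⟩
    have e2 : pieceι (V i) W'.1 ≫ g i = (pieceMap (V i) (le_top : W'.1 ≤ ⊤) ≫ pieceι (V i) ⊤) ≫ g i := by
      rw [pieceMap_ι]
    have e3 : (nhdFunctor (V i) x).map q ≫ (nhdFunctor (V i) x).map
        (homOfLE (show Wi ≤ top from inf_le_right (a := W.1) (b := top.1))) =
          pieceMap (V i) (le_top : W'.1 ≤ ⊤) := by
      rw [← Functor.map_comp]
      rfl
    have e4 : pieceι (V i) W'.1 ≫ g i =
        ((nhdFunctor (V i) x).map q ≫ (nhdFunctor (V i) x).map
          (homOfLE (show Wi ≤ W from inf_le_left (a := W.1) (b := top.1))) ≫ a) ≫ g' := by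
      rw [e2, ← e3]
      refine Eq.trans ?_ (Eq.trans hq.symm ?_)
      · exact (Category.assoc _ _ _).trans (Category.assoc _ _ _)
      · exact (((Category.assoc _ _ _).trans (congrArg ((nhdFunctor (V i) x).map q ≫ ·) (Category.assoc _ _ _))).symm)
    rw [e4]
    exact S.downward_closed hg' _
  choose W hW using key
  refine GrothendieckTopology.superset_covering _ ?_ (WC.ofArrows_mem_of_isOpenImmersion
    (fun x => piece (V i) (W x).1) (fun x => pieceι (V i) (W x).1)
    (fun x => inferInstanceAs (IsOpenImmersion (W x).1.ι)) fun x => ⟨x, ⟨⟨x, (W x).2.2⟩, rfl⟩⟩)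
  rintro A m ⟨A', b, _, ⟨x⟩, rfl⟩
  show S ((b ≫ pieceι (V i) (W x).1) ≫ g i)
  rw [Category.assoc]
  exact S.downward_closed (hW x) b

end Groth.Agent.ProEtS.Points
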