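import Groth.Agent.ProEtS.ClosedOpen
import Groth.Agent.ProEtS.LanGlue
import Groth.Agent.ProEtS.LiftObj
import Mathlib.CategoryTheory.Functor.KanExtension.Preserves
import Mathlib.CategoryTheory.Sites.PreservesSheafification

/-!
# Pullback to a closed subscheme commutes with limits of pro-étale sheaves
-/

set_option autoImplicit false

universe u

open CategoryTheory CategoryTheory.Limits AlgebraicGeometry Opposite

namespace Groth.Agent.ProEtS.PullLimits

variable {Z X : Scheme.{u}} (i : Z ⟶ X)

theorem glues_of_iso {P Q : X.ProEtᵒᵖ ⥤ Type (u + 1)} (e : P ≅ Q) {W : X.ProEt}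
    (h : Sheafify.Glues P W) : Sheafify.Glues Q W := by
  intro n O hcl hd hu x
  obtain ⟨y, hy, hu'⟩ := h n O hcl hd hu fun k => e.inv.app _ (x k)
  refine ⟨e.hom.app _ y, fun k => ?_, fun z hz => ?_⟩
  · exact ((NatTrans.naturality_apply e.hom _ y).symm.trans (congrArg (e.hom.app _) (hy k))).trans
      (congr($(e.inv_hom_id_app _) (x k)))
  · refine ((congr($(e.inv_hom_id_app _) z)).symm.trans (congrArg (e.hom.app _) (hu' _ fun k => ?_)) :)
    exact (NatTrans.naturality_apply e.inv _ z).symm.trans (congrArg (e.inv.app _) (hz k))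

set_option backward.isDefEq.respectTransparency.types false in
/-- Pulled back abelian presheaves glue along clopen decompositions. -/
theorem glues_pre (F : _root_.ProEtS.AbP X) (W : Z.ProEt) :
    Sheafify.Glues (ClosedOpen.pre i F ⋙ forget AddCommGrpCat.{u + 1}) W := by
  have : RepresentablyFlat (_root_.ProEtS.bcP i) := flat_of_preservesFiniteLimits _
  have : PreservesFilteredColimitsOfSize.{u, u + 1} (forget AddCommGrpCat.{u + 1}) :=
    preservesFilteredColimitsOfSize_shrink.{u+1, u+1, u, u+1} _
  let U := forget AddCommGrpCat.{u + 1}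
  haveI : ∀ c : Z.ProEtᵒᵖ, U.PreservesPointwiseLeftKanExtensionAt F.obj (_root_.ProEtS.bcP i).op c :=
    fun c => by
      haveI : IsFiltered (CostructuredArrow (_root_.ProEtS.bcP i).op c) :=
        IsFiltered.of_equivalence (structuredArrowOpEquivalence (_root_.ProEtS.bcP i) c.unop)
      haveI : PreservesColimitsOfShape (CostructuredArrow (_root_.ProEtS.bcP i).op c) U :=
        PreservesFilteredColimitsOfSize.preserves_filtered_colimits _
      infer_instance
  haveI : U.PreservesLeftKanExtension F.obj (_root_.ProEtS.bcP i).op := inferInstance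
  refine glues_of_iso (Functor.leftKanExtensionCompIsoOfPreserves U F.obj (_root_.ProEtS.bcP i).op).symm ?_
  exact LanGlue.glues_lan i ((sheafCompose (Scheme.ProEt.topology X) U).obj F) W

set_option backward.isDefEq.respectTransparency.types false in
theorem bijective_toSheafify (F : _root_.ProEtS.AbP X) (W : Z.ProEt) [IsAffine W.left]
    (hW : EtPBC.IsWContractible ↥Γ(W.left, ⊤)) :
    Function.Bijective ((toSheafify (Scheme.ProEt.topology Z) (ClosedOpen.pre i F)).app (op W)) := by
  let J := Scheme.ProEt.topology Z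
  let U := forget AddCommGrpCat.{u + 1}
  have h := Sheafify.bijective_toSheafify (ClosedOpen.pre i F ⋙ U) W
    (WC.isWC_of_isWContractible W hW) (glues_pre i F W)
  have h2 := congr_app (sheafComposeIso_hom_fac (J := J) (F := U) (P := ClosedOpen.pre i F)) (op W)
  have h3 : Function.Bijective ((sheafifyComposeIso J U (ClosedOpen.pre i F)).hom.app (op W)) :=
    (isIso_iff_bijective _).1 inferInstance
  have h4 := h3.comp h
  exact (funext fun x => congr($h2 x) :
    (sheafifyComposeIso J U (ClosedOpen.pre i F)).hom.app (op W) ∘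
      (toSheafify J (ClosedOpen.pre i F ⋙ U)).app (op W) =
      (toSheafify J (ClosedOpen.pre i F)).app (op W)) ▸ h4

variable [IsClosedImmersion i]

set_option backward.isDefEq.respectTransparency.types false in
theorem bijective_cls (F : _root_.ProEtS.AbP X) {W : Z.ProEt} {W' : X.ProEt}
    {a : W ⟶ (_root_.ProEtS.bcP i).obj W'} (ha : LiftObj.IsInitialNhd i W W' a) :
    Function.Bijective fun t : F.obj.obj (op W') => ClosedOpen.cls i F a t := by
  constructor
  · intro t t' h
    have h' : ClosedOpen.cls i F a t = ClosedOpen.cls i F a t' := h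
    have h0 : ClosedOpen.cls i F a (t - t') = 0 := by
      simp only [ClosedOpen.cls, map_sub] at h' ⊢
      exact sub_eq_zero.2 h'
    obtain ⟨V, g, c, hc, hg⟩ := ClosedOpen.exists_of_cls_eq_zero i F a _ h0
    obtain ⟨g', hg', -⟩ := ha V c
    obtain ⟨_, -, hu⟩ := ha W' a
    have e : g' ≫ g = 𝟙 W' := (hu _ (by show a ≫ _ = a; rw [Functor.map_comp, ← Category.assoc, hg', hc])).trans
      (hu _ (by show a ≫ _ = a; rw [CategoryTheory.Functor.map_id, Category.comp_id])).symm
    have := congrArg (F.obj.map g'.op) hg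
    rw [← EpsElem.map_comp_apply F.obj, e, map_zero, op_id, CategoryTheory.Functor.map_id] at this
    exact sub_eq_zero.1 this
  · intro p
    obtain ⟨V, b, t, rfl⟩ := ClosedOpen.exists_cls i F W p
    obtain ⟨g, hg, -⟩ := ha V b
    exact ⟨F.obj.map g.op t, by rw [← hg, ClosedOpen.cls_comp]⟩

variable [_root_.ProEtS.PCont i]

/-- Evaluation of the pullback. -/
noncomputable abbrev evPull (W : Z.ProEt) : _root_.ProEtS.AbP X ⥤ AddCommGrpCat.{u + 1} :=
  _root_.ProEtS.pullP i ⋙ sheafToPresheaf _ _ ⋙ (evaluation _ _).obj (op W)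

set_option backward.isDefEq.respectTransparency.types false in
/-- The natural map from sections on a neighbourhood. -/
noncomputable def evHom (W : Z.ProEt) (W' : X.ProEt) (a : W ⟶ (_root_.ProEtS.bcP i).obj W') :
    sheafToPresheaf _ _ ⋙ (evaluation _ _).obj (op W') ⟶ evPull i W where
  app F := ((_root_.ProEtS.pullPushAdjP i).unit.app F).hom.app (op W') ≫
    ((_root_.ProEtS.pullP i).obj F).obj.map a.op
  naturality F G φ := by
    have h := congrArg (fun m : F ⟶ (_root_.ProEtS.pushP i).obj ((_root_.ProEtS.pullP i).obj G) =>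
      m.hom.app (op W')) ((_root_.ProEtS.pullPushAdjP i).unit.naturality φ)
    exact ((Category.assoc _ _ _).symm.trans
      ((congrArg (fun m => m ≫ ((_root_.ProEtS.pullP i).obj G).obj.map a.op) h).trans
        ((Category.assoc _ _ _).trans ((congrArg (fun m => ((_root_.ProEtS.pullPushAdjP i).unit.app F).hom.app (op W') ≫ m)
          (((_root_.ProEtS.pullP i).map φ).hom.naturality a.op).symm).trans (Category.assoc _ _ _).symm))) :)

set_option backward.isDefEq.respectTransparency.types false in
theorem isIso_evHom {W : Z.ProEt} (hW : LiftObj.Good i W) {W' : X.ProEt}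
    {a : W ⟶ (_root_.ProEtS.bcP i).obj W'} (ha : LiftObj.IsInitialNhd i W W' a) :
    IsIso (evHom i W W' a) := by
  haveI := hW.affine
  suffices ∀ F, IsIso ((evHom i W W' a).app F) from NatIso.isIso_of_isIso_app _
  intro F
  let B := _root_.ProEtS.bcP i
  let J := Scheme.ProEt.topology X
  let adj' := Functor.sheafPullbackConstruction.sheafAdjunctionContinuous B AddCommGrpCat.{u + 1} J
    (Scheme.ProEt.topology Z)
  let e := ((_root_.ProEtS.pullPushAdjP i).leftAdjointUniq adj').app F
  let η := (_root_.ProEtS.pullPushAdjP i).unit.app F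
  have hη : η ≫ (_root_.ProEtS.pushP i).map e.hom = adj'.unit.app F :=
    Adjunction.unit_leftAdjointUniq_hom_app (_root_.ProEtS.pullPushAdjP i) adj' F
  have hs := (bijective_toSheafify i F W hW.wc).comp (bijective_cls i F ha)
  have he : Function.Bijective (e.hom.hom.app (op W)) :=
    ConcreteCategory.bijective_of_isIso (((sheafToPresheaf _ _).map e.hom).app (op W))
  have key : ∀ t, e.hom.hom.app (op W) ((evHom i W W' a).app F t) =
      (toSheafify (Scheme.ProEt.topology Z) (ClosedOpen.pre i F)).app (op W) (ClosedOpen.cls i F a t) := by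
    intro t
    refine (NatTrans.naturality_apply e.hom.hom a.op (η.hom.app (op W') t)).trans ?_
    refine (congrArg ((ClosedOpen.shf i F).obj.map a.op)
      ((congrArg (fun m : F ⟶ (B.sheafPushforwardContinuous AddCommGrpCat.{u + 1} J
        (Scheme.ProEt.topology Z)).obj (ClosedOpen.shf i F) => m.hom.app (op W') t) hη).trans
        (congrArg (fun m : F.obj ⟶ B.op ⋙ (ClosedOpen.shf i F).obj => m.app (op W') t)
          (UnitEq.unit_eq B AddCommGrpCat.{u + 1} J (Scheme.ProEt.topology Z) F)))).trans ?_
    exact (NatTrans.naturality_apply (toSheafify (Scheme.ProEt.topology Z) (ClosedOpen.pre i F)) a.op _).symm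
  refine (ConcreteCategory.isIso_iff_bijective _).2 ?_
  refine (Function.Bijective.of_comp_iff' he _).1 ?_
  rw [funext (f := e.hom.hom.app (op W) ∘ (evHom i W W' a).app F) key]
  exact hs

set_option backward.isDefEq.respectTransparency.types false in
/-- Good objects cover everything. -/
theorem exists_good_cover (W : Z.ProEt) :
    ∃ (V : W.left → Z.ProEt) (g : ∀ x, V x ⟶ W), Sieve.ofArrows V g ∈ Scheme.ProEt.topology Z W ∧
      ∀ x, LiftObj.Good i (V x) := by
  choose U hU hxU using fun x : W.left =>
    exists_isAffineOpen_mem_and_subset (x := (W.hom ≫ i) x) (U := ⊤) trivial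
  choose A hA hxA hle using fun x : W.left =>
    exists_isAffineOpen_mem_and_subset (x := x) (U := (W.hom ≫ i) ⁻¹ᵁ U x) (hxU x).1
  have : ∀ x, IsAffine (A x : Scheme.{u}) := hA
  choose T p hT hc hp hs hq using fun x => Covers.exists_wContractible_cover (A x : Scheme.{u})
  haveI : WeaklyEtale W.hom := W.prop
  let V : W.left → Z.ProEt := fun x => Scheme.ProEt.mk ((p x ≫ (A x).ι) ≫ W.hom)
  let g : ∀ x, V x ⟶ W := fun x => MorphismProperty.Over.homMk (p x ≫ (A x).ι)
  refine ⟨V, g, Covers.mem_of_refine _ A (fun x => ⟨x, hxA x⟩) T p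
    (fun x => ⟨V x, g x, 𝟙 _, Sieve.ofArrows_mk _ _ x, Category.id_comp _⟩),
    fun x => ⟨hT x, hc x, U x, hU x, fun w => ?_⟩⟩
  exact hle x ((A x).range_ι.le ⟨p x w, rfl⟩)

set_option backward.isDefEq.respectTransparency.types false in
theorem preservesLimitsOfShape (J : Type u) [SmallCategory J] :
    PreservesLimitsOfShape J (_root_.ProEtS.pullP i) := by
  refine ⟨fun {K} => ?_⟩
  let γ := limit.post K (_root_.ProEtS.pullP i)
  let S := Scheme.ProEt.topology Z
  have hev : ∀ (W : Z.ProEt), LiftObj.Good i W →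
      IsIso (((sheafToPresheaf S AddCommGrpCat.{u + 1}) ⋙ (evaluation _ _).obj (op W)).map γ) := by
    intro W hW
    obtain ⟨W', a, -, -, ha⟩ := LiftObj.exists_initial i hW
    haveI := isIso_evHom i hW ha
    haveI : PreservesLimitsOfShape J (_root_.ProEtS.pullP i ⋙ sheafToPresheaf S AddCommGrpCat.{u + 1} ⋙
        (evaluation _ _).obj (op W)) :=
      preservesLimitsOfShape_of_natIso (asIso (evHom i W W' a))
    let E := sheafToPresheaf S AddCommGrpCat.{u + 1} ⋙ (evaluation _ _).obj (op W)
    haveI : IsIso (limit.post K (_root_.ProEtS.pullP i ⋙ E)) := inferInstance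
    have h := limit.post_post K (_root_.ProEtS.pullP i) E
    haveI : IsIso (limit.post (K ⋙ _root_.ProEtS.pullP i) E) := inferInstance
    exact IsIso.of_isIso_fac_right h
  haveI : Presheaf.IsLocallyInjective S γ.hom := ⟨fun {Wop} s t hst => by
    obtain ⟨W⟩ := Wop
    obtain ⟨V, g, hmem, hV⟩ := exists_good_cover i W
    refine GrothendieckTopology.superset_covering _ ?_ hmem
    rw [Sieve.ofArrows, Sieve.generate_le_iff]
    rintro A f ⟨x⟩
    haveI := hev (V x) (hV x)
    refine (ConcreteCategory.bijective_of_isIso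
      (((sheafToPresheaf S AddCommGrpCat.{u + 1}) ⋙ (evaluation _ _).obj (op (V x))).map γ)).1 ?_
    exact (NatTrans.naturality_apply γ.hom (g x).op s).trans
      ((congrArg _ hst).trans (NatTrans.naturality_apply γ.hom (g x).op t).symm)⟩
  haveI : Presheaf.IsLocallySurjective S γ.hom := ⟨fun {W} s => by
    obtain ⟨V, g, hmem, hV⟩ := exists_good_cover i W
    refine GrothendieckTopology.superset_covering _ ?_ hmem
    rw [Sieve.ofArrows, Sieve.generate_le_iff]
    rintro A f ⟨x⟩
    haveI := hev (V x) (hV x)
    exact (ConcreteCategory.bijective_of_isIso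
      (((sheafToPresheaf S AddCommGrpCat.{u + 1}) ⋙ (evaluation _ _).obj (op (V x))).map γ)).2 _⟩
  haveI : IsIso γ := (Sheaf.isLocallyBijective_iff_isIso γ).1 ⟨‹_›, ‹_›⟩
  exact preservesLimit_of_isIso_post (G := _root_.ProEtS.pullP i) (F := K)

end Groth.Agent.ProEtS.PullLimits
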