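import Groth.Agent.ProEtS.PullLimits
import Mathlib.CategoryTheory.Adjunction.PartialAdjoint
import Mathlib.CategoryTheory.Sites.RegularEpi
import Mathlib.CategoryTheory.Sites.Subcanonical
import Mathlib.CategoryTheory.Sites.EpiMono

/-!
# Pullback of sheaves of sets to a closed subscheme has a left adjoint
-/

set_option autoImplicit false

universe u

open CategoryTheory CategoryTheory.Limits AlgebraicGeometry Opposite

namespace Groth.Agent.ProEtS.PullShLeftAdjoint

variable {Z X : Scheme.{u}} (i : Z ⟶ X)

/-- Sheaves of sets on the small pro-étale site. -/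
abbrev Sh (Y : Scheme.{u}) := Sheaf (Scheme.ProEt.topology Y) (Type (u + 1))

/-- The presheaf pullback. -/
noncomputable abbrev pre (F : Sh X) : Z.ProEtᵒᵖ ⥤ Type (u + 1) :=
  (_root_.ProEtS.bcP i).op.lan.obj F.obj

/-- The germ. -/
noncomputable def cls (F : Sh X) {W : Z.ProEt} {V : X.ProEt} (a : W ⟶ (_root_.ProEtS.bcP i).obj V)
    (t : F.obj.obj (op V)) : (pre i F).obj (op W) :=
  (pre i F).map a.op (((_root_.ProEtS.bcP i).op.lanUnit.app F.obj).app (op V) t)

set_option backward.isDefEq.respectTransparency.types false in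
theorem bijective_cls (F : Sh X) {W : Z.ProEt} {W' : X.ProEt}
    {a : W ⟶ (_root_.ProEtS.bcP i).obj W'} (ha : LiftObj.IsInitialNhd i W W' a) :
    Function.Bijective fun t : F.obj.obj (op W') => cls i F a t := by
  have : RepresentablyFlat (_root_.ProEtS.bcP i) := flat_of_preservesFiniteLimits _
  have hp := Functor.isPointwiseLeftKanExtensionLeftKanExtensionUnit (_root_.ProEtS.bcP i).op F.obj (op W)
  constructor
  · intro t t' h
    obtain ⟨k, g₁, g₂, hk⟩ := (Types.FilteredColimit.isColimit_eq_iff _ hp
      (i := CostructuredArrow.mk (Y := op W') a.op) (j := CostructuredArrow.mk (Y := op W') a.op)).1 h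
    have h₁ : k.hom.unop ≫ (_root_.ProEtS.bcP i).map g₁.left.unop = a :=
      congrArg Quiver.Hom.unop (CostructuredArrow.w g₁)
    have h₂ : k.hom.unop ≫ (_root_.ProEtS.bcP i).map g₂.left.unop = a :=
      congrArg Quiver.Hom.unop (CostructuredArrow.w g₂)
    obtain ⟨g', hg', -⟩ := ha k.left.unop k.hom.unop
    obtain ⟨_, -, hu⟩ := ha W' a
    have e : ∀ g : k.left.unop ⟶ W', k.hom.unop ≫ (_root_.ProEtS.bcP i).map g = a → g' ≫ g = 𝟙 W' :=
      fun g hg => (hu _ (by show a ≫ _ = a; rw [Functor.map_comp, ← Category.assoc, hg', hg])).trans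
        (hu _ (by show a ≫ _ = a; rw [CategoryTheory.Functor.map_id, Category.comp_id])).symm
    have key : ∀ (g : k.left.unop ⟶ W') (s : F.obj.obj (op W')), g' ≫ g = 𝟙 W' →
        F.obj.map g'.op (F.obj.map g.op s) = s := fun g s hg => by
      exact ((congr($(F.obj.map_comp g.op g'.op) s)).symm.trans
        ((congrArg (fun m => F.obj.map m s) (congrArg Quiver.Hom.op hg)).trans
          congr($(F.obj.map_id (op W')) s)) :)
    exact (key _ t (e _ h₁)).symm.trans ((congrArg (F.obj.map g'.op) hk).trans (key _ t' (e _ h₂)))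
  · intro p
    obtain ⟨j, s, hs⟩ := Types.jointly_surjective _ hp p
    obtain ⟨g, hg, -⟩ := ha j.left.unop j.hom.unop
    refine ⟨F.obj.map g.op s, ?_⟩
    rw [← hs]
    show (pre i F).map a.op (((_root_.ProEtS.bcP i).op.lanUnit.app F.obj).app (op W') (F.obj.map g.op s)) =
      (pre i F).map j.hom.unop.op (((_root_.ProEtS.bcP i).op.lanUnit.app F.obj).app j.left s)
    rw [← hg, op_comp, Functor.map_comp]
    exact congrArg ((pre i F).map a.op)
      (NatTrans.naturality_apply ((_root_.ProEtS.bcP i).op.lanUnit.app F.obj) g.op s)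

variable [IsClosedImmersion i] [_root_.ProEtS.PCont i]

/-- The pullback. -/
noncomputable abbrev pullSh : Sh X ⥤ Sh Z :=
  (_root_.ProEtS.bcP i).sheafPullback (Type (u + 1)) (Scheme.ProEt.topology X) (Scheme.ProEt.topology Z)

/-- Its adjunction. -/
noncomputable abbrev adj : pullSh i ⊣ (_root_.ProEtS.bcP i).sheafPushforwardContinuous (Type (u + 1))
    (Scheme.ProEt.topology X) (Scheme.ProEt.topology Z) :=
  (_root_.ProEtS.bcP i).sheafAdjunctionContinuous (Type (u + 1)) (Scheme.ProEt.topology X)
    (Scheme.ProEt.topology Z)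

set_option backward.isDefEq.respectTransparency.types false in
/-- The natural map from sections on a neighbourhood. -/
noncomputable def evHom (W : Z.ProEt) (W' : X.ProEt) (a : W ⟶ (_root_.ProEtS.bcP i).obj W') :
    sheafToPresheaf _ _ ⋙ (evaluation _ _).obj (op W') ⟶
      pullSh i ⋙ sheafToPresheaf _ _ ⋙ (evaluation _ _).obj (op W) where
  app F := ((adj i).unit.app F).hom.app (op W') ≫ ((pullSh i).obj F).obj.map a.op
  naturality F G φ := by
    have h := congrArg (fun m : F ⟶ ((_root_.ProEtS.bcP i).sheafPushforwardContinuous (Type (u + 1))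
      (Scheme.ProEt.topology X) (Scheme.ProEt.topology Z)).obj ((pullSh i).obj G) => m.hom.app (op W'))
      ((adj i).unit.naturality φ)
    exact ((Category.assoc _ _ _).symm.trans
      ((congrArg (fun m => m ≫ ((pullSh i).obj G).obj.map a.op) h).trans
        ((Category.assoc _ _ _).trans ((congrArg (fun m => ((adj i).unit.app F).hom.app (op W') ≫ m)
          (((pullSh i).map φ).hom.naturality a.op).symm).trans (Category.assoc _ _ _).symm))) :)

set_option backward.isDefEq.respectTransparency.types false in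
theorem isIso_evHom {W : Z.ProEt} (hW : LiftObj.Good i W) {W' : X.ProEt}
    {a : W ⟶ (_root_.ProEtS.bcP i).obj W'} (ha : LiftObj.IsInitialNhd i W W' a) :
    IsIso (evHom i W W' a) := by
  haveI := hW.affine
  suffices ∀ F, IsIso ((evHom i W W' a).app F) from NatIso.isIso_of_isIso_app _
  intro F
  let B := _root_.ProEtS.bcP i
  let J := Scheme.ProEt.topology X
  let adj' := Functor.sheafPullbackConstruction.sheafAdjunctionContinuous B (Type (u + 1)) J
    (Scheme.ProEt.topology Z)
  let e := ((adj i).leftAdjointUniq adj').app F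
  let η := (adj i).unit.app F
  let R := B.sheafPushforwardContinuous (Type (u + 1)) J (Scheme.ProEt.topology Z)
  let Q : Sh Z := (presheafToSheaf (Scheme.ProEt.topology Z) (Type (u + 1))).obj (pre i F)
  have hη : η ≫ R.map e.hom = adj'.unit.app F :=
    Adjunction.unit_leftAdjointUniq_hom_app (adj i) adj' F
  have hs := (Sheafify.bijective_toSheafify (pre i F) W (WC.isWC_of_isWContractible W hW.wc)
    (LanGlue.glues_lan i F W)).comp (bijective_cls i F ha)
  have he : Function.Bijective (e.hom.hom.app (op W)) :=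
    (isIso_iff_bijective _).1
      (inferInstanceAs (IsIso (((sheafToPresheaf _ _).map e.hom).app (op W))))
  have key : ∀ t, e.hom.hom.app (op W) ((evHom i W W' a).app F t) =
      (toSheafify (Scheme.ProEt.topology Z) (pre i F)).app (op W) (cls i F a t) := by
    intro t
    refine (NatTrans.naturality_apply e.hom.hom a.op (η.hom.app (op W') t)).trans ?_
    refine (congrArg (Q.obj.map a.op)
      ((congrArg (fun m : F ⟶ R.obj Q => m.hom.app (op W') t) hη).trans
        (congrArg (fun m : F.obj ⟶ B.op ⋙ Q.obj => m.app (op W') t)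
          (UnitEq.unit_eq B (Type (u + 1)) J (Scheme.ProEt.topology Z) F)))).trans ?_
    exact (NatTrans.naturality_apply (toSheafify (Scheme.ProEt.topology Z) (pre i F)) a.op _).symm
  refine (isIso_iff_bijective _).2 ?_
  refine (Function.Bijective.of_comp_iff' he _).1 ?_
  rw [funext (f := e.hom.hom.app (op W) ∘ (evHom i W W' a).app F) key]
  exact hs

/-- The sheaf represented by an object. -/
noncomputable abbrev repr (W : Z.ProEt) : Sh Z := (Scheme.ProEt.topology Z).uliftYoneda.{u + 1}.obj W

set_option backward.isDefEq.respectTransparency.types false in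
theorem defined_repr {W : Z.ProEt} (hW : LiftObj.Good i W) :
    (pullSh i).leftAdjointObjIsDefined (repr W) := by
  obtain ⟨W', a, -, -, ha⟩ := LiftObj.exists_initial i hW
  haveI := isIso_evHom i hW ha
  let e : coyoneda.obj (op ((Scheme.ProEt.topology X).uliftYoneda.{u + 1}.obj W')) ≅
      pullSh i ⋙ coyoneda.obj (op (repr W)) :=
    NatIso.ofComponents (fun F => ((Scheme.ProEt.topology X).uliftYonedaEquiv.{u + 1}.toIso) ≪≫
        (asIso (evHom i W W' a)).app F ≪≫
        ((Scheme.ProEt.topology Z).uliftYonedaEquiv.{u + 1}.symm.toIso))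
      (fun {F G} φ => by
        ext h
        show (Scheme.ProEt.topology Z).uliftYonedaEquiv.{u + 1}.symm ((evHom i W W' a).app G
            ((Scheme.ProEt.topology X).uliftYonedaEquiv.{u + 1} (h ≫ φ))) =
          (Scheme.ProEt.topology Z).uliftYonedaEquiv.{u + 1}.symm ((evHom i W W' a).app F
            ((Scheme.ProEt.topology X).uliftYonedaEquiv.{u + 1} h)) ≫ (pullSh i).map φ
        rw [GrothendieckTopology.uliftYonedaEquiv_symm_naturality_right,
          GrothendieckTopology.uliftYonedaEquiv_comp]
        exact congrArg _ (congr($((evHom i W W' a).naturality φ) _)))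
  exact ⟨_, ⟨(pullSh i ⋙ coyoneda.obj (op (repr W))).corepresentableByEquiv.symm e⟩⟩

/-- Coproducts of representables of good objects. -/
theorem defined_sigma {ι : Type (u + 1)} (W : ι → Z.ProEt) (hW : ∀ k, LiftObj.Good i (W k)) :
    (pullSh i).leftAdjointObjIsDefined (∐ fun k => repr (W k)) :=
  Functor.leftAdjointObjIsDefined_colimit _ fun k => defined_repr i (hW k.as)

set_option backward.isDefEq.respectTransparency.types false in
/-- Every sheaf is covered by good representables. -/
theorem exists_epi (A : Sh Z) :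
    ∃ (ι : Type (u + 1)) (W : ι → Z.ProEt) (_ : ∀ k, LiftObj.Good i (W k))
      (p : (∐ fun k => repr (W k)) ⟶ A), Epi p := by
  let ι := Σ W : {W : Z.ProEt // LiftObj.Good i W}, A.obj.obj (op W.1)
  let J := Scheme.ProEt.topology Z
  let f : ∀ k : ι, repr k.1.1 ⟶ A := fun k => J.uliftYonedaEquiv.{u + 1}.symm k.2
  refine ⟨ι, fun k => k.1.1, fun k => k.1.2, Sigma.desc f, ?_⟩
  haveI : Sheaf.IsLocallySurjective (Sigma.desc f) := ⟨fun {W} s => by
    obtain ⟨V, g, hmem, hV⟩ := PullLimits.exists_good_cover i W
    refine GrothendieckTopology.superset_covering _ ?_ hmem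
    rw [Sieve.ofArrows, Sieve.generate_le_iff]
    rintro B b ⟨x⟩
    let k : ι := ⟨⟨V x, hV x⟩, A.obj.map (g x).op s⟩
    refine ⟨(Sigma.ι (fun k : ι => repr k.1.1) k).hom.app (op (V x)) ⟨𝟙 _⟩, ?_⟩
    refine (congrArg (fun m : repr (V x) ⟶ A => m.hom.app (op (V x)) ⟨𝟙 _⟩) (Sigma.ι_desc f k)).trans ?_
    exact J.uliftYonedaEquiv.{u + 1}.apply_symm_apply k.2⟩
  exact (Sheaf.isLocallySurjective_iff_epi _).1 inferInstance

theorem isRightAdjoint : (pullSh i).IsRightAdjoint := by
  refine Functor.isRightAdjoint_of_leftAdjointObjIsDefined_eq_top (funext fun A => eq_true ?_)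
  obtain ⟨ι, W, hW, p, _⟩ := exists_epi i A
  let r := regularEpiOfEpi p
  obtain ⟨κ, V, hV, q, _⟩ := exists_epi i r.W
  have hc := isCoequalizerEpiComp r.isColimit q
  refine Functor.leftAdjointObjIsDefined_of_isColimit hc fun j => ?_
  cases j
  · exact defined_sigma i V hV
  · exact defined_sigma i W hW

end Groth.Agent.ProEtS.PullShLeftAdjoint
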