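import Groth.Agent.ProEtS.EtPres
import Groth.Agent.ModShf.Flasque
import Groth.Agent.BigBC.Derived

/-!
# `f_*` commutes with `ε⁻¹` for quasi-compact quasi-separated `f`
-/

set_option autoImplicit false
set_option backward.isDefEq.respectTransparency false

universe u

open CategoryTheory CategoryTheory.Limits AlgebraicGeometry Opposite

noncomputable section

namespace Groth.Agent.ProEtS.PushEps

open Groth.Agent.ProEtS Good CovAcyclic EtLimit EtLimit.FHom Restr

variable {X Y : Scheme.{u}}

/-- Limits of systems of étale qcqs objects are good. -/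
theorem isGood_limit_etale {I : Type u} [SmallCategory I] [IsCofiltered I] (D : I ⥤ X.ProEt)
    [∀ i, Etale (D.obj i).hom]
    [∀ (i j : I) (a : i ⟶ j), IsAffineHom (D.map a).left]
    [∀ i, CompactSpace ↥(D.obj i).left] [∀ i, QuasiSeparatedSpace ↥(D.obj i).left]
    (c : Cone D) (hc : IsLimit ((CovCech.toSch X).mapCone c)) : IsGood c.pt := by
  obtain ⟨j⟩ := IsCofiltered.nonempty (C := I)
  let S₀ := D ⋙ Scheme.ProEt.forget X ⋙ Over.forget X
  haveI : ∀ (i k : I) (a : i ⟶ k), IsAffineHom (S₀.map a) := fun i k a =>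
    inferInstanceAs (IsAffineHom (D.map a).left)
  haveI : ∀ i, CompactSpace (S₀.obj i) := fun i => inferInstanceAs (CompactSpace (D.obj i).left)
  haveI : ∀ i, QuasiSeparatedSpace (S₀.obj i) := fun i =>
    inferInstanceAs (QuasiSeparatedSpace (D.obj i).left)
  let m : c.pt.left ⟶ S₀.obj j := (c.π.app j).left
  haveI : IsAffineHom m := isAffineHom_π_app _ _ hc (i := j)
  haveI : CompactSpace ↥c.pt.left := QuasiCompact.compactSpace_of_compactSpace m
  haveI : QuasiSeparatedSpace ↥c.pt.left := quasiSeparatedSpace_of_quasiSeparated m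
  refine ⟨inferInstance, inferInstance, fun J hJ => isCompactAcyclic_of_iso (sectIso J c.pt) ?_⟩
  let G : EtCoh.Ab (S₀.obj j) := (EtCoh.pull (D.obj j).hom).obj J
  have hG : EtColim.CohColim.IsCompactAcyclic G :=
    isCompactAcyclic_of_iso (sectIso J _).symm ((isGood_of_etale (D.obj j)).2.2 J hJ)
  refine isCompactAcyclic_of_iso
    (κ m (D.obj j).hom (MorphismProperty.Over.w (c.π.app j)) J) ?_
  let D' : Over j ⥤ Scheme.{u} := Over.forget j ⋙ S₀
  haveI : ∀ (i k : Over j) (a : i ⟶ k), IsAffineHom (D'.map a) :=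
    fun i k a => inferInstanceAs (IsAffineHom (S₀.map a.left))
  haveI : ∀ i, CompactSpace (D'.obj i) := fun i => inferInstanceAs (CompactSpace (S₀.obj i.left))
  haveI : ∀ i, QuasiSeparatedSpace (D'.obj i) := fun i =>
    inferInstanceAs (QuasiSeparatedSpace (S₀.obj i.left))
  have hc₂ := (Functor.Initial.isLimitWhiskerEquiv (Over.forget j) _).symm hc
  refine isCompactAcyclic_limit (Sys.ofSheaf D' (Over.mkIdTerminal (X := j)) G)
    (Sys.ofSheafCocone D' (Over.mkIdTerminal (X := j)) G
      (((CovCech.toSch X).mapCone c).whisker (Over.forget j))) hc₂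
    (Sys.isColimitOfSheafCocone D' (Over.mkIdTerminal (X := j)) G _) (fun i => ?_)
  let t : i ⟶ Over.mk (𝟙 j) := (Over.mkIdTerminal (X := j)).from i
  haveI : Etale (D'.map t) := by
    have h : Etale ((D.map t.left).left ≫ (D.obj j).hom) := by
      rw [show (D.map t.left).left ≫ (D.obj j).hom = (D.obj i.left).hom from
        MorphismProperty.Over.w (D.map t.left)]
      infer_instance
    exact MorphismProperty.of_postcomp (W' := @Etale) @Etale (D.map t.left).left (D.obj j).hom
      inferInstance h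
  exact isCompactAcyclic_pull (D'.map t) hG

/-- Sections of `ε⁻¹ F` on a limit come from a stage. -/
theorem exists_stage [_root_.ProEtS.EpsCont X] (F : EtCoh.Ab X) {I : Type u} [SmallCategory I]
    [IsCofiltered I] (D : I ⥤ X.ProEt) [∀ (i j : I) (a : i ⟶ j), IsAffineHom (D.map a).left]
    [∀ i, CompactSpace ↥(D.obj i).left] [∀ i, QuasiSeparatedSpace ↥(D.obj i).left]
    (c : Cone D) (hc : IsLimit ((CovCech.toSch X).mapCone c))
    (d : ((_root_.ProEtS.epsPull X).obj F).obj.obj (op c.pt)) :
    ∃ (i : I) (z : ((_root_.ProEtS.epsPull X).obj F).obj.obj (op (D.obj i))),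
      ((_root_.ProEtS.epsPull X).obj F).obj.map (c.π.app i).op z = d := by
  let e := EpsCoh.shfIso X F
  obtain ⟨i, z, hz⟩ := SectLim.exists_stage F D c hc (e.inv.hom.app (op c.pt) d)
  refine ⟨i, e.hom.hom.app (op (D.obj i)) z, ?_⟩
  refine (NatTrans.naturality_apply e.hom.hom (c.π.app i).op z).symm.trans ?_
  exact (congrArg (e.hom.hom.app (op c.pt)) hz).trans
    (ConcreteCategory.congr_hom (congrArg (fun m => m.hom.app (op c.pt)) e.inv_hom_id) d)

/-- A section of `ε⁻¹ F` vanishing on a limit vanishes at a stage. -/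
theorem exists_eq_zero [_root_.ProEtS.EpsCont X] (F : EtCoh.Ab X) {I : Type u} [SmallCategory I]
    [IsCofiltered I] (D : I ⥤ X.ProEt) [∀ (i j : I) (a : i ⟶ j), IsAffineHom (D.map a).left]
    [∀ i, CompactSpace ↥(D.obj i).left] [∀ i, QuasiSeparatedSpace ↥(D.obj i).left]
    (c : Cone D) (hc : IsLimit ((CovCech.toSch X).mapCone c)) {j : I}
    (z : ((_root_.ProEtS.epsPull X).obj F).obj.obj (op (D.obj j)))
    (h : ((_root_.ProEtS.epsPull X).obj F).obj.map (c.π.app j).op z = 0) :
    ∃ (k : I) (a : k ⟶ j), ((_root_.ProEtS.epsPull X).obj F).obj.map (D.map a).op z = 0 := by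
  let e := EpsCoh.shfIso X F
  obtain ⟨k, a, ha⟩ := SectLim.exists_eq_zero F D c hc (e.inv.hom.app (op (D.obj j)) z)
    ((NatTrans.naturality_apply e.inv.hom (c.π.app j).op z).symm.trans
      ((congrArg _ h).trans (map_zero _)))
  refine ⟨k, a, ?_⟩
  have h1 := (NatTrans.naturality_apply e.inv.hom (D.map a).op z).trans ha
  exact (ConcreteCategory.congr_hom (congrArg (fun m => m.hom.app (op (D.obj k))) e.inv_hom_id) _).symm.trans
    ((congrArg (e.hom.hom.app (op (D.obj k))) h1).trans (map_zero _))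

/-- The unit is bijective on sections. -/
theorem bijective_unit [_root_.ProEtS.EpsCont X] (F : EtCoh.Ab X) (U : X.Etale) :
    Function.Bijective (((_root_.ProEtS.epsAdj X).unit.app F).hom.app (op U)) :=
  haveI := S0717.result X F
  (ConcreteCategory.isIso_iff_bijective _).1
    (((sheafToPresheaf _ _).mapIso (asIso ((_root_.ProEtS.epsAdj X).unit.app F))).app (op U)).isIso_hom

section Base

variable (f : X ⟶ Y)

/-- Base change commutes with the inclusions of the étale sites. -/
def siteIso : _root_.ProEtS.eps Y ⋙ _root_.ProEtS.bcP f ≅ EtCoh.bc f ⋙ _root_.ProEtS.eps X :=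
  NatIso.ofComponents (fun U => MorphismProperty.Over.isoMk (Iso.refl _))
    (fun {U V} g => MorphismProperty.Over.Hom.ext (by simp; rfl))

variable [_root_.ProEtS.EpsCont X] [_root_.ProEtS.EpsCont Y] [_root_.ProEtS.PCont f]

/-- Direct images commute with `ε_*`. -/
def pushIso : _root_.ProEtS.epsPush X ⋙ EtCoh.push f ≅
    _root_.ProEtS.pushP f ⋙ _root_.ProEtS.epsPush Y :=
  NatIso.ofComponents (fun G => (sheafToPresheaf _ _).preimageIso
    (NatIso.ofComponents (fun U => G.obj.mapIso (((siteIso f).app U.unop).op))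
      (fun {U V} g => by
        change G.obj.map _ ≫ G.obj.map _ = G.obj.map _ ≫ G.obj.map _
        rw [← G.obj.map_comp, ← G.obj.map_comp]
        exact congrArg G.obj.map (congrArg Quiver.Hom.op ((siteIso f).hom.naturality g.unop).symm))))
    (fun {G G'} φ => by
      apply (sheafToPresheaf _ _).map_injective
      apply NatTrans.ext
      funext V
      rw [Functor.map_comp, Functor.map_comp, Functor.preimageIso_hom, Functor.preimageIso_hom,
        Functor.map_preimage, Functor.map_preimage]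
      exact (φ.hom.naturality (((siteIso f).app V.unop).op).hom).symm)

/-- The comparison `ε⁻¹ f_* ⟶ f_* ε⁻¹`. -/
def θ : EtCoh.push f ⋙ _root_.ProEtS.epsPull Y ⟶ _root_.ProEtS.epsPull X ⋙ _root_.ProEtS.pushP f where
  app F := ((_root_.ProEtS.epsAdj Y).homEquiv _ _).symm
    ((EtCoh.push f).map ((_root_.ProEtS.epsAdj X).unit.app F) ≫ (pushIso f).hom.app _)
  naturality {F G} a := by
    refine Eq.trans ((_root_.ProEtS.epsAdj Y).homEquiv_naturality_left_symm _ _).symm ?_
    refine Eq.trans ?_ ((_root_.ProEtS.epsAdj Y).homEquiv_naturality_right_symm _ _)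
    refine congrArg _ ?_
    rw [← Category.assoc, ← Functor.map_comp]
    refine (congrArg (fun m => (EtCoh.push f).map m ≫ _)
      ((_root_.ProEtS.epsAdj X).unit.naturality a)).trans ?_
    rw [Functor.map_comp, Category.assoc, Category.assoc]
    exact congrArg _ ((pushIso f).hom.naturality _)

theorem bijective_θ_eps (F : EtCoh.Ab X) (U : Y.Etale) :
    Function.Bijective (((θ f).app F).hom.app (op ((_root_.ProEtS.eps Y).obj U))) := by
  have h : ((_root_.ProEtS.epsAdj Y).unit.app ((EtCoh.push f).obj F)) ≫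
      (_root_.ProEtS.epsPush Y).map ((θ f).app F) =
        (EtCoh.push f).map ((_root_.ProEtS.epsAdj X).unit.app F) ≫ (pushIso f).hom.app _ :=
    ((_root_.ProEtS.epsAdj Y).homEquiv_unit _ _ _).symm.trans (Equiv.apply_symm_apply _ _)
  let u₁ := ((_root_.ProEtS.epsAdj Y).unit.app ((EtCoh.push f).obj F)).hom.app (op U)
  have hu₁ : Function.Bijective u₁ := bijective_unit ((EtCoh.push f).obj F) U
  have hr : Function.Bijective (fun t => ((pushIso f).hom.app ((_root_.ProEtS.epsPull X).obj F)).hom.app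
      (op U) (((_root_.ProEtS.epsAdj X).unit.app F).hom.app (op ((EtCoh.bc f).obj U)) t)) :=
    ((ConcreteCategory.isIso_iff_bijective _).1
      (((sheafToPresheaf _ _).mapIso ((pushIso f).app _)).app (op U)).isIso_hom).comp
      (bijective_unit F ((EtCoh.bc f).obj U))
  have hc : (((θ f).app F).hom.app (op ((_root_.ProEtS.eps Y).obj U))) ∘ u₁ =
      fun t => ((pushIso f).hom.app ((_root_.ProEtS.epsPull X).obj F)).hom.app
      (op U) (((_root_.ProEtS.epsAdj X).unit.app F).hom.app (op ((EtCoh.bc f).obj U)) t) :=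
    funext fun t => ConcreteCategory.congr_hom (congrArg (fun m => m.hom.app (op U)) h) t
  exact (Function.Bijective.of_comp_iff _ hu₁).1 (hc ▸ hr)

variable [QuasiCompact f] [QuasiSeparated f]

theorem compact_qs_bcP (V : Y.ProEt) [IsAffine V.left] :
    CompactSpace ↥((_root_.ProEtS.bcP f).obj V).left ∧
      QuasiSeparatedSpace ↥((_root_.ProEtS.bcP f).obj V).left := by
  let m : ((_root_.ProEtS.bcP f).obj V).left ⟶ V.left := pullback.fst V.hom f
  haveI : QuasiCompact m := MorphismProperty.pullback_fst (P := @QuasiCompact) V.hom f ‹_›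
  haveI : QuasiSeparated m := MorphismProperty.pullback_fst (P := @QuasiSeparated) V.hom f ‹_›
  exact ⟨QuasiCompact.compactSpace_of_compactSpace m, quasiSeparatedSpace_of_quasiSeparated m⟩

variable {W : Y.ProEt} (P : EtPres.Pres W)

/-- The base change of the system. -/
abbrev bcD : P.I ⥤ X.ProEt := (P.D ⋙ _root_.ProEtS.eps Y) ⋙ _root_.ProEtS.bcP f

/-- The base change of the cone. -/
abbrev bcCone : Cone (bcD f P) := (_root_.ProEtS.bcP f).mapCone (Cone.mk W P.p)

instance (i j : P.I) (a : i ⟶ j) : IsAffineHom ((bcD f P).map a).left := by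
  haveI : IsAffine ((P.D ⋙ _root_.ProEtS.eps Y).obj i).left := P.affine i
  haveI : IsAffine ((P.D ⋙ _root_.ProEtS.eps Y).obj j).left := P.affine j
  let m : (Scheme.ProEt.forget Y).obj ((P.D ⋙ _root_.ProEtS.eps Y).obj i) ⟶
      (Scheme.ProEt.forget Y).obj ((P.D ⋙ _root_.ProEtS.eps Y).obj j) :=
    (Scheme.ProEt.forget Y).map ((P.D ⋙ _root_.ProEtS.eps Y).map a)
  haveI : IsAffine ((Scheme.ProEt.forget Y).obj ((P.D ⋙ _root_.ProEtS.eps Y).obj i)).left := P.affine i
  haveI : IsAffine ((Scheme.ProEt.forget Y).obj ((P.D ⋙ _root_.ProEtS.eps Y).obj j)).left := P.affine j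
  have : IsAffineHom m.left := inferInstance
  exact MorphismProperty.overPullbackMap (P := @IsAffineHom) f m this

instance (i : P.I) : CompactSpace ↥((bcD f P).obj i).left :=
  haveI : IsAffine ((P.D ⋙ _root_.ProEtS.eps Y).obj i).left := P.affine i
  (compact_qs_bcP f ((P.D ⋙ _root_.ProEtS.eps Y).obj i)).1

instance (i : P.I) : QuasiSeparatedSpace ↥((bcD f P).obj i).left :=
  haveI : IsAffine ((P.D ⋙ _root_.ProEtS.eps Y).obj i).left := P.affine i
  (compact_qs_bcP f ((P.D ⋙ _root_.ProEtS.eps Y).obj i)).2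

instance (i : P.I) : Etale ((bcD f P).obj i).hom :=
  MorphismProperty.pullback_snd (P := @Etale) (P.D.obj i).hom f (P.D.obj i).prop

omit [QuasiCompact f] [QuasiSeparated f] in
theorem isLimit_bcCone : Nonempty (IsLimit ((CovCech.toSch X).mapCone (bcCone f P))) := by
  obtain ⟨hc⟩ := P.hc
  haveI : IsConnected P.I := IsCofiltered.isConnected P.I
  let K := (P.D ⋙ _root_.ProEtS.eps Y) ⋙ Scheme.ProEt.forget Y
  have h₁ : IsLimit ((Scheme.ProEt.forget Y).mapCone (Cone.mk W P.p)) :=
    isLimitOfReflects (Over.forget Y) hc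
  haveI : (Over.pullback f).IsRightAdjoint := (Over.mapPullbackAdj f).isRightAdjoint
  have h₂ := isLimitOfPreserves (Over.forget X) (isLimitOfPreserves (Over.pullback f) h₁)
  exact ⟨IsLimit.ofIsoLimit h₂ (Cone.ext (Iso.refl _) fun i => (Category.id_comp _).symm)⟩

include P in
theorem isGood_bcP : IsGood ((_root_.ProEtS.bcP f).obj W) := by
  obtain ⟨h⟩ := isLimit_bcCone f P
  exact isGood_limit_etale (bcD f P) (bcCone f P) h

include P in
theorem bijective_θ (F : EtCoh.Ab X) : Function.Bijective (((θ f).app F).hom.app (op W)) := by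
  obtain ⟨hc⟩ := P.hc
  obtain ⟨hb⟩ := isLimit_bcCone f P
  let D := P.D ⋙ _root_.ProEtS.eps Y
  haveI : ∀ i, IsAffine (D.obj i).left := fun i => P.affine i
  let t := (θ f).app F
  have hn : ∀ i (z : ((_root_.ProEtS.epsPull Y).obj ((EtCoh.push f).obj F)).obj.obj (op (D.obj i))),
      t.hom.app (op W) (((_root_.ProEtS.epsPull Y).obj ((EtCoh.push f).obj F)).obj.map (P.p.app i).op z) =
        ((_root_.ProEtS.epsPull X).obj F).obj.map ((bcCone f P).π.app i).op (t.hom.app (op (D.obj i)) z) :=
    fun i z => NatTrans.naturality_apply t.hom (P.p.app i).op z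
  refine ⟨(injective_iff_map_eq_zero (t.hom.app (op W)).hom).2 fun x hx => ?_, fun y => ?_⟩
  · obtain ⟨i, z, hz⟩ := exists_stage ((EtCoh.push f).obj F) D (Cone.mk W P.p) hc x
    obtain ⟨k, a, ha⟩ := exists_eq_zero F (bcD f P) (bcCone f P) hb (t.hom.app (op (D.obj i)) z)
      (((hn i z).symm.trans (congrArg (t.hom.app (op W)) hz)).trans hx)
    have h0 : ((_root_.ProEtS.epsPull Y).obj ((EtCoh.push f).obj F)).obj.map (D.map a).op z = 0 :=
      (bijective_θ_eps f F (P.D.obj k)).1
        (((NatTrans.naturality_apply t.hom (D.map a).op z).trans ha).trans (map_zero _).symm)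
    rw [← hz]
    refine (congrArg (fun q : W ⟶ D.obj i =>
      ((_root_.ProEtS.epsPull Y).obj ((EtCoh.push f).obj F)).obj.map q.op z)
        ((Cone.mk W P.p).w a).symm).trans ?_
    exact (EpsElem.map_comp_apply _ _ _ z).trans ((congrArg _ h0).trans (map_zero _))
  · obtain ⟨i, z', hz'⟩ := exists_stage F (bcD f P) (bcCone f P) hb y
    obtain ⟨z, rfl⟩ := (bijective_θ_eps f F (P.D.obj i)).2 z'
    exact ⟨_, (hn i z).trans hz'⟩

/-- `ε⁻¹ f_* ≅ f_* ε⁻¹`. -/
theorem isIso_θ : IsIso (θ f) := by
  have : ∀ F, IsIso ((θ f).app F) := fun F => by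
    let t := (θ f).app F
    haveI : Mono t := by
      haveI : ∀ V, Mono (t.hom.app V) := fun V => (AddCommGrpCat.mono_iff_injective _).2
        ((injective_iff_map_eq_zero (t.hom.app V).hom).2 fun x hx =>
          EpsElem.eq_zero_of_sieve _ _ _ (EtPres.mem_topology V.unop
            { arrows := fun Z b => ((_root_.ProEtS.epsPull Y).obj ((EtCoh.push f).obj F)).obj.map b.op x = 0
              downward_closed := fun {Z Z' b} h c => (EpsElem.map_comp_apply _ c b x).trans
                ((congrArg _ h).trans (map_zero _)) }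
            fun W P b => (bijective_θ f P F).1 (((NatTrans.naturality_apply t.hom b.op x).trans
              ((congrArg _ hx).trans (map_zero _))).trans (map_zero _).symm)) fun _ _ h => h)
      haveI : Mono t.hom := NatTrans.mono_of_mono_app _
      exact (sheafToPresheaf _ _).mono_of_mono_map this
    haveI : Epi t := (Sheaf.isLocallySurjective_iff_epi' AddCommGrpCat.{u + 1} t).1 ⟨fun {V} s =>
      EtPres.mem_topology V _ fun W P b => by
        obtain ⟨z, hz⟩ := (bijective_θ f P F).2
          (((_root_.ProEtS.epsPull X ⋙ _root_.ProEtS.pushP f).obj F).obj.map b.op s)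
        exact ⟨z, hz⟩⟩
    exact isIso_of_mono_of_epi _
  exact NatIso.isIso_of_isIso_app _

theorem goodClass : ModShf.AcyclicRes.GoodClass (_root_.ProEtS.pushP f)
    (fun G : _root_.ProEtS.AbP X => IsAc G) where
  of_injective J _ := isAc_of_injective J
  coker S hS h₁ h₂ := isAc_quotient hS h₁ h₂
  epi S hS h₁ := (Sheaf.isLocallySurjective_iff_epi' AddCommGrpCat.{u + 1}
      ((_root_.ProEtS.pushP f).map S.g)).1 ⟨fun {V} s => EtPres.mem_topology V _ fun W P b => by
    obtain ⟨z, hz⟩ := surjective_good hS h₁ _ (isGood_bcP f P)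
      (((_root_.ProEtS.pushP f).obj S.X₃).obj.map b.op s)
    exact ⟨z, hz⟩⟩

instance preservesFiniteLimits_pushP : PreservesFiniteLimits (_root_.ProEtS.pushP f) :=
  haveI : PreservesLimitsOfSize.{0, 0} (_root_.ProEtS.pushP f) :=
    (_root_.ProEtS.pullPushAdjP f).rightAdjoint_preservesLimits
  PreservesLimitsOfSize.preservesFiniteLimits _

/-- The comparison of higher direct images. -/
theorem nonempty_iso (F : EtCoh.Ab X) (q : ℕ) :
    Nonempty ((_root_.ProEtS.RpushP f q).obj ((_root_.ProEtS.epsPull X).obj F) ≅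
      (_root_.ProEtS.epsPull Y).obj ((EtCoh.Rpush f q).obj F)) := by
  haveI := isIso_θ f
  let e : (_root_.ProEtS.epsPull X ⋙ _root_.ProEtS.pushP f).rightDerived q ≅
      (EtCoh.push f ⋙ _root_.ProEtS.epsPull Y).rightDerived q :=
    BigBC.rightDerivedCongr (asIso (θ f)).symm q
  exact ⟨((ModShf.AcyclicRes.compareIso (_root_.ProEtS.epsPull X) (_root_.ProEtS.pushP f)
    (goodClass f) (fun J _ => EpsCoh.isAc_epsPull X J) q).app F).symm ≪≫ e.app F ≪≫
      (ModShf.rightDerivedCompIso (EtCoh.push f) (_root_.ProEtS.epsPull Y) q).app F⟩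

end Base

end Groth.Agent.ProEtS.PushEps
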