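import Groth.Agent.ProEtS.WC

/-!
Sections of sheafifications over affine weakly contractible objects.
-/

universe u

open CategoryTheory CategoryTheory.Limits AlgebraicGeometry Opposite

namespace Groth.Agent.ProEtS.Sheafify

open Groth.Agent.ProEtS

variable {X : Scheme.{u}}

set_option backward.isDefEq.respectTransparency.types false in
/-- A presheaf turning clopen decompositions of `W` into products. -/
def Glues (P : X.ProEtᵒᵖ ⥤ Type (u + 1)) (W : X.ProEt) : Prop :=
  ∀ (n : ℕ) (O : Fin n → W.left.Opens), (∀ k, IsClopen (O k : Set ↥W.left)) →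
    Pairwise (fun k l => Disjoint (O k : Set ↥W.left) (O l)) →
    (⋃ k, (O k : Set ↥W.left)) = Set.univ →
    ∀ x : ∀ k, P.obj (op (Scheme.ProEt.mk ((O k).ι ≫ W.hom))),
      ∃! y : P.obj (op W), ∀ k, P.map
        (MorphismProperty.Over.homMk (O k).ι : Scheme.ProEt.mk ((O k).ι ≫ W.hom) ⟶ W).op y = x k

set_option backward.isDefEq.respectTransparency.types false in
theorem bijective_toSheafify (P : X.ProEtᵒᵖ ⥤ Type (u + 1)) (W : X.ProEt) [IsAffine W.left]
    (hW : _root_.ProEtS.IsWC W) (hP : Glues P W) :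
    Function.Bijective ((toSheafify (Scheme.ProEt.topology X) P).app (op W)) := by
  have hwc := WC.isWContractible_of_isWC W hW
  let η := toSheafify (Scheme.ProEt.topology X) P
  refine ⟨fun x y hxy => ?_, fun s => ?_⟩
  · obtain ⟨n, O, hcl, hd, hu, hO⟩ := Affine.exists_clopen_refinement W hwc
      (Presheaf.equalizerSieve_mem (Scheme.ProEt.topology X) η x y hxy)
    exact (hP n O hcl hd hu fun k => P.map (MorphismProperty.Over.homMk (O k).ι :
      Scheme.ProEt.mk ((O k).ι ≫ W.hom) ⟶ W).op y).unique hO fun k => rfl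
  · obtain ⟨n, O, hcl, hd, hu, hO⟩ := Affine.exists_clopen_refinement W hwc
      (Presheaf.imageSieve_mem (Scheme.ProEt.topology X) η s)
    choose t ht using hO
    obtain ⟨y, hy, -⟩ := hP n O hcl hd hu t
    let F : Sheaf (Scheme.ProEt.topology X) (Type (u + 1)) :=
      (presheafToSheaf (Scheme.ProEt.topology X) (Type (u + 1))).obj P
    let a : ∀ k : ULift.{u} (Fin n), Scheme.ProEt.mk ((O k.down).ι ≫ W.hom) ⟶ W := fun k =>
      MorphismProperty.Over.homMk (O k.down).ι
    have hr : ∀ k, Set.range (a k).left = (O k.down : Set ↥W.left) := fun k => Scheme.Opens.range_ι _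
    refine ⟨y, (WC.existsUnique_glue F _ a (fun k => inferInstanceAs (IsOpenImmersion (O k.down).ι))
      (fun i j hij => by rw [hr, hr]; exact hd fun h => hij (ULift.ext _ _ h))
      (fun x => by
        obtain ⟨k, hk⟩ := Set.mem_iUnion.1 (Set.eq_univ_iff_forall.1 hu x)
        exact ⟨⟨k⟩, hr ⟨k⟩ ▸ hk⟩)
      fun k => F.obj.map (a k).op s).unique (fun k => ?_) fun k => rfl⟩
    refine Eq.trans (NatTrans.naturality_apply η (a k).op y).symm ?_
    exact (congrArg (fun z => η.app (op (Scheme.ProEt.mk ((O k.down).ι ≫ W.hom))) z) (hy k.down)).trans (ht k.down)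

set_option backward.isDefEq.respectTransparency.types false in
/-- An object is the coproduct of the pieces of a clopen decomposition. -/
noncomputable def isColimitCofan {W : X.ProEt} {ι : Type u} (Z : ι → X.ProEt) (a : ∀ i, Z i ⟶ W)
    (ho : ∀ i, IsOpenImmersion (a i).left)
    (hd : ∀ i j, i ≠ j → Disjoint (Set.range (a i).left) (Set.range (a j).left))
    (hc : ∀ x, ∃ i, x ∈ Set.range (a i).left) : IsColimit (Cofan.mk W a) :=
  Cofan.IsColimit.mk _
    (fun t => (WC.existsUnique_glue ((Scheme.ProEt.topology X).yoneda.obj t.pt) Z a ho hd hc t.inj).choose)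
    (fun t i => (WC.existsUnique_glue ((Scheme.ProEt.topology X).yoneda.obj t.pt) Z a ho hd hc t.inj).choose_spec.1 i)
    fun t m hm => (WC.existsUnique_glue ((Scheme.ProEt.topology X).yoneda.obj t.pt) Z a ho hd hc t.inj).choose_spec.2 m hm

set_option backward.isDefEq.respectTransparency.types false in
theorem glues_of_preservesFiniteProducts (P : X.ProEtᵒᵖ ⥤ Type (u + 1)) [PreservesFiniteProducts P]
    (W : X.ProEt) : Glues P W := by
  intro n O _ hd hu x
  let a : ∀ k : ULift.{u} (Fin n), Scheme.ProEt.mk ((O k.down).ι ≫ W.hom) ⟶ W := fun k =>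
    MorphismProperty.Over.homMk (O k.down).ι
  have hr : ∀ k, Set.range (a k).left = (O k.down : Set ↥W.left) := fun k => Scheme.Opens.range_ι _
  have hcolim := isColimitCofan _ a (fun k => inferInstanceAs (IsOpenImmersion (O k.down).ι))
    (fun i j hij => by rw [hr, hr]; exact hd fun h => hij (ULift.ext _ _ h))
    (fun x => by
      obtain ⟨k, hk⟩ := Set.mem_iUnion.1 (Set.eq_univ_iff_forall.1 hu x)
      exact ⟨⟨k⟩, hr ⟨k⟩ ▸ hk⟩)
  have hlim := isLimitFanMkObjOfIsLimit P _ (fun k => (a k).op) (Cofan.IsColimit.op hcolim)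
  obtain ⟨y, hy, hu'⟩ := (Types.isLimit_iff _).1 ⟨hlim⟩
    (fun k => x k.as.down) (fun {j j'} f => by
      obtain ⟨j⟩ := j
      obtain ⟨j'⟩ := j'
      obtain rfl : j = j' := Discrete.eq_of_hom f
      rw [show f = 𝟙 _ from Subsingleton.elim _ _, CategoryTheory.Functor.map_id]
      rfl)
  exact ⟨y, fun k => hy ⟨⟨k⟩⟩, fun z hz => hu' z fun j => hz j.as.down⟩

end Groth.Agent.ProEtS.Sheafify
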