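import Groth.Agent.ProEtS.PushEps
import Groth.Agent.ProEtS.LiftObj
import Groth.Agent.ProEtS.HColim
import Groth.Agent.ProEtS.ClosedOpen
import Groth.Agent.EtaleSite.TopInvLift
import Groth.Agent.S0593
import Mathlib.CategoryTheory.Sites.DenseSubsite.SheafEquiv

/-!
# Topological invariance of the pro-étale site

Base change along an integral universally injective surjection is a dense subsite.
-/

set_option autoImplicit false
set_option linter.style.haveILetI false
set_option backward.isDefEq.respectTransparency false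
set_option backward.isDefEq.respectTransparency.types false

universe u

open CategoryTheory CategoryTheory.Limits AlgebraicGeometry Opposite

noncomputable section

namespace Groth.Agent.ProEtS.TopInv

open Groth.Agent.ProEtS

variable {Z X : Scheme.{u}} (i : Z ⟶ X) [IsIntegralHom i] [UniversallyInjective i] [Surjective i]

local notation "G" => _root_.ProEtS.bcP i

omit [IsIntegralHom i] [UniversallyInjective i] [Surjective i] in
theorem map_fst {U V : X.ProEt} (f : U ⟶ V) :
    ((G).map f).left ≫ pullback.fst V.hom i = pullback.fst U.hom i ≫ f.left :=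
  pullback.lift_fst _ _ _

omit [IsIntegralHom i] [UniversallyInjective i] [Surjective i] in
/-- Morphisms of the pro-étale site are weakly étale. -/
theorem weaklyEtale_left {U V : X.ProEt} (f : U ⟶ V) : WeaklyEtale f.left := by
  haveI : WeaklyEtale V.hom := V.prop
  haveI : WeaklyEtale (f.left ≫ V.hom) := by
    rw [show f.left ≫ V.hom = U.hom from MorphismProperty.Over.w f]; exact U.prop
  exact WeaklyEtale.of_comp f.left V.hom

/-- Base change is faithful. -/
theorem faithful : (G).Faithful := ⟨fun {U V} f g h => by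
  haveI : Surjective (pullback.fst U.hom i) := MorphismProperty.pullback_fst _ _ ‹_›
  haveI : WeaklyEtale V.hom := V.prop
  refine MorphismProperty.Over.Hom.ext (LiftObj.eq_of_agree V.hom (pullback.fst U.hom i)
    (fun x => ?_) f.left g.left
    ((MorphismProperty.Over.w f).trans (MorphismProperty.Over.w g).symm) ?_)
  · obtain ⟨y, rfl⟩ := (pullback.fst U.hom i).surjective x
    exact ⟨y, specializes_rfl⟩
  · rw [← map_fst, ← map_fst, h]⟩

omit [UniversallyInjective i] in
/-- Coverings are detected after base change. -/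
theorem mem_of_map_mem {V : X.ProEt} {S : Sieve V}
    (hS : S.functorPushforward G ∈ Scheme.ProEt.topology Z ((G).obj V)) :
    S ∈ Scheme.ProEt.topology X V := by
  haveI : WeaklyEtale V.hom := V.prop
  haveI : ∀ O : V.left.affineOpens, WeaklyEtale (O.1.ι ≫ V.hom) := fun O =>
    MorphismProperty.comp_mem (W := @WeaklyEtale) _ _ (show WeaklyEtale _ from inferInstance) V.prop
  let V₀ : V.left.affineOpens → X.ProEt := fun O => Scheme.ProEt.mk (O.1.ι ≫ V.hom)
  let g : ∀ O, V₀ O ⟶ V := fun O => MorphismProperty.Over.homMk O.1.ι rfl trivial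
  refine GrothendieckTopology.transitive _ (Site.generate_mem V₀ g
    (Scheme.etalePrecoverage_le_proetalePrecoverage _
      ((Scheme.ofArrows_mem_precoverage_iff @Etale).2 ⟨fun x => ?_,
        fun O => inferInstanceAs (Etale O.1.ι)⟩))) S ?_
  · obtain ⟨O, hxO⟩ := Covers.affineOpens_cover V.left x
    exact ⟨O, (Scheme.Opens.range_ι O.1).ge hxO⟩
  rintro T _ ⟨T', k, _, ⟨O⟩, rfl⟩
  rw [Sieve.pullback_comp]
  refine GrothendieckTopology.pullback_stable _ k ?_
  haveI : IsAffine (V₀ O).left := O.2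
  let m : ((G).obj (V₀ O)).left ⟶ (V₀ O).left := pullback.fst (V₀ O).hom i
  haveI : Surjective m := MorphismProperty.pullback_fst _ _ ‹Surjective i›
  haveI : IsAffineHom m := MorphismProperty.pullback_fst _ _ (inferInstance : IsAffineHom i)
  haveI : IsAffine ((G).obj (V₀ O)).left := isAffine_of_isAffineHom m
  obtain ⟨n, V', b, hV', hb, -, hcov⟩ := HColim.exists_affine_cover
    (GrothendieckTopology.pullback_stable _ ((G).map (g O)) hS)
  choose W s t hs heq using hb
  let r : ∀ k, (V' k).left ⟶ (W k).left := fun k => (t k).left ≫ pullback.fst (W k).hom i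
  have hr : ∀ k, r k ≫ (s k).left = (b k).left ≫ m ≫ O.1.ι := fun k => by
    have h := congrArg (fun q : V' k ⟶ (G).obj V => q.left ≫ pullback.fst V.hom i) (heq k)
    exact ((Category.assoc _ _ _).trans ((congrArg ((t k).left ≫ ·) (map_fst i (s k)).symm).trans
      ((Category.assoc _ _ _).symm.trans (h.symm.trans ((Category.assoc _ _ _).trans
        (congrArg ((b k).left ≫ ·) (map_fst i (g O)))))))  :)
  have hK : ∀ k, IsCompact (Set.range (r k)) := fun k =>
    haveI := hV' k
    isCompact_range (r k).continuous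
  have hA : ∀ k, ∀ w : (W k).left, (s k).left w ∈ O.1 →
      ∃ A : (W k).left.Opens, IsAffineOpen A ∧ w ∈ A ∧ A ≤ (s k).left ⁻¹ᵁ O.1 := fun k w hw => by
    obtain ⟨A, hA, hwA, hAO⟩ := exists_isAffineOpen_mem_and_subset (x := w)
      (U := (s k).left ⁻¹ᵁ O.1) hw
    exact ⟨A, hA, hwA, hAO⟩
  have hrO : ∀ k z, (s k).left (r k z) ∈ O.1 := fun k z => by
    rw [← Scheme.Hom.comp_apply, hr, Scheme.Hom.comp_apply, Scheme.Hom.comp_apply]
    exact (m ((b k).left z)).2
  choose A hA' hwA hAO using hA
  choose t' ht' using fun k => (hK k).elim_finite_subcover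
    (fun z : (V' k).left => (A k (r k z) (hrO k z) : Set (W k).left))
    (fun z => (A k (r k z) (hrO k z)).isOpen)
    (by rintro _ ⟨z, rfl⟩; exact Set.mem_iUnion.2 ⟨z, hwA k _ _⟩)
  let ι := (k : Fin n) × t' k
  obtain ⟨N, ⟨e⟩⟩ := Finite.exists_equiv_fin ι
  let A' : ∀ a : Fin N, (W (e.symm a).1).left.Opens := fun a =>
    A (e.symm a).1 (r _ (e.symm a).2.1) (hrO _ _)
  let l : ∀ a, (A' a : Scheme.{u}) ⟶ (V₀ O).left := fun a =>
    IsOpenImmersion.lift O.1.ι ((A' a).ι ≫ (s (e.symm a).1).left) (by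
      rintro _ ⟨w, rfl⟩
      exact (Scheme.Opens.range_ι O.1).ge (hAO (e.symm a).1 _ _ w.2))
  have hl : ∀ a, l a ≫ O.1.ι = (A' a).ι ≫ (s (e.symm a).1).left := fun a =>
    IsOpenImmersion.lift_fac _ _ _
  haveI : ∀ a, WeaklyEtale ((A' a).ι ≫ (W (e.symm a).1).hom) := fun a =>
    MorphismProperty.comp_mem (W := @WeaklyEtale) _ _ (show WeaklyEtale _ from inferInstance)
      (W (e.symm a).1).prop
  let U : Fin N → X.ProEt := fun a => Scheme.ProEt.mk ((A' a).ι ≫ (W (e.symm a).1).hom)
  let u : ∀ a, U a ⟶ V₀ O := fun a => MorphismProperty.Over.homMk (l a) (by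
    show l a ≫ O.1.ι ≫ V.hom = (A' a).ι ≫ (W (e.symm a).1).hom
    rw [← Category.assoc, hl, Category.assoc]
    exact congrArg ((A' a).ι ≫ ·) (MorphismProperty.Over.w (s (e.symm a).1))) trivial
  haveI : ∀ a, IsAffine (U a).left := fun a => hA' _ _ _
  refine GrothendieckTopology.superset_covering _ ?_
    (HColim.mem_of_finite U u (fun a => weaklyEtale_left (u a)) fun x => ?_)
  · rintro T'' _ ⟨_, c, _, ⟨a⟩, rfl⟩
    show S ((c ≫ u a) ≫ g O)
    rw [Category.assoc]
    refine S.downward_closed ?_ c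
    have : u a ≫ g O = (MorphismProperty.Over.homMk (A' a).ι rfl trivial : U a ⟶ W (e.symm a).1) ≫
        s (e.symm a).1 := MorphismProperty.Over.Hom.ext (by exact hl a)
    rw [this]
    exact S.downward_closed (hs _) _
  · obtain ⟨y, rfl⟩ := m.surjective x
    obtain ⟨k, z, rfl⟩ := hcov y
    obtain ⟨z', hz', hmem⟩ := Set.mem_iUnion₂.1 (ht' k ⟨z, rfl⟩)
    refine ⟨e ⟨k, z', hz'⟩, ?_⟩
    obtain ⟨a, ha⟩ : ∃ a : ι, a = ⟨k, z', hz'⟩ := ⟨_, rfl⟩
    rw [← ha]
    have : ∀ a' : ι, a' = a → ∃ w : (A a'.1 (r _ a'.2.1) (hrO _ _) : Scheme.{u}),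
        (s a'.1).left ((A a'.1 (r _ a'.2.1) (hrO _ _)).ι w) = O.1.ι (m ((b k).left z)) := by
      rintro a' rfl
      subst ha
      refine ⟨⟨r k z, hmem⟩, ?_⟩
      show (s k).left (r k z) = _
      rw [← Scheme.Hom.comp_apply, hr, Scheme.Hom.comp_apply, Scheme.Hom.comp_apply]
      rfl
    obtain ⟨w, hw⟩ := this _ (e.symm_apply_apply a)
    refine ⟨w, O.1.ι.isOpenEmbedding.injective ?_⟩
    show (l (e a) ≫ O.1.ι) w = _
    rw [hl]
    exact hw

/-- Maps into presented objects descend. -/
theorem exists_preimage_pres {T Q : X.ProEt} (P : EtPres.Pres Q) (m : (G).obj T ⟶ (G).obj Q) :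
    ∃ f : T ⟶ Q, (G).map f = m := by
  haveI := Site.pCont i
  haveI := Site.epsCont Z
  haveI := Site.epsCont X
  obtain ⟨hc⟩ := P.hc
  obtain ⟨hb⟩ := PushEps.isLimit_bcCone i P
  let D := P.D ⋙ _root_.ProEtS.eps X
  have hbij : ∀ j, Function.Bijective (fun φ : T.toComma ⟶ (D.obj j).toComma =>
      (Over.pullback i).map φ) := fun j =>
    haveI : Etale (D.obj j).toComma.hom := (P.D.obj j).prop
    EtaleSite.bijective_pullback_map i (D.obj j).toComma T.toComma
  choose a ha₀ using fun j => (hbij j).2 (m ≫ (G).map (P.p.app j)).hom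
  have ha : ∀ j, (Over.pullback i).map (a j) = (m ≫ (G).map (P.p.app j)).hom := ha₀
  have hw : ∀ {j k : P.I} (φ : j ⟶ k), a j ≫ (D.map φ).hom = a k := fun {j k} φ => by
    refine (hbij k).1 ?_
    show (Over.pullback i).map _ = (Over.pullback i).map _
    rw [Functor.map_comp, ha, ha]
    show (m ≫ (G).map (P.p.app j) ≫ (G).map (D.map φ)).hom = _
    rw [← Functor.map_comp]
    congr 3
    exact (P.p.naturality φ).symm.trans (Category.id_comp _)
  let s : Cone (D ⋙ CovCech.toSch X) :=
    { pt := T.left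
      π :=
        { app := fun j => (a j).left
          naturality := fun j k φ => (Category.id_comp _).trans (congrArg CommaMorphism.left (hw φ)).symm } }
  obtain ⟨j₀⟩ := IsCofiltered.nonempty (C := P.I)
  have hfac : ∀ j, hc.lift s ≫ (P.p.app j).left = (a j).left := fun j => hc.fac s j
  let f : T ⟶ Q := MorphismProperty.Over.homMk (hc.lift s) (by
    show hc.lift s ≫ Q.hom = T.hom
    exact ((congrArg (hc.lift s ≫ ·) (MorphismProperty.Over.w (P.p.app j₀))).symm.trans
      ((Category.assoc _ _ _).symm.trans ((congrArg (· ≫ (D.obj j₀).hom) (hfac j₀)).trans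
        (Over.w (a j₀))))  :)) trivial
  refine ⟨f, MorphismProperty.Over.Hom.ext (hb.hom_ext fun j => ?_)⟩
  show ((G).map f ≫ (G).map (P.p.app j)).left = (m ≫ (G).map (P.p.app j)).left
  refine Eq.trans ?_ (congrArg CommaMorphism.left (ha j))
  rw [← Functor.map_comp]
  show ((Over.pullback i).map (f ≫ P.p.app j).hom).left = _
  congr 2
  exact Over.OverMorphism.ext (hfac j)

/-- Presented objects over `Z` are base changes of presented objects over `X`. -/
theorem exists_lift_pres {W : Z.ProEt} (P : EtPres.Pres W) :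
    ∃ (T : X.ProEt) (_ : EtPres.Pres T), Nonempty ((G).obj T ≅ W) := by
  haveI := Site.pCont i
  haveI := Site.epsCont Z
  haveI := Site.epsCont X
  haveI : (EtCoh.bc i).IsEquivalence :=
    EtaleSite.TopInvLift.isEquivalence_bc_of_universalHomeomorph i
  let E := (EtCoh.bc i).asEquivalence
  let D : P.I ⥤ X.Etale := P.D ⋙ E.inverse
  let φ : D ⋙ EtCoh.bc i ≅ P.D :=
    Functor.associator _ _ _ ≪≫ Functor.isoWhiskerLeft P.D E.counitIso ≪≫ Functor.rightUnitor _
  haveI haff : ∀ j, IsAffine (D.obj j).left := fun j => by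
    let π : ((EtCoh.bc i).obj (D.obj j)).left ⟶ (D.obj j).left := pullback.fst (D.obj j).hom i
    haveI : IsIntegralHom π := MorphismProperty.pullback_fst _ _ ‹_›
    haveI : Surjective π := MorphismProperty.pullback_fst _ _ ‹_›
    haveI : IsAffine ((Scheme.Etale.forget Z ⋙ Over.forget Z).obj (P.D.obj j)) := P.affine j
    haveI : IsAffine ((EtCoh.bc i).obj (D.obj j)).left :=
      IsAffine.of_isIso ((Scheme.Etale.forget Z ⋙ Over.forget Z).map (φ.hom.app j))
    exact S0593.result _ _ π
  obtain ⟨j₀⟩ := IsCofiltered.nonempty (C := P.I)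
  let A := Γ((D.obj j₀).left, ⊤)
  let S : P.I ⥤ Scheme.{u} := D ⋙ Scheme.Etale.forget X ⋙ Over.forget X
  haveI : ∀ j, IsAffine (S.obj j) := haff
  let Dia : (Over j₀)ᵒᵖ ⥤ Under A :=
    { obj := fun k => Under.mk (S.map k.unop.hom).appTop
      map := fun {k l} a => Under.homMk (S.map a.unop.left).appTop (by
        show (S.map k.unop.hom).appTop ≫ (S.map a.unop.left).appTop = (S.map l.unop.hom).appTop
        rw [← Scheme.Hom.comp_appTop, ← Functor.map_comp, Over.w])
      map_id := fun k => by ext; simp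
      map_comp := fun a b => by ext; simp }
  let c := colimit.cocone Dia
  have hcl : IsColimit c := colimit.isColimit Dia
  let B := c.pt.right
  letI : Algebra A B := c.pt.hom.hom.toAlgebra
  have hInd : IndAlg.IsInd (IndAlg.Etale.Et A) B := by
    refine ⟨(Over j₀)ᵒᵖ, inferInstance, inferInstance, Dia, c, hcl, fun k => ?_, ⟨Iso.refl _⟩⟩
    haveI : Etale (S.map k.unop.hom) := by
      have h : Etale ((S.map k.unop.hom) ≫ (D.obj j₀).hom) := by
        rw [show S.map k.unop.hom ≫ (D.obj j₀).hom = (D.obj k.unop.left).hom from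
          MorphismProperty.Over.w (D.map k.unop.hom)]
        exact (D.obj k.unop.left).prop
      exact MorphismProperty.of_postcomp (W' := @Etale) @Etale _ _ (D.obj j₀).prop h
    exact RingHom.etale_algebraMap.1 ((HasRingHomProperty.iff_of_isAffine (P := @Etale)).1 ‹_›)
  let e₀ : Spec B ⟶ S.obj j₀ := Spec.map c.pt.hom ≫ (S.obj j₀).isoSpec.inv
  haveI : WeaklyEtale (Spec.map c.pt.hom) :=
    (Affine.weaklyEtale_SpecMap_iff A B).2 (IndAlg.Etale.weaklyEtale (IndAlg.fac_of_isInd hInd))
  haveI : Etale (D.obj j₀).hom := (D.obj j₀).prop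
  haveI : WeaklyEtale (e₀ ≫ (D.obj j₀).hom) :=
    MorphismProperty.comp_mem (W := @WeaklyEtale) _ _ (show WeaklyEtale e₀ from inferInstance)
      (show WeaklyEtale (D.obj j₀).hom from inferInstance)
  let T : X.ProEt := Scheme.ProEt.mk (e₀ ≫ (D.obj j₀).hom)
  haveI : IsConnected (Over j₀)ᵒᵖ := IsFiltered.isConnected _
  have h₂ := isColimitOfPreserves (Under.forget A) hcl
  have h₃ := isLimitOfPreserves Scheme.Spec h₂.op
  -- the cone over `Over j₀`
  let c₁ : Cone (Over.forget j₀ ⋙ S) :=
    { pt := Spec B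
      π :=
        { app := fun k => Spec.map (c.ι.app (op k)).right ≫ (S.obj k.left).isoSpec.inv
          naturality := fun k l a => by
            show 𝟙 _ ≫ _ = (_ ≫ _) ≫ S.map a.left
            rw [Category.id_comp, Category.assoc, ← Scheme.isoSpec_inv_naturality, ← Category.assoc,
              ← Spec.map_comp]
            congr 2
            exact (congrArg (fun q : Dia.obj (op l) ⟶ c.pt => q.right) (c.w a.op)).symm } }
  let δ : (Dia ⋙ Under.forget A).op ⋙ Scheme.Spec ≅
      (opOpEquivalence (Over j₀)).functor ⋙ Over.forget j₀ ⋙ S :=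
    NatIso.ofComponents (fun k => (S.obj k.unop.unop.left).isoSpec.symm)
      (fun {k l} a => by
        haveI : IsAffine (S.obj k.unop.unop.left) := haff _
        haveI : IsAffine (S.obj l.unop.unop.left) := haff _
        exact Scheme.isoSpec_inv_naturality (S.map a.unop.unop.left))
  have hc₁ : IsLimit c₁ :=
    (Functor.Initial.isLimitWhiskerEquiv (opOpEquivalence (Over j₀)).functor c₁)
      (IsLimit.ofIsoLimit ((IsLimit.postcomposeHomEquiv δ _).symm h₃)
        (Cone.ext (Iso.refl _) fun k => (Category.id_comp _).symm))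
  let c₀ : Cone S := Functor.Initial.extendCone.obj c₁
  have hc₀ : IsLimit c₀ := (Functor.Initial.isLimitExtendConeEquiv (Over.forget j₀) c₁).symm hc₁
  have hj₀ : ∀ j, c₀.π.app j ≫ (D.obj j).hom = T.hom := fun j => by
    obtain ⟨k, a, b, -⟩ := IsCofilteredOrEmpty.cone_objs j j₀
    let k' : Over j₀ := Over.mk b
    have e1 : c₀.π.app k ≫ S.map a = c₀.π.app j := c₀.w a
    have e2 : c₀.π.app k = c₁.π.app k' :=
      (Functor.Initial.extendCone_obj_π_app' c₁ (X := k') (𝟙 k)).trans
        ((congrArg (c₁.π.app k' ≫ ·) (S.map_id k)).trans (Category.comp_id _))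
    rw [← e1, Category.assoc,
      show S.map a ≫ (D.obj j).hom = (D.obj k).hom from MorphismProperty.Over.w (D.map a),
      ← show S.map b ≫ (D.obj j₀).hom = (D.obj k).hom from MorphismProperty.Over.w (D.map b), e2]
    show (Spec.map (c.ι.app (op k')).right ≫ (S.obj k).isoSpec.inv) ≫ S.map b ≫ _ = _ ≫ _
    rw [← Category.assoc, Category.assoc (Spec.map _), ← Scheme.isoSpec_inv_naturality,
      ← Category.assoc, ← Spec.map_comp]
    congr 3
    exact Under.w (c.ι.app (op k'))
  let p : (Functor.const P.I).obj T ⟶ D ⋙ _root_.ProEtS.eps X :=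
    { app := fun j => MorphismProperty.Over.homMk (c₀.π.app j) (hj₀ j) trivial
      naturality := fun j k a => (Category.id_comp _).trans
        (MorphismProperty.Over.Hom.ext (c₀.w a).symm) }
  let P' : EtPres.Pres T :=
    { I := P.I
      D := D
      affine := haff
      p := p
      hc := ⟨IsLimit.ofIsoLimit hc₀ (Cone.ext (Iso.refl _) fun j => (Category.id_comp _).symm)⟩ }
  obtain ⟨hb⟩ := PushEps.isLimit_bcCone i P'
  obtain ⟨hW⟩ := P.hc
  let ψ : PushEps.bcD i P' ≅ P.D ⋙ _root_.ProEtS.eps Z :=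
    Functor.associator _ _ _ ≪≫ Functor.isoWhiskerLeft D (PushEps.siteIso i) ≪≫
      (Functor.associator _ _ _).symm ≪≫ Functor.isoWhiskerRight φ (_root_.ProEtS.eps Z)
  let Ψ := Functor.isoWhiskerRight ψ (CovCech.toSch Z)
  let ε := hb.conePointsIsoOfNatIso hW Ψ
  refine ⟨T, P', ⟨MorphismProperty.Over.isoMk ε ?_⟩⟩
  have h := IsLimit.conePointsIsoOfNatIso_hom_comp hb hW Ψ j₀
  show ε.hom ≫ W.hom = ((G).obj T).hom
  refine (((congrArg (ε.hom ≫ ·) (MorphismProperty.Over.w (P.p.app j₀))).symm.trans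
    ((Category.assoc _ _ _).symm.trans (congrArg (· ≫ (P.D.obj j₀).hom) h))) :).trans ?_
  show (((G).map (p.app j₀)).left ≫ (ψ.hom.app j₀).left) ≫ (P.D.obj j₀).hom = _
  rw [Category.assoc]
  exact ((congrArg (_ ≫ ·) (MorphismProperty.Over.w (ψ.hom.app j₀))).trans
    (MorphismProperty.Over.w ((G).map (p.app j₀))) :)

/-- Images of presented objects cover. -/
theorem mem_of_pres {T : Z.ProEt} (S : Sieve T)
    (h : ∀ (P : X.ProEt) (_ : EtPres.Pres P) (b : (G).obj P ⟶ T), S b) :
    S ∈ Scheme.ProEt.topology Z T :=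
  EtPres.mem_topology T S fun W P b => by
    obtain ⟨T', P', ⟨e⟩⟩ := exists_lift_pres i P
    have := S.downward_closed (h T' P' (e.hom ≫ b)) e.inv
    rwa [e.inv_hom_id_assoc] at this

theorem isCoverDense : (G).IsCoverDense (Scheme.ProEt.topology Z) :=
  ⟨fun T => mem_of_pres i _ fun _ _ b => Presieve.in_coverByImage (G) b⟩

theorem functorPushforward_mem_iff {V : X.ProEt} {S : Sieve V} :
    S.functorPushforward G ∈ Scheme.ProEt.topology Z ((G).obj V) ↔
      S ∈ Scheme.ProEt.topology X V :=
  ⟨mem_of_map_mem i, fun h => (Site.coverPreserving_bcP i).cover_preserve h⟩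

theorem isLocallyFull : (G).IsLocallyFull (Scheme.ProEt.topology Z) := ⟨fun {U V} f => by
  refine (functorPushforward_mem_iff i).2 (GrothendieckTopology.transitive _
    (EtPres.mem_topology U
      (Sieve.generate (fun W b => Nonempty (EtPres.Pres W) : Presieve U))
      fun W P b => Sieve.le_generate _ _ _ ⟨P⟩) _ ?_)
  rintro _ _ ⟨W, k, b, ⟨P⟩, rfl⟩
  rw [Sieve.pullback_comp]
  refine GrothendieckTopology.pullback_stable _ k (mem_of_map_mem i ?_)
  let h : (G).obj W ⟶ (G).obj V := (G).map b ≫ f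
  let SV : Sieve V := Sieve.generate (fun Q q => Nonempty (EtPres.Pres Q) : Presieve V)
  have hSV : SV.functorPushforward G ∈ Scheme.ProEt.topology Z ((G).obj V) :=
    (functorPushforward_mem_iff i).2
      (EtPres.mem_topology V SV fun Q P' q => Sieve.le_generate _ _ _ ⟨P'⟩)
  refine GrothendieckTopology.transitive _ (GrothendieckTopology.pullback_stable _ h hSV) _ ?_
  rintro T r ⟨W', s, t, ⟨Q, l, q, ⟨PQ⟩, hlq⟩, ht⟩
  refine mem_of_pres i _ fun P'' _ d => ?_
  obtain ⟨a, ha⟩ := exists_preimage_pres i P (d ≫ r)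
  obtain ⟨c, hc⟩ := exists_preimage_pres i PQ (d ≫ t ≫ (G).map l)
  show ((Functor.imageSieve G f).pullback b).functorPushforward G (d ≫ r)
  rw [← ha]
  refine Sieve.image_mem_functorPushforward _ _ ?_
  refine ⟨c ≫ q, ?_⟩
  rw [Functor.map_comp, Functor.map_comp, hc, ha]
  simp only [Category.assoc]
  rw [← Functor.map_comp, hlq]
  exact congrArg (d ≫ ·) ht.symm⟩

/-- Base change along a universal homeomorphism is a dense subsite of pro-étale sites. -/
theorem isDenseSubsite :
    (G).IsDenseSubsite (Scheme.ProEt.topology X) (Scheme.ProEt.topology Z) :=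
  haveI := faithful i
  { isCoverDense' := isCoverDense i
    isLocallyFull' := isLocallyFull i
    functorPushforward_mem_iff := functorPushforward_mem_iff i }

/-- Direct image along a universal homeomorphism is an equivalence. -/
theorem isEquivalence_pushP [_root_.ProEtS.PCont i] : (_root_.ProEtS.pushP i).IsEquivalence := by
  haveI := isDenseSubsite i
  infer_instance

end Groth.Agent.ProEtS.TopInv
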